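import Groth.Agent.FlatDescent.FibreDepth.Chart
import Groth.Prelude.Def_FDesc
import Groth.Agent.FibreSemi.Basic
import Groth.Agent.QCohLib.StalkLoc

/-!
# Invariants of modules on fibres, as functions on the total space
-/

universe u

open CategoryTheory CategoryTheory.Limits AlgebraicGeometry TopologicalSpace LocCoh
open Groth.Agent

namespace Groth.FlatDescent.FibreDepth

variable {X Y : Scheme.{u}}

theorem fiber_cases (f : X ⟶ Y) {y : Y} (v : f.fiber y) {motive : (y : Y) → f.fiber y → Prop}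
    (h : motive (f (f.fiberι y v)) (f.asFiber (f.fiberι y v))) : motive y v := by
  have key : ∀ (x : X) (y : Y) (v : f.fiber y), f.fiberι y v = x → f x = y → motive (f x) (f.asFiber x) → motive y v := by
    rintro x y v hx rfl h
    rwa [show v = f.asFiber x from (f.fiberι _).isEmbedding.injective (hx.trans (f.fiberι_asFiber x).symm)]
  refine key _ y v rfl ?_ h
  have : f.fiberι y v ∈ Set.range (f.fiberι y) := ⟨v, rfl⟩
  rwa [Scheme.Hom.range_fiberι] at this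

theorem fiberι_specializes (f : X ⟶ Y) {y : Y} {v v' : f.fiber y} : f.fiberι y v' ⤳ f.fiberι y v ↔ v' ⤳ v :=
  (f.fiberι y).isEmbedding.toIsInducing.specializes_iff

namespace Chart

variable {f : X ⟶ Y} {F : X.Modules} (C : Chart f F)

theorem le_iff (z w : C.W) : z.1 ⤳ w.1 ↔ (C.ι z).asIdeal ≤ (C.ι w).asIdeal := by
  rw [show ((C.ι z).asIdeal ≤ (C.ι w).asIdeal) ↔ C.ι z ⤳ C.ι w from PrimeSpectrum.le_iff_specializes _ _,
    C.emb.isEmbedding.toIsInducing.specializes_iff]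
  exact Topology.IsEmbedding.subtypeVal.toIsInducing.specializes_iff

theorem finite_module : Module.Finite (MvPolynomial (Fin C.n) C.A) C.M := inferInstance

/-- The invariants in a chart. -/
theorem invariants {y : Y} (v : f.fiber y) (w : C.W) (hw : f.fiberι y v = w.1) :
    dpt f F v = dep C.A C.M (C.ι w) ∧ sdm f F v = dm C.A C.M (C.ι w) ∧
    (∀ k, HasSk k ((f.fiber y).presheaf.stalk v) (fibN f F v) ↔
      HasSk k (Localization.AtPrime (C.ι w).asIdeal) (NQ C.A C.M (C.ι w))) ∧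
    (EGA4.IsEquidimModule ((f.fiber y).presheaf.stalk v) (fibN f F v) ↔
      EGA4.IsEquidimModule (Localization.AtPrime (C.ι w).asIdeal) (NQ C.A C.M (C.ι w))) ∧
    (Nontrivial (fibN f F v) ↔ Nontrivial (F.presheaf.stalk w.1)) ∧
    Module.Finite ((f.fiber y).presheaf.stalk v) (fibN f F v) := by
  have h : f.fiberι y v ∈ C.W := hw ▸ w.2
  obtain rfl : w = ⟨_, h⟩ := Subtype.ext hw.symm
  obtain ⟨ψ, hψ, E, hE⟩ := C.semilinear y v h
  refine ⟨(depth_transfer ψ hψ E hE).symm, (supportDim_transfer ψ hψ E hE).symm,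
    fun k => (hasSk_transfer ψ hψ E hE k).symm, (isEquidimModule_transfer ψ hψ E hE).symm,
    E.symm.toEquiv.nontrivial_congr.trans ((nontrivial_nq_iff C.M _).trans (C.mem_supp _)), ?_⟩
  letI := ψ.toAlgebra
  letI : Module (Localization.AtPrime (C.ι ⟨_, h⟩).asIdeal) (fibN f F v) := Module.compHom _ ψ
  haveI : IsScalarTower (Localization.AtPrime (C.ι ⟨_, h⟩).asIdeal) ((f.fiber y).presheaf.stalk v) (fibN f F v) :=
    IsScalarTower.of_algebraMap_smul fun _ _ => rfl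
  haveI : Module.Finite (Localization.AtPrime (C.ι ⟨_, h⟩).asIdeal) (fibN f F v) :=
    Module.Finite.equiv ({ E with map_smul' := hE } : _ ≃ₗ[Localization.AtPrime (C.ι ⟨_, h⟩).asIdeal] fibN f F v)
  exact Module.Finite.of_restrictScalars_finite (Localization.AtPrime (C.ι ⟨_, h⟩).asIdeal) _ _

end Chart

variable (f : X ⟶ Y) (F : X.Modules)

/-- Depth at a point of the total space. -/
noncomputable def pdepth (x : X) : ℕ∞ := dpt f F (f.asFiber x)

/-- Dimension of the support at a point of the total space. -/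
noncomputable def psdm (x : X) : WithBot ℕ∞ := sdm f F (f.asFiber x)

/-- The support. -/
def Sp : Set X := {x | Nontrivial (F.presheaf.stalk x)}

/-- Rectified depth. -/
noncomputable def prof (x : X) : WithBot ℕ∞ := ((pdepth f F x : ℕ∞) : WithBot ℕ∞) + FibreDim.fdim f x

/-- The dimension of the support in the fibre at a point. -/
noncomputable def delta (x : X) : WithBot ℕ∞ := psdm f F x + FibreDim.fdim f x

variable [LocallyOfFinitePresentation f] (hF : CohB1.IsFP F)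

include hF

theorem chart_point (x : X) : ∃ (C : Chart f F) (hx : x ∈ C.W),
    pdepth f F x = dep C.A C.M (C.ι ⟨x, hx⟩) ∧ psdm f F x = dm C.A C.M (C.ι ⟨x, hx⟩) ∧
      FibreDim.fdim f x = FibreDim.fdim (affMap C.A C.n) (C.ι ⟨x, hx⟩) := by
  obtain ⟨C, hx⟩ := exists_chart f F hF x
  obtain ⟨h1, h2, -⟩ := C.invariants (f.asFiber x) ⟨x, hx⟩ (f.fiberι_asFiber x)
  exact ⟨C, hx, h1, h2, C.fdim_eq ⟨x, hx⟩⟩

theorem nontrivial_fibN_iff {y : Y} (v : f.fiber y) : Nontrivial (fibN f F v) ↔ f.fiberι y v ∈ Sp F := by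
  obtain ⟨C, hx⟩ := exists_chart f F hF (f.fiberι y v)
  exact (C.invariants v ⟨_, hx⟩ rfl).2.2.2.2.1

theorem finite_fibN {y : Y} (v : f.fiber y) : Module.Finite ((f.fiber y).presheaf.stalk v) (fibN f F v) := by
  obtain ⟨C, hx⟩ := exists_chart f F hF (f.fiberι y v)
  exact (C.invariants v ⟨_, hx⟩ rfl).2.2.2.2.2

omit hF in
theorem isNoetherianRing_fibre_stalk {y : Y} (v : f.fiber y) : IsNoetherianRing ((f.fiber y).presheaf.stalk v) := by
  haveI : LocallyOfFiniteType f := inferInstance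
  haveI : LocallyOfFiniteType (f.fiberToSpecResidueField y) := MorphismProperty.pullback_snd _ _ ‹LocallyOfFiniteType f›
  haveI : IsLocallyNoetherian (f.fiber y) := LocallyOfFiniteType.isLocallyNoetherian (f.fiberToSpecResidueField y)
  infer_instance

theorem psdm_cases (x : X) : (x ∉ Sp F ∧ psdm f F x = ⊥ ∧ pdepth f F x = ⊤) ∨
    (x ∈ Sp F ∧ ∃ D d : ℕ, psdm f F x = D ∧ pdepth f F x = d ∧ d ≤ D) := by
  haveI := finite_fibN f F hF (f.asFiber x)
  haveI := isNoetherianRing_fibre_stalk f (f.asFiber x)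
  have hN := nontrivial_fibN_iff f F hF (f.asFiber x)
  rw [f.fiberι_asFiber] at hN
  by_cases hx : x ∈ Sp F
  · haveI := hN.mpr hx
    obtain ⟨D, hD⟩ := DepthLib.exists_nat_supportDim (R := (f.fiber (f x)).presheaf.stalk (f.asFiber x)) (fibN f F (f.asFiber x))
    obtain ⟨d, hd⟩ := DepthLib.exists_nat_depth (R := (f.fiber (f x)).presheaf.stalk (f.asFiber x)) (fibN f F (f.asFiber x))
    refine Or.inr ⟨hx, D, d, hD, hd, ?_⟩
    have h := DepthLib.depth_le_supportDim (R := (f.fiber (f x)).presheaf.stalk (f.asFiber x)) (fibN f F (f.asFiber x))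
    rw [hD, hd] at h
    exact_mod_cast h
  · haveI : Subsingleton (fibN f F (f.asFiber x)) := not_nontrivial_iff_subsingleton.mp fun h => hx (hN.mp h)
    exact Or.inl ⟨hx, Module.supportDim_eq_bot_of_subsingleton _ _, DepthLib.depth_eq_top_of_subsingleton⟩

omit hF in
theorem exists_fd (x : X) : ∃ d : ℕ, FibreDim.fdim f x = d :=
  (FibreDim.exists_fdim f x).imp fun _ h => h.1

/-- Upper bound and attainment of the dimension of the support. -/
theorem fdim_le_delta {z x : X} (h : z ⤳ x) (hf : f z = f x) (hz : z ∈ Sp F) :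
    FibreDim.fdim f z ≤ delta f F x := by
  obtain ⟨C, hx, -, h2, h3⟩ := chart_point f F hF x
  have hzW : z ∈ C.W := h.mem_open C.W.2 hx
  rw [delta, h2, h3, C.fdim_eq ⟨z, hzW⟩]
  exact fdim_le_dm_add C.M ((C.le_iff ⟨z, hzW⟩ ⟨x, hx⟩).mp h) ((C.f_eq ⟨z, hzW⟩ ⟨x, hx⟩).mp hf)
    ((C.mem_supp ⟨z, hzW⟩).mpr hz)

theorem exists_fdim_eq_delta {x : X} (hx : x ∈ Sp F) :
    ∃ z : X, z ⤳ x ∧ f z = f x ∧ z ∈ Sp F ∧ FibreDim.fdim f z = delta f F x := by
  obtain ⟨C, hxW, -, h2, h3⟩ := chart_point f F hF x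
  obtain ⟨Q₀, hle, hp, hM, heq⟩ := exists_fdim_eq_dm_add C.M ((C.mem_supp ⟨x, hxW⟩).mpr hx)
  obtain ⟨z, rfl⟩ := C.supp hM
  refine ⟨z.1, (C.le_iff z ⟨x, hxW⟩).mpr hle, (C.f_eq z ⟨x, hxW⟩).mpr hp, (C.mem_supp z).mp hM, ?_⟩
  rw [C.fdim_eq z, delta, h2, h3, heq]

theorem fdim_lt_of_ne {z x : X} (h : z ⤳ x) (hf : f z = f x) (hne : z ≠ x) :
    FibreDim.fdim f x < FibreDim.fdim f z := by
  obtain ⟨C, hxW, -, -, h3⟩ := chart_point f F hF x
  have hzW : z ∈ C.W := h.mem_open C.W.2 hxW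
  have hle := (C.le_iff ⟨z, hzW⟩ ⟨x, hxW⟩).mp h
  have hp := (C.f_eq ⟨z, hzW⟩ ⟨x, hxW⟩).mp hf
  rw [h3, C.fdim_eq ⟨z, hzW⟩, fdim_eq_add hle hp]
  obtain ⟨hq, hq', -⟩ := exists_fibre_prime hle hp
  let L := Localization.AtPrime (C.ι ⟨x, hxW⟩).asIdeal
  let q := (C.ι ⟨z, hzW⟩).asIdeal.map (algebraMap (MvPolynomial (Fin C.n) C.A) L)
  haveI : q.IsPrime := hq
  have hlt : q < IsLocalRing.maximalIdeal L := by
    refine lt_of_le_of_ne (IsLocalRing.le_maximalIdeal hq.ne_top) fun he => hne ?_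
    have : (C.ι ⟨z, hzW⟩) = C.ι ⟨x, hxW⟩ := by
      refine PrimeSpectrum.ext ?_
      rw [← hq']
      exact (congrArg (Ideal.comap _) he).trans Localization.AtPrime.under_maximalIdeal
    exact congrArg Subtype.val (C.emb.isEmbedding.injective this)
  have h1 : (1 : WithBot ℕ∞) ≤ ringKrullDim (L ⧸ q) := by
    rw [ringKrullDim_quotient]
    refine Order.le_krullDim_iff.mpr ⟨(RelSeries.singleton _ ⟨⟨q, hq⟩, (PrimeSpectrum.mem_zeroLocus _ _).mpr le_rfl⟩).snoc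
      ⟨⟨IsLocalRing.maximalIdeal L, inferInstance⟩, (PrimeSpectrum.mem_zeroLocus _ _).mpr hlt.le⟩ ?_, rfl⟩
    exact hlt
  obtain ⟨d, hd⟩ := exists_nat_fdim (C.ι ⟨x, hxW⟩)
  rw [hd]
  refine lt_of_lt_of_le ?_ (add_le_add h1 le_rfl)
  exact_mod_cast Nat.lt_one_add_iff.mpr (le_refl d)

/-- Serre's condition through the generisations in the fibre. -/
theorem hasSk_iff (k : ℕ) (x : X) :
    HasSk k ((f.fiber (f x)).presheaf.stalk (f.asFiber x)) (fibN f F (f.asFiber x)) ↔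
      ∀ z : X, z ⤳ x → f z = f x → min (k : WithBot ℕ∞) (psdm f F z) ≤ ((pdepth f F z : ℕ∞) : WithBot ℕ∞) := by
  obtain ⟨C, hxW⟩ := exists_chart f F hF x
  rw [(C.invariants (f.asFiber x) ⟨x, hxW⟩ (f.fiberι_asFiber x)).2.2.1 k, hasSk_nq_iff C.M k]
  constructor
  · intro h z hz hf
    have hzW : z ∈ C.W := hz.mem_open C.W.2 hxW
    obtain ⟨h1, h2, -⟩ := C.invariants (f.asFiber z) ⟨z, hzW⟩ (f.fiberι_asFiber z)
    rw [pdepth, psdm, h1, h2]
    exact h _ ((C.le_iff ⟨z, hzW⟩ ⟨x, hxW⟩).mp hz) ((C.f_eq ⟨z, hzW⟩ ⟨x, hxW⟩).mp hf)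
  · intro h Q₀ hle hp
    by_cases hM : Q₀ ∈ Module.support (MvPolynomial (Fin C.n) C.A) C.M
    · obtain ⟨z, rfl⟩ := C.supp hM
      obtain ⟨h1, h2, -⟩ := C.invariants (f.asFiber z.1) z (f.fiberι_asFiber z.1)
      rw [← h1, ← h2]
      exact h z.1 ((C.le_iff z ⟨x, hxW⟩).mpr hle) ((C.f_eq z ⟨x, hxW⟩).mpr hp)
    · haveI : Subsingleton (NQ C.A C.M Q₀) :=
        not_nontrivial_iff_subsingleton.mp fun h' => hM ((nontrivial_nq_iff C.M Q₀).mp h')
      rw [dm, Module.supportDim_eq_bot_of_subsingleton]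
      simp

/-- Equidimensionality through the minimal generisations in the fibre. -/
theorem isEquidim_iff (x : X) :
    EGA4.IsEquidimModule ((f.fiber (f x)).presheaf.stalk (f.asFiber x)) (fibN f F (f.asFiber x)) ↔
      ∀ z : X, z ⤳ x → f z = f x → z ∈ Sp F → (∀ z' : X, z' ⤳ z → f z' = f x → z' ∈ Sp F → z' = z) →
        FibreDim.fdim f z = delta f F x := by
  obtain ⟨C, hxW⟩ := exists_chart f F hF x
  obtain ⟨-, h2, -, h4, -⟩ := C.invariants (f.asFiber x) ⟨x, hxW⟩ (f.fiberι_asFiber x)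
  rw [h4, isEquidim_nq_iff C.M, delta, psdm, h2, C.fdim_eq ⟨x, hxW⟩]
  constructor
  · intro h z hz hf hzS hmin
    have hzW : z ∈ C.W := hz.mem_open C.W.2 hxW
    rw [C.fdim_eq ⟨z, hzW⟩]
    refine h _ ((C.le_iff ⟨z, hzW⟩ ⟨x, hxW⟩).mp hz) ((C.f_eq ⟨z, hzW⟩ ⟨x, hxW⟩).mp hf)
      ((C.mem_supp ⟨z, hzW⟩).mpr hzS) fun Q₁ hle₁ hp₁ hM₁ => ?_
    obtain ⟨z', rfl⟩ := C.supp hM₁
    exact congrArg C.ι (Subtype.ext (hmin z'.1 ((C.le_iff z' ⟨z, hzW⟩).mpr hle₁)
      ((C.f_eq z' ⟨x, hxW⟩).mpr hp₁) ((C.mem_supp z').mp hM₁)))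
  · intro h Q₀ hle hp hM hmin
    obtain ⟨z, rfl⟩ := C.supp hM
    rw [← C.fdim_eq z]
    refine h z.1 ((C.le_iff z ⟨x, hxW⟩).mpr hle) ((C.f_eq z ⟨x, hxW⟩).mpr hp) ((C.mem_supp z).mp hM)
      fun z' hz' hf' hS' => ?_
    have hz'W : z' ∈ C.W := hz'.mem_open C.W.2 z.2
    exact congrArg Subtype.val (C.emb.isEmbedding.injective (hmin (C.ι ⟨z', hz'W⟩) ((C.le_iff ⟨z', hz'W⟩ z).mp hz')
      ((C.f_eq ⟨z', hz'W⟩ ⟨x, hxW⟩).mp hf') ((C.mem_supp ⟨z', hz'W⟩).mpr hS')))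

/-- Associated points of the restriction to a fibre. -/
theorem mem_ass_iff {y : Y} (v : f.fiber y) :
    v ∈ AssSch.Ass ((Scheme.Modules.pullback (f.fiberι y)).obj F) ↔ pdepth f F (f.fiberι y v) = 0 := by
  refine fiber_cases f v (motive := fun y v =>
    v ∈ AssSch.Ass ((Scheme.Modules.pullback (f.fiberι y)).obj F) ↔ pdepth f F (f.fiberι y v) = 0) ?_
  rw [f.fiberι_asFiber]
  haveI := finite_fibN f F hF (f.asFiber (f.fiberι y v))
  haveI := isNoetherianRing_fibre_stalk f (f.asFiber (f.fiberι y v))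
  exact (DepthLib.depth_eq_zero_iff (R := (f.fiber _).presheaf.stalk (f.asFiber (f.fiberι y v)))
    (M := fibN f F (f.asFiber (f.fiberι y v)))).symm

theorem isOpen_le_prof (hflat : FlatMod.IsFlatOver f F) (m : ℕ) : IsOpen {x : X | (m : WithBot ℕ∞) ≤ prof f F x} := by
  refine isOpen_iff_forall_mem_open.mpr fun x hx => ?_
  obtain ⟨C, hxW⟩ := exists_chart f F hF x
  haveI : Module.Flat C.A C.M := C.flat fun z _ => hflat z
  have key : ∀ w : C.W, (m : WithBot ℕ∞) ≤ prof f F w.1 ↔ Pd C.A (C.n + 1 - m) C.M (C.ι w) := fun w => by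
    obtain ⟨h1, -⟩ := C.invariants (f.asFiber w.1) w (f.fiberι_asFiber w.1)
    rw [prof, pdepth, h1, C.fdim_eq w]
    exact le_prof_iff C.M _ m
  refine ⟨Subtype.val '' (C.ι ⁻¹' {Q | Pd C.A (C.n + 1 - m) C.M Q}), ?_,
    C.W.2.isOpenMap_subtype_val _ ((isOpen_pd _ C.M).preimage C.emb.continuous), ⟨⟨x, hxW⟩, (key ⟨x, hxW⟩).mp hx, rfl⟩⟩
  rintro _ ⟨w, hw, rfl⟩
  exact (key w).mpr hw

end Groth.FlatDescent.FibreDepth
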