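import Groth.Agent.FlatDescent.FibreDepth.Pd
import Groth.Agent.S6285

/-!
# Constructibility of the loci of projective dimension on the fibres
-/

universe u

open TensorProduct Topology CategoryTheory

namespace Groth.FlatDescent.FibreDepth

variable {P : Type u} [CommRing P]

theorem isConstructible_compl_support (N : Type u) [AddCommGroup N] [Module P N] [Module.FinitePresentation P N] :
    IsConstructible (Module.support P N)ᶜ := by
  obtain ⟨hcl, hc⟩ := Groth.Agent.S6285.result P N
  exact hc.isConstructible hcl.isOpen_compl

theorem exists_quotient_tensor_subsingleton_iff {N : Type u} [AddCommGroup N] [Module P N] [Module.Finite P N]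
    (S : Set N) (Q : PrimeSpectrum P) :
    Q ∉ Module.support P (N ⧸ Submodule.span P S) ↔
      Submodule.span Q.asIdeal.ResidueField ((fun x => (1 : Q.asIdeal.ResidueField) ⊗ₜ[P] x) '' S) = ⊤ := by
  let K := Q.asIdeal.ResidueField
  rw [Module.mem_support_iff_nontrivial_residueField_tensorProduct, not_nontrivial_iff_subsingleton]
  let π := (Submodule.span P S).mkQ.baseChange K
  have hπ : Function.Surjective π := LinearMap.lTensor_surjective K (Submodule.mkQ_surjective _)
  have hex : Function.Exact ((Submodule.span P S).subtype.baseChange K) π :=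
    lTensor_exact K (LinearMap.exact_subtype_mkQ _) (Submodule.mkQ_surjective _)
  have hker : LinearMap.ker π = Submodule.span K ((fun x => (1 : K) ⊗ₜ[P] x) '' S) := by
    rw [LinearMap.exact_iff.mp hex]
    refine le_antisymm ?_ (Submodule.span_le.mpr ?_)
    · rintro _ ⟨z, rfl⟩
      induction z using TensorProduct.induction_on with
      | zero => simp
      | add a b ha hb => rw [map_add]; exact add_mem ha hb
      | tmul c x =>
        obtain ⟨x, hx⟩ := x
        rw [LinearMap.baseChange_tmul]
        change c ⊗ₜ[P] x ∈ _
        rw [show c ⊗ₜ[P] x = c • ((1 : K) ⊗ₜ[P] x) by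
          rw [TensorProduct.smul_tmul', smul_eq_mul, mul_one]]
        refine Submodule.smul_mem _ _ ?_
        induction hx using Submodule.span_induction with
        | mem y hy => exact Submodule.subset_span ⟨y, hy, rfl⟩
        | zero => rw [tmul_zero]; exact zero_mem _
        | add y z _ _ hy hz => rw [tmul_add]; exact add_mem hy hz
        | smul r y _ hy =>
          rw [TensorProduct.tmul_smul, ← algebraMap_smul K r ((1 : K) ⊗ₜ[P] y)]
          exact Submodule.smul_mem _ _ hy
    · rintro _ ⟨x, hx, rfl⟩
      exact ⟨(1 : K) ⊗ₜ ⟨x, Submodule.subset_span hx⟩, LinearMap.baseChange_tmul _ _ _⟩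
  rw [← hker]
  constructor
  · intro h
    exact LinearMap.ker_eq_top.mpr (Subsingleton.elim _ _)
  · intro h
    refine subsingleton_of_forall_eq 0 fun z => ?_
    obtain ⟨w, rfl⟩ := hπ z
    exact LinearMap.mem_ker.mp (h ▸ Submodule.mem_top)

/-- **The rank of the fibres of a finitely presented module is constructible.** -/
theorem isConstructible_finrank_le (N : Type u) [AddCommGroup N] [Module P N] [Module.FinitePresentation P N] (r : ℕ) :
    IsConstructible {Q : PrimeSpectrum P | Module.finrank Q.asIdeal.ResidueField (Q.asIdeal.ResidueField ⊗[P] N) ≤ r} := by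
  classical
  obtain ⟨b, s, hs⟩ := Module.Finite.exists_fin (R := P) (M := N)
  have hset : {Q : PrimeSpectrum P | Module.finrank Q.asIdeal.ResidueField (Q.asIdeal.ResidueField ⊗[P] N) ≤ r} =
      ⋃ t ∈ {t : Finset (Fin b) | t.card ≤ r}, (Module.support P (N ⧸ Submodule.span P (s '' (t : Set (Fin b)))))ᶜ := by
    ext Q
    simp only [Set.mem_iUnion, Set.mem_compl_iff, exists_prop, exists_quotient_tensor_subsingleton_iff]
    constructor
    · intro hr
      let K := Q.asIdeal.ResidueField
      let v : Fin b → K ⊗[P] N := fun i => 1 ⊗ₜ s i
      have hv : Submodule.span K (Set.range v) = ⊤ := by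
        refine top_le_iff.mp fun z hz => ?_
        clear hz
        induction z using TensorProduct.induction_on with
        | zero => exact zero_mem _
        | add a c ha hc => exact add_mem ha hc
        | tmul c x =>
          rw [show c ⊗ₜ[P] x = c • ((1 : K) ⊗ₜ[P] x) by rw [TensorProduct.smul_tmul', smul_eq_mul, mul_one]]
          refine Submodule.smul_mem _ _ ?_
          have hx : x ∈ Submodule.span P (Set.range s) := hs ▸ Submodule.mem_top
          induction hx using Submodule.span_induction with
          | mem y hy =>
            obtain ⟨i, rfl⟩ := hy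
            exact Submodule.subset_span ⟨i, rfl⟩
          | zero => rw [tmul_zero]; exact zero_mem _
          | add y z _ _ hy hz => rw [tmul_add]; exact add_mem hy hz
          | smul a y _ hy =>
            rw [TensorProduct.tmul_smul, ← algebraMap_smul K a ((1 : K) ⊗ₜ[P] y)]
            exact Submodule.smul_mem _ _ hy
      obtain ⟨κ, a, ha, hspan, hli⟩ := exists_linearIndependent' K v
      haveI : Finite κ := Finite.of_injective a ha
      haveI := Fintype.ofFinite κ
      refine ⟨Finset.univ.image a, ?_, ?_⟩
      · show (Finset.univ.image a).card ≤ r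
        rw [Finset.card_image_of_injective _ ha, Finset.card_univ]
        exact hli.fintype_card_le_finrank.trans hr
      · rw [Finset.coe_image, Finset.coe_univ, Set.image_univ, ← Set.image_comp,
          ← Set.range_comp, ← hv, ← hspan]
        rfl
    · rintro ⟨t, ht, hspan⟩
      rw [Set.mem_setOf_eq, ← finrank_top Q.asIdeal.ResidueField, ← hspan, Set.image_image]
      refine le_trans ?_ ((Finset.card_image_le (f := fun i => (1 : Q.asIdeal.ResidueField) ⊗ₜ[P] s i)).trans ht)
      refine le_trans (le_of_eq ?_) (finrank_span_finset_le_card (R := Q.asIdeal.ResidueField)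
        (t.image fun i => (1 : Q.asIdeal.ResidueField) ⊗ₜ[P] s i))
      unfold Set.finrank
      rw [Finset.coe_image]
  rw [hset]
  refine IsConstructible.biUnion (Set.toFinite _) fun t _ => ?_
  haveI : Module.FinitePresentation P (N ⧸ Submodule.span P (s '' (t : Set (Fin b)))) :=
    Module.finitePresentation_of_surjective (Submodule.mkQ _) (Submodule.mkQ_surjective _)
      (by rw [Submodule.ker_mkQ]; exact Submodule.fg_span (t.finite_toSet.image s))
  exact isConstructible_compl_support _

variable {A : Type u} [CommRing A] [Algebra A P] [Algebra.FinitePresentation A P] [Module.Flat A P]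

/-- Freeness of a flat module through the residue field. -/
theorem pd_one_iff_injective (M : Type u) [AddCommGroup M] [Module P M] [Module A M] [IsScalarTower A P M]
    [Module.FinitePresentation P M] [Module.Flat A M] {m : ℕ} (p : (Fin m → P) →ₗ[P] M) (hp : Function.Surjective p)
    (Q : PrimeSpectrum P) :
    Pd A 1 M Q ↔ Function.Injective ((LinearMap.ker p).subtype.lTensor Q.asIdeal.ResidueField) := by
  let i := (LinearMap.ker p).subtype
  constructor
  · intro h
    rw [Pd, Groth.Agent.ProjDim.projDim_zero_iff] at h
    haveI := h
    obtain ⟨_, _⟩ := exists_residueField_algebra' (A := A) Q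
    obtain ⟨h1, h2, h3⟩ := fibreT_ses (A := A) Q i p Subtype.val_injective (LinearMap.exact_subtype_ker_map p) hp
    obtain ⟨s, hs⟩ := exists_retraction (FibT A Q) i p h1 h2 h3
    exact lTensor_residueField_injective Q.asIdeal i (FibT A Q) s hs
  · intro hk
    rw [pd_one_iff]
    let L := Localization.AtPrime Q.asIdeal
    have hfree : Module.Free L (L ⊗[P] M) := by
      haveI : Module.FinitePresentation P M := inferInstance
      haveI : Module.Finite P (LinearMap.ker p) := Module.Finite.iff_fg.mpr (Module.FinitePresentation.fg_ker p hp)
      refine Module.free_of_lTensor_residueField_injective (i.baseChange L) (p.baseChange L)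
        (LinearMap.lTensor_surjective _ hp) (lTensor_exact _ (LinearMap.exact_subtype_ker_map p) hp) ?_
      let eK := TensorProduct.AlgebraTensorModule.cancelBaseChange P L L (IsLocalRing.ResidueField L) (LinearMap.ker p)
      let eF := TensorProduct.AlgebraTensorModule.cancelBaseChange P L L (IsLocalRing.ResidueField L) (Fin m → P)
      have comm : ∀ z, eF ((i.baseChange L).lTensor (IsLocalRing.ResidueField L) z) =
          i.lTensor (IsLocalRing.ResidueField L) (eK z) := by
        intro z
        induction z using TensorProduct.induction_on with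
        | zero => simp
        | add z w hz hw => simp only [map_add, hz, hw]
        | tmul c t =>
          induction t using TensorProduct.induction_on with
          | zero => simp
          | add t t' ht ht' => simp only [tmul_add, map_add, ht, ht']
          | tmul b n => simp [eK, eF]
      intro x y hxy
      apply eK.injective
      apply hk
      exact (comm x).symm.trans ((congrArg eF hxy).trans (comm y))
    exact Module.Free.of_equiv (LocalizedModule.equivTensorProduct Q.asIdeal.primeCompl M).symm

theorem injective_iff_finrank {M : Type u} [AddCommGroup M] [Module P M] {m : ℕ} (p : (Fin m → P) →ₗ[P] M)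
    (hp : Function.Surjective p) [Module.Finite P (LinearMap.ker p)] (Q : PrimeSpectrum P) :
    Function.Injective ((LinearMap.ker p).subtype.lTensor Q.asIdeal.ResidueField) ↔
      Module.finrank Q.asIdeal.ResidueField (Q.asIdeal.ResidueField ⊗[P] LinearMap.ker p) +
        Module.finrank Q.asIdeal.ResidueField (Q.asIdeal.ResidueField ⊗[P] M) = m := by
  let K := Q.asIdeal.ResidueField
  let i' := (LinearMap.ker p).subtype.baseChange K
  let p' := p.baseChange K
  have hp' : Function.Surjective p' := LinearMap.lTensor_surjective K hp
  have hex : Function.Exact i' p' := lTensor_exact K (LinearMap.exact_subtype_ker_map p) hp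
  have hF : Module.finrank K (K ⊗[P] (Fin m → P)) = m := by
    rw [(TensorProduct.piScalarRight P K K (Fin m)).finrank_eq, Module.finrank_fin_fun]
  haveI : Module.Finite P M := Module.Finite.of_surjective p hp
  have h1 := p'.finrank_range_add_finrank_ker
  rw [LinearMap.range_eq_top.mpr hp', finrank_top, LinearMap.exact_iff.mp hex, hF] at h1
  have h2 := i'.finrank_range_add_finrank_ker
  show Function.Injective i' ↔ _
  rw [← LinearMap.ker_eq_bot, ← Submodule.finrank_eq_zero]
  change _ ↔ Module.finrank K (K ⊗[P] LinearMap.ker p) + Module.finrank K (K ⊗[P] M) = m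
  omega

theorem isConstructible_finrank_eq (N : Type u) [AddCommGroup N] [Module P N] [Module.FinitePresentation P N] (r : ℕ) :
    IsConstructible {Q : PrimeSpectrum P | Module.finrank Q.asIdeal.ResidueField (Q.asIdeal.ResidueField ⊗[P] N) = r} := by
  cases r with
  | zero =>
    simpa only [Nat.le_zero] using isConstructible_finrank_le (P := P) N 0
  | succ r =>
    have h : {Q : PrimeSpectrum P | Module.finrank Q.asIdeal.ResidueField (Q.asIdeal.ResidueField ⊗[P] N) = r + 1} =
        {Q : PrimeSpectrum P | Module.finrank Q.asIdeal.ResidueField (Q.asIdeal.ResidueField ⊗[P] N) ≤ r + 1} \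
        {Q : PrimeSpectrum P | Module.finrank Q.asIdeal.ResidueField (Q.asIdeal.ResidueField ⊗[P] N) ≤ r} := by
      ext Q
      simp only [Set.mem_setOf_eq, Set.mem_sdiff]
      omega
    rw [h]
    exact (isConstructible_finrank_le (P := P) N (r + 1)).sdiff (isConstructible_finrank_le (P := P) N r)

/-- **The loci of projective dimension on the fibres of a flat module are constructible.** -/
theorem isConstructible_pd : ∀ (j : ℕ) (M : Type u) [AddCommGroup M] [Module P M] [Module A M] [IsScalarTower A P M]
    [Module.FinitePresentation P M] [Module.Flat A M], IsConstructible {Q : PrimeSpectrum P | Pd A j M Q}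
  | 0, M, _, _, _, _, _, _ => by
    simp only [pd_zero_iff]
    exact isConstructible_compl_support M
  | 1, M, _, _, _, _, _, _ => by
    obtain ⟨m, p, hp, hKfp, -⟩ := exists_step (A := A) (B := P) M
    haveI := hKfp
    have hset : {Q : PrimeSpectrum P | Pd A 1 M Q} = ⋃ a ∈ Set.Iic m,
        {Q : PrimeSpectrum P | Module.finrank Q.asIdeal.ResidueField (Q.asIdeal.ResidueField ⊗[P] LinearMap.ker p) = a} ∩
        {Q : PrimeSpectrum P | Module.finrank Q.asIdeal.ResidueField (Q.asIdeal.ResidueField ⊗[P] M) = m - a} := by
      ext Q
      simp only [Set.mem_setOf_eq, Set.mem_iUnion, Set.mem_inter_iff, Set.mem_Iic, exists_prop,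
        pd_one_iff_injective M p hp Q, injective_iff_finrank p hp Q]
      constructor
      · intro h
        exact ⟨_, by omega, rfl, by omega⟩
      · rintro ⟨a, ha, h1, h2⟩
        omega
    rw [hset]
    exact IsConstructible.biUnion (Set.finite_Iic m) fun a _ =>
      (isConstructible_finrank_eq _ a).inter (isConstructible_finrank_eq _ (m - a))
  | j + 2, M, _, _, _, _, _, _ => by
    obtain ⟨m, p, hp, hKfp, hKflat⟩ := exists_step (A := A) (B := P) M
    have key : ∀ Q, Pd A (j + 2) M Q ↔ Pd A (j + 1) (LinearMap.ker p) Q := fun Q => by
      obtain ⟨h1, h2, h3⟩ := fibreT_ses (A := A) Q _ p Subtype.val_injective (LinearMap.exact_subtype_ker_map p) hp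
      exact shift_tensor (FibT A Q) p h1 h2 h3 j
    simp only [key]
    haveI := hKfp
    haveI := hKflat
    exact isConstructible_pd (j + 1) (LinearMap.ker p)

end Groth.FlatDescent.FibreDepth
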