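import Groth.Agent.FlatDescent.PdFibre

/-!
# Projective dimension over the local rings of the fibres is an open condition
-/

universe u

open CategoryTheory TensorProduct

namespace Groth.FlatDescent.FibreDepth

variable (A : Type u) {P : Type u} [CommRing A] [CommRing P] [Algebra A P]

/-- The local ring of the fibre at a prime, as a `P`-algebra. -/
abbrev FibT (Q : PrimeSpectrum P) : Type u :=
  Localization.AtPrime Q.asIdeal ⊗[P] (P ⧸ (Q.asIdeal.under A).map (algebraMap A P))

/-- Projective dimension less than `j` over the local ring of the fibre. -/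
def Pd (j : ℕ) (M : Type u) [AddCommGroup M] [Module P M] (Q : PrimeSpectrum P) : Prop :=
  HasProjectiveDimensionLT (ModuleCat.of (FibT A Q) (FibT A Q ⊗[P] M)) j

variable {A}

theorem exists_residueField_algebra' (Q : PrimeSpectrum P) :
    ∃ (_ : Algebra (FibT A Q) Q.asIdeal.ResidueField), IsScalarTower P (FibT A Q) Q.asIdeal.ResidueField := by
  let a : Localization.AtPrime Q.asIdeal →ₐ[P] Q.asIdeal.ResidueField :=
    IsScalarTower.toAlgHom P (Localization.AtPrime Q.asIdeal) Q.asIdeal.ResidueField
  let b : (P ⧸ (Q.asIdeal.under A).map (algebraMap A P)) →ₐ[P] Q.asIdeal.ResidueField :=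
    Ideal.Quotient.liftₐ _ (Algebra.ofId P Q.asIdeal.ResidueField) fun x hx => by
      have hQ : x ∈ Q.asIdeal := Ideal.map_comap_le hx
      exact Ideal.algebraMap_residueField_eq_zero.mpr hQ
  let t := Algebra.TensorProduct.lift a b fun _ _ => Commute.all _ _
  letI := t.toRingHom.toAlgebra
  exact ⟨inferInstance, IsScalarTower.of_algebraMap_eq fun x => (t.commutes x).symm⟩

theorem fibreT_ses (Q : PrimeSpectrum P) {K F M : Type u} [AddCommGroup K] [Module P K] [AddCommGroup F] [Module P F]
    [AddCommGroup M] [Module P M] [Module A M] [IsScalarTower A P M] [Module.Flat A M]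
    (i : K →ₗ[P] F) (p : F →ₗ[P] M) (hi : Function.Injective i) (hex : Function.Exact i p)
    (hp : Function.Surjective p) :
    Function.Injective (i.baseChange (FibT A Q)) ∧ Function.Exact (i.baseChange (FibT A Q)) (p.baseChange (FibT A Q)) ∧
      Function.Surjective (p.baseChange (FibT A Q)) := by
  refine ⟨?_, lTensor_exact _ hex hp, LinearMap.lTensor_surjective _ hp⟩
  let X := P ⧸ (Q.asIdeal.under A).map (algebraMap A P)
  let eX : X ≃ₗ[P] P ⊗[A] (A ⧸ Q.asIdeal.under A) :=
    (Algebra.TensorProduct.quotIdealMapEquivTensorQuot P (Q.asIdeal.under A)).toLinearEquiv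
  have h0 := (LinearMap.lTensor_inj_iff_rTensor_inj _ _).2
    (rTensor_baseChange_injective (A := A) i p hi hex hp (A ⧸ Q.asIdeal.under A))
  have h1 : Function.Injective (i.lTensor X) := by
    have he : i.lTensor X = (TensorProduct.congr eX (LinearEquiv.refl P F)).symm.toLinearMap ∘ₗ
        i.lTensor (P ⊗[A] (A ⧸ Q.asIdeal.under A)) ∘ₗ (TensorProduct.congr eX (LinearEquiv.refl P K)).toLinearMap :=
      TensorProduct.ext' fun n x => by simp
    rw [he]
    exact ((TensorProduct.congr _ _).symm.injective.comp h0).comp (TensorProduct.congr eX (LinearEquiv.refl P K)).injective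
  have he : i.lTensor (FibT A Q) = (TensorProduct.assoc P _ X F).symm.toLinearMap ∘ₗ
      (i.lTensor X).lTensor (Localization.AtPrime Q.asIdeal) ∘ₗ (TensorProduct.assoc P _ X K).toLinearMap :=
    TensorProduct.ext_threefold fun a b c => by simp
  show Function.Injective (i.lTensor (FibT A Q))
  rw [he]
  exact (((TensorProduct.assoc P _ X F).symm.injective.comp
    (Module.Flat.lTensor_preserves_injective_linearMap _ h1))).comp (TensorProduct.assoc P _ X K).injective

theorem retraction_of_projective {R K F M : Type u} [CommRing R] [AddCommGroup K] [Module R K] [AddCommGroup F]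
    [Module R F] [AddCommGroup M] [Module R M] [Module.Projective R M] (i : K →ₗ[R] F) (p : F →ₗ[R] M)
    (h1 : Function.Injective i) (h2 : Function.Exact i p) (h3 : Function.Surjective p) :
    ∃ s : F →ₗ[R] K, s ∘ₗ i = LinearMap.id := by
  obtain ⟨sec, hsec⟩ := Module.projective_lifting_property p LinearMap.id h3
  exact (((h2.split_tfae').out 0 1 rfl rfl).mp ⟨h1, sec, hsec⟩).2

theorem exists_retraction (T : Type u) [CommRing T] [Algebra P T] {K F M : Type u} [AddCommGroup K] [Module P K]
    [AddCommGroup F] [Module P F] [AddCommGroup M] [Module P M] (i : K →ₗ[P] F) (p : F →ₗ[P] M)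
    [Module.Projective T (T ⊗[P] M)] (h1 : Function.Injective (i.baseChange T))
    (h2 : Function.Exact (i.baseChange T) (p.baseChange T)) (h3 : Function.Surjective (p.baseChange T)) :
    ∃ s : T ⊗[P] F →ₗ[T] T ⊗[P] K, s ∘ₗ i.baseChange T = LinearMap.id :=
  retraction_of_projective _ _ h1 h2 h3

theorem shift_tensor (T : Type u) [CommRing T] [Algebra P T] {m : ℕ} {M : Type u} [AddCommGroup M] [Module P M]
    (p : (Fin m → P) →ₗ[P] M) (h1 : Function.Injective ((LinearMap.ker p).subtype.baseChange T))
    (h2 : Function.Exact ((LinearMap.ker p).subtype.baseChange T) (p.baseChange T))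
    (h3 : Function.Surjective (p.baseChange T)) (j : ℕ) :
    HasProjectiveDimensionLT (ModuleCat.of T (T ⊗[P] M)) (j + 2) ↔
      HasProjectiveDimensionLT (ModuleCat.of T (T ⊗[P] LinearMap.ker p)) (j + 1) :=
  Groth.Agent.ProjDim.shift_iff _ _ h1 h2 h3 j

variable [Algebra.FinitePresentation A P] [Module.Flat A P]

theorem pd_zero_iff (M : Type u) [AddCommGroup M] [Module P M] [Module.Finite P M] (Q : PrimeSpectrum P) :
    Pd A 0 M Q ↔ Q ∉ Module.support P M := by
  rw [Pd, hasProjectiveDimensionLT_zero_iff_isZero, ModuleCat.isZero_iff_subsingleton]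
  constructor
  · intro h hQ
    obtain ⟨_, _⟩ := exists_residueField_algebra' (A := A) Q
    haveI : Subsingleton (FibT A Q ⊗[P] M) := h
    haveI : Subsingleton (Q.asIdeal.ResidueField ⊗[P] M) :=
      (TensorProduct.AlgebraTensorModule.cancelBaseChange P (FibT A Q) (FibT A Q) Q.asIdeal.ResidueField
        M).symm.toEquiv.subsingleton
    exact (not_nontrivial_iff_subsingleton.2 ‹_›) ((Module.mem_support_iff_nontrivial_residueField_tensorProduct Q).mp hQ)
  · intro hQ
    haveI : Subsingleton (LocalizedModule Q.asIdeal.primeCompl M) :=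
      Module.notMem_support_iff.mp hQ
    haveI : Subsingleton (Localization.AtPrime Q.asIdeal ⊗[P] M) :=
      (LocalizedModule.equivTensorProduct Q.asIdeal.primeCompl M).symm.toEquiv.subsingleton
    exact (TensorProduct.AlgebraTensorModule.cancelBaseChange P (Localization.AtPrime Q.asIdeal)
      (FibT A Q) (FibT A Q) M).symm.toEquiv.subsingleton

theorem pd_one_iff (M : Type u) [AddCommGroup M] [Module P M] [Module A M] [IsScalarTower A P M]
    [Module.FinitePresentation P M] [Module.Flat A M] (Q : PrimeSpectrum P) :
    Pd A 1 M Q ↔ Q ∈ Module.freeLocus P M := by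
  rw [Pd, Groth.Agent.ProjDim.projDim_zero_iff]
  let L := Localization.AtPrime Q.asIdeal
  let eL : LocalizedModule Q.asIdeal.primeCompl M ≃ₗ[L] L ⊗[P] M :=
    LocalizedModule.equivTensorProduct Q.asIdeal.primeCompl M
  constructor
  · intro hproj
    obtain ⟨m, p, hp, hKfp, -⟩ := exists_step (A := A) (B := P) M
    haveI := hKfp
    let i := (LinearMap.ker p).subtype
    let T := FibT A Q
    obtain ⟨_, _⟩ := exists_residueField_algebra' (A := A) Q
    haveI : Module.Projective T (T ⊗[P] M) := hproj
    obtain ⟨h1, h2, h3⟩ := fibreT_ses (A := A) Q i p Subtype.val_injective (LinearMap.exact_subtype_ker_map p) hp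
    obtain ⟨s, hs⟩ := exists_retraction T i p h1 h2 h3
    have hk := lTensor_residueField_injective Q.asIdeal i T s hs
    have hfree : Module.Free L (L ⊗[P] M) := by
      refine Module.free_of_lTensor_residueField_injective (i.baseChange L) (p.baseChange L)
        (LinearMap.lTensor_surjective _ hp) (lTensor_exact _ (LinearMap.exact_subtype_ker_map p) hp) ?_
      let eK := TensorProduct.AlgebraTensorModule.cancelBaseChange P L L (IsLocalRing.ResidueField L) (LinearMap.ker p)
      let eF := TensorProduct.AlgebraTensorModule.cancelBaseChange P L L (IsLocalRing.ResidueField L) (Fin m → P)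
      have comm : ∀ z, eF ((i.baseChange L).lTensor (IsLocalRing.ResidueField L) z) =
          i.lTensor (IsLocalRing.ResidueField L) (eK z) := by
        intro z
        induction z using TensorProduct.induction_on with
        | zero => simp
        | add z w hz hw => simp only [map_add, hz, hw]
        | tmul c t =>
          induction t using TensorProduct.induction_on with
          | zero => simp
          | add t t' ht ht' => simp only [tmul_add, map_add, ht, ht']
          | tmul b n => simp [eK, eF]
      intro x y hxy
      apply eK.injective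
      apply hk
      exact (comm x).symm.trans ((congrArg eF hxy).trans (comm y))
    exact Module.Free.of_equiv eL.symm
  · intro hfree
    haveI : Module.Free L (LocalizedModule Q.asIdeal.primeCompl M) := hfree
    haveI : Module.Free L (L ⊗[P] M) := Module.Free.of_equiv eL
    haveI : Module.Free (FibT A Q) (FibT A Q ⊗[L] (L ⊗[P] M)) := inferInstance
    haveI : Module.Free (FibT A Q) (FibT A Q ⊗[P] M) :=
      Module.Free.of_equiv (TensorProduct.AlgebraTensorModule.cancelBaseChange P L (FibT A Q) (FibT A Q) M)
    infer_instance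

/-- The condition on the projective dimension over the fibre is open. -/
theorem isOpen_pd : ∀ (j : ℕ) (M : Type u) [AddCommGroup M] [Module P M] [Module A M] [IsScalarTower A P M]
    [Module.FinitePresentation P M] [Module.Flat A M], IsOpen {Q : PrimeSpectrum P | Pd A j M Q}
  | 0, M, _, _, _, _, _, _ => by
    simp only [pd_zero_iff]
    have h : IsClosed (Module.support P M) := by
      rw [Module.support_eq_zeroLocus]
      exact PrimeSpectrum.isClosed_zeroLocus _
    exact h.isOpen_compl
  | 1, M, _, _, _, _, _, _ => by
    simp only [pd_one_iff]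
    exact Module.isOpen_freeLocus
  | j + 2, M, _, _, _, _, _, _ => by
    obtain ⟨m, p, hp, hKfp, hKflat⟩ := exists_step (A := A) (B := P) M
    have key : ∀ Q, Pd A (j + 2) M Q ↔ Pd A (j + 1) (LinearMap.ker p) Q := fun Q => by
      obtain ⟨h1, h2, h3⟩ := fibreT_ses (A := A) Q _ p Subtype.val_injective (LinearMap.exact_subtype_ker_map p) hp
      exact shift_tensor (FibT A Q) p h1 h2 h3 j
    simp only [key]
    haveI := hKfp
    haveI := hKflat
    exact isOpen_pd (j + 1) (LinearMap.ker p)

end Groth.FlatDescent.FibreDepth
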