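import Groth.Agent.FibreDim.Local
import Groth.Agent.GeomUnib.DimFormula
import Groth.Agent.FlatDescent.FibreDepth.Pd

/-!
# The fibres of affine space
-/

universe u

open CategoryTheory AlgebraicGeometry MvPolynomial TensorProduct
open Groth.Agent

namespace Groth.FlatDescent.FibreDepth

theorem height_add_dim_quot_le {R : Type u} [CommRing R] (q : Ideal R) [q.IsPrime] :
    (q.height : WithBot ℕ∞) + ringKrullDim (R ⧸ q) ≤ ringKrullDim R := by
  let p : PrimeSpectrum R := ⟨q, inferInstance⟩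
  haveI : Nonempty (PrimeSpectrum R) := ⟨p⟩
  have h1 : ringKrullDim (R ⧸ q) = (Order.coheight p : WithBot ℕ∞) := by
    rw [ringKrullDim_quotient, Order.coheight_eq_krullDim_Ici]
    refine Order.krullDim_eq_of_orderIso (OrderIso.setCongr _ _ ?_)
    ext r
    exact PrimeSpectrum.mem_zeroLocus _ _
  rw [h1, PrimeSpectrum.height_eq_orderHeight p, ← WithBot.coe_add]
  show _ ≤ Order.krullDim (PrimeSpectrum R)
  rw [Order.krullDim_eq_iSup_height_add_coheight_of_nonempty]
  exact WithBot.coe_le_coe.mpr (le_iSup (fun r => Order.height r + Order.coheight r) p)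

/-- Height and dimension in a polynomial ring over a field. -/
theorem exists_height_dim (K : Type u) [Field K] (n : ℕ) (q : Ideal (MvPolynomial (Fin n) K)) [q.IsPrime] :
    ∃ h : ℕ, h ≤ n ∧ q.height = h ∧ ringKrullDim (MvPolynomial (Fin n) K ⧸ q) = ((n - h : ℕ) : WithBot ℕ∞) := by
  have hK : ringKrullDim (MvPolynomial (Fin n) K) = (n : WithBot ℕ∞) := by
    rw [MvPolynomial.ringKrullDim_of_isNoetherianRing, ringKrullDim_eq_zero_of_field, zero_add]
    simp
  have h1 := GeomUnib.le_height_add_dim K n q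
  have h2 := height_add_dim_quot_le q
  rw [hK] at h2
  have h0 : (0 : WithBot ℕ∞) ≤ ringKrullDim (MvPolynomial (Fin n) K ⧸ q) := ringKrullDim_nonneg_of_nontrivial
  generalize ringKrullDim (MvPolynomial (Fin n) K ⧸ q) = d at h0 h1 h2 ⊢
  generalize q.height = a at h1 h2 ⊢
  induction d using WithBot.recBotCoe with
  | bot => simp at h0
  | coe d =>
    rw [← WithBot.coe_add] at h1 h2
    have e : a + d = n := le_antisymm (WithBot.coe_le_coe.mp h2) (WithBot.coe_le_coe.mp h1)
    induction a using ENat.recTopCoe with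
    | top => simp at e
    | coe a =>
      induction d using ENat.recTopCoe with
      | top => simp at e
      | coe d =>
        have : a + d = n := by exact_mod_cast e
        refine ⟨a, by omega, rfl, ?_⟩
        rw [show n - a = d by omega]
        rfl

/-- The dimension of an embedded spectrum of a quotient. -/
theorem dim_range_quot {R : Type u} [CommRing R] {T : Type u} [TopologicalSpace T] {j₂ : PrimeSpectrum R → T}
    (hj₂ : Topology.IsEmbedding j₂) (q : Ideal R) :
    topologicalKrullDim ↥(j₂ '' PrimeSpectrum.zeroLocus (q : Set R)) = ringKrullDim (R ⧸ q) := by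
  rw [← PrimeSpectrum.topologicalKrullDim_eq_ringKrullDim,
    show PrimeSpectrum.zeroLocus (q : Set R) = Set.range (PrimeSpectrum.comap (Ideal.Quotient.mk q)) by
      rw [range_comap_of_surjective _ _ Ideal.Quotient.mk_surjective, Ideal.mk_ker],
    ← Set.image_univ, ← Set.image_comp]
  exact (FibreDim.dim_image (hj₂.comp
    (PrimeSpectrum.isClosedEmbedding_comap_of_surjective _ _ Ideal.Quotient.mk_surjective).isEmbedding) _).trans
      (FibreDim.dim_homeo (Homeomorph.Set.univ _))

variable {A : Type u} [CommRing A] {n : ℕ}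

/-- The structure map of affine space. -/
noncomputable abbrev affMap (A : Type u) [CommRing A] (n : ℕ) :
    Spec (CommRingCat.of (MvPolynomial (Fin n) A)) ⟶ Spec (CommRingCat.of A) :=
  Spec.map (CommRingCat.ofHom (algebraMap A (MvPolynomial (Fin n) A)))

/-- The local ring of the fibre as a quotient of the local ring. -/
theorem exists_fibT_equiv (Q : PrimeSpectrum (MvPolynomial (Fin n) A)) :
    ∃ e : (Localization.AtPrime Q.asIdeal ⧸ (Q.asIdeal.under A).map (algebraMap A (Localization.AtPrime Q.asIdeal))) ≃+*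
        FibT A Q, ∀ z, e (Ideal.Quotient.mk _ z) = z ⊗ₜ 1 := by
  let P := MvPolynomial (Fin n) A
  let L := Localization.AtPrime Q.asIdeal
  let J := (Q.asIdeal.under A).map (algebraMap A P)
  let e : (L ⧸ J.map (algebraMap P L)) ≃ₐ[L] FibT A Q := Algebra.TensorProduct.quotIdealMapEquivTensorQuot L J
  refine ⟨(Ideal.quotEquivOfEq (by rw [Ideal.map_map, ← IsScalarTower.algebraMap_eq])).trans e.toRingEquiv,
    fun z => ?_⟩
  exact e.commutes z

/-- The numerical invariants of a point of the fibre of affine space. -/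
theorem exists_point_data (Q : PrimeSpectrum (MvPolynomial (Fin n) A)) :
    ∃ h : ℕ, h ≤ n ∧ IsRegularLocalRing (FibT A Q) ∧ ringKrullDim (FibT A Q) = h ∧
      FibreDim.fdim (affMap A n) Q = ((n - h : ℕ) : WithBot ℕ∞) := by
  let p := Q.asIdeal.under A
  let D := A ⧸ p
  let K := FractionRing D
  let R₁ := MvPolynomial (Fin n) D
  let P := MvPolynomial (Fin n) A
  let π : P →+* R₁ := MvPolynomial.map (Ideal.Quotient.mk p)
  have hπ : Function.Surjective π := MvPolynomial.map_surjective _ Ideal.Quotient.mk_surjective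
  have hker : RingHom.ker π = p.map (algebraMap A P) := by
    rw [MvPolynomial.ker_map, Ideal.mk_ker]
    rfl
  have hkQ : RingHom.ker π ≤ Q.asIdeal := hker.le.trans (Ideal.map_le_iff_le_comap.mpr le_rfl)
  let Q₁ : Ideal R₁ := Q.asIdeal.map π
  haveI : Q₁.IsPrime := Ideal.map_isPrime_of_surjective hπ hkQ
  have hQ₁ : Q₁.comap π = Q.asIdeal := (Ideal.comap_map_of_surjective π hπ Q.asIdeal).trans
    (sup_eq_left.mpr ((RingHom.ker_eq_comap_bot π).symm.le.trans hkQ))
  -- the fibre ring is a localisation of `R₁`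
  let L₀ := Localization.AtPrime Q.asIdeal
  let I := p.map (algebraMap A L₀)
  let g : L₀ →+* L₀ ⧸ I := Ideal.Quotient.mk _
  have hgker : RingHom.ker g = (RingHom.ker π).map (algebraMap P L₀) := by
    rw [Ideal.mk_ker, hker, Ideal.map_map, ← IsScalarTower.algebraMap_eq]
  let ρ : R₁ →+* L₀ ⧸ I := RingHom.liftOfSurjective π hπ
    ⟨g.comp (algebraMap P L₀), fun a ha => by
      have h1 : algebraMap _ L₀ a ∈ RingHom.ker g := hgker ▸ Ideal.mem_map_of_mem _ ha
      exact h1⟩
  letI : CommRing (L₀ ⧸ I) := Ideal.Quotient.commRing _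
  letI : Algebra R₁ (L₀ ⧸ I) := RingHom.toAlgebra (R := R₁) (S := L₀ ⧸ I) ρ
  have hρ : ∀ a, ρ (π a) = g (algebraMap P L₀ a) := fun a => RingHom.liftOfRightInverse_comp_apply π _ _ _ a
  have hloc : IsLocalization (Submonoid.map π Q.asIdeal.primeCompl) (L₀ ⧸ I) :=
    IsLocalization.of_surjective (R := P) (R' := R₁) (S' := L₀ ⧸ I) Q.asIdeal.primeCompl L₀ π hπ g
      Ideal.Quotient.mk_surjective (RingHom.ext fun a => (hρ a).symm) hgker.le
  have hmap : Submonoid.map π Q.asIdeal.primeCompl = Q₁.primeCompl := by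
    ext b
    constructor
    · rintro ⟨a, ha, rfl⟩
      exact fun hb => ha (hQ₁.le hb)
    · intro hb
      obtain ⟨a, rfl⟩ := hπ b
      exact ⟨a, fun ha => hb (Ideal.mem_map_of_mem π ha), rfl⟩
  haveI : IsLocalization.AtPrime (L₀ ⧸ I) Q₁ := by
    show IsLocalization Q₁.primeCompl (L₀ ⧸ I)
    rw [← hmap]
    exact hloc
  -- and `R₁` localises to a polynomial ring over a field
  let R₂ := MvPolynomial (Fin n) K
  letI : Algebra R₁ R₂ := (MvPolynomial.map (σ := Fin n) (algebraMap D K)).toAlgebra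
  let M := (nonZeroDivisors D).map (MvPolynomial.C (σ := Fin n))
  haveI : IsLocalization M R₂ := MvPolynomial.isLocalization (nonZeroDivisors D) K
  have hCQ : ∀ a : A, C (Ideal.Quotient.mk p a) ∈ Q₁ → a ∈ p := fun a hb => by
    show algebraMap A P a ∈ Q.asIdeal
    rw [← hQ₁, Ideal.mem_comap, MvPolynomial.algebraMap_eq]
    show map (Ideal.Quotient.mk p) (C a) ∈ Q₁
    rw [map_C]
    exact hb
  have hdisj : Disjoint (M : Set R₁) (Q₁ : Set R₁) := Set.disjoint_left.mpr fun b hbM hbQ => by
    obtain ⟨d, hd, rfl⟩ := hbM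
    obtain ⟨a, rfl⟩ := Ideal.Quotient.mk_surjective d
    exact nonZeroDivisors.ne_zero hd (Ideal.Quotient.eq_zero_iff_mem.mpr (hCQ a hbQ))
  let Q₂ := Q₁.map (algebraMap R₁ R₂)
  haveI : Q₂.IsPrime := IsLocalization.isPrime_of_isPrime_disjoint M _ Q₁ inferInstance hdisj
  have hQ₂ : Q₂.comap (algebraMap R₁ R₂) = Q₁ :=
    IsLocalization.under_map_of_isPrime_disjoint M _ inferInstance hdisj
  haveI : IsLocalization.AtPrime (Localization.AtPrime Q₂) (Q₂.comap (algebraMap R₁ R₂)) :=
    IsLocalization.isLocalization_isLocalization_atPrime_isLocalization M (Localization.AtPrime Q₂) Q₂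
  haveI : IsLocalization.AtPrime (Localization.AtPrime Q₂) Q₁ := by
    have h : (Q₂.comap (algebraMap R₁ R₂)).primeCompl = Q₁.primeCompl := by
      ext b
      exact not_congr (SetLike.ext_iff.mp hQ₂ b)
    show IsLocalization Q₁.primeCompl _
    rw [← h]
    assumption
  obtain ⟨e, -⟩ := exists_fibT_equiv Q
  let eT : Localization.AtPrime Q₂ ≃+* FibT A Q :=
    (IsLocalization.algEquiv Q₁.primeCompl (Localization.AtPrime Q₂) (L₀ ⧸ I)).toRingEquiv.trans e
  obtain ⟨h, hn, hh, hdim⟩ := exists_height_dim K n Q₂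
  haveI : IsRegularRing R₂ := inferInstance
  haveI : IsRegularLocalRing (Localization.AtPrime Q₂) := IsRegularRing.isRegularLocalRing_localization Q₂
  refine ⟨h, hn, IsRegularLocalRing.of_ringEquiv (R := Localization.AtPrime Q₂) eT, ?_, ?_⟩
  · rw [← ringKrullDim_eq_of_ringEquiv eT, IsLocalization.AtPrime.ringKrullDim_eq_height Q₂ (Localization.AtPrime Q₂), hh]
    rfl
  rw [← hdim]
  let j₂ : PrimeSpectrum R₂ → PrimeSpectrum P :=
    PrimeSpectrum.comap π ∘ PrimeSpectrum.comap (algebraMap R₁ R₂)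
  have hj₂ : Topology.IsEmbedding j₂ :=
    (PrimeSpectrum.isClosedEmbedding_comap_of_surjective _ _ hπ).isEmbedding.comp
      (PrimeSpectrum.localization_comap_isEmbedding R₂ M)
  refine Eq.trans ?_ (dim_range_quot hj₂ Q₂)
  rw [FibreDim.fdim]
  refine congrArg (fun s : Set (PrimeSpectrum P) => topologicalKrullDim ↥s) ?_
  have hcl : ∀ z : PrimeSpectrum P, z ∈ closure ({Q} : Set (PrimeSpectrum P)) ↔ Q.asIdeal ≤ z.asIdeal := fun z => by
    rw [← specializes_iff_mem_closure, ← PrimeSpectrum.le_iff_specializes]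
    rfl
  ext z
  constructor
  · rintro ⟨hz, hfz⟩
    have hle := (hcl z).mp hz
    have hzp : z.asIdeal.under A = p := congrArg PrimeSpectrum.asIdeal
      (show PrimeSpectrum.comap (algebraMap A P) z = PrimeSpectrum.comap (algebraMap A P) Q from hfz)
    have hkz : RingHom.ker π ≤ z.asIdeal := hkQ.trans hle
    haveI := Ideal.map_isPrime_of_surjective hπ hkz
    let z₁ : PrimeSpectrum R₁ := ⟨z.asIdeal.map π, inferInstance⟩
    have hz₁ : z₁.asIdeal.comap π = z.asIdeal := (Ideal.comap_map_of_surjective π hπ z.asIdeal).trans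
      (sup_eq_left.mpr ((RingHom.ker_eq_comap_bot π).symm.le.trans hkz))
    have hdz : Disjoint (M : Set R₁) (z₁.asIdeal : Set R₁) := Set.disjoint_left.mpr fun b hbM hbz => by
      obtain ⟨d, hd, rfl⟩ := hbM
      obtain ⟨a, rfl⟩ := Ideal.Quotient.mk_surjective d
      refine nonZeroDivisors.ne_zero hd (Ideal.Quotient.eq_zero_iff_mem.mpr ?_)
      rw [← hzp]
      show algebraMap A P a ∈ z.asIdeal
      rw [← hz₁, Ideal.mem_comap, MvPolynomial.algebraMap_eq]
      show map (Ideal.Quotient.mk p) (C a) ∈ z₁.asIdeal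
      rw [map_C]
      exact hbz
    obtain ⟨z₂, hz₂⟩ : z₁ ∈ Set.range (PrimeSpectrum.comap (algebraMap R₁ R₂)) := by
      rw [PrimeSpectrum.localization_comap_range R₂ M]
      exact hdz
    refine ⟨z₂, ?_, ?_⟩
    · refine Ideal.map_le_iff_le_comap.mpr (Ideal.map_le_iff_le_comap.mpr fun x hx => ?_)
      have : π x ∈ z₁.asIdeal := Ideal.mem_map_of_mem π (hle hx)
      rw [← hz₂] at this
      exact this
    · show PrimeSpectrum.comap π (PrimeSpectrum.comap (algebraMap R₁ R₂) z₂) = z
      rw [hz₂]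
      exact PrimeSpectrum.ext hz₁
  · rintro ⟨t, ht, rfl⟩
    have hle : Q.asIdeal ≤ (j₂ t).asIdeal := fun x hx => by
      show algebraMap R₁ R₂ (π x) ∈ t.asIdeal
      have : algebraMap R₁ R₂ (π x) ∈ Q₂ := Ideal.mem_map_of_mem _ (Ideal.mem_map_of_mem π hx)
      exact ht this
    refine ⟨(hcl _).mpr hle, ?_⟩
    show PrimeSpectrum.comap (algebraMap A P) (j₂ t) = PrimeSpectrum.comap (algebraMap A P) Q
    refine PrimeSpectrum.ext (le_antisymm (fun a ha => ?_) (Ideal.comap_mono hle))
    by_contra hap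
    have hu : IsUnit (algebraMap R₁ R₂ (C (Ideal.Quotient.mk p a))) := by
      refine IsLocalization.map_units R₂ (⟨_, Submonoid.mem_map.mpr ⟨Ideal.Quotient.mk p a, ?_, rfl⟩⟩ : M)
      exact mem_nonZeroDivisors_of_ne_zero fun h => hap (Ideal.Quotient.eq_zero_iff_mem.mp h)
    refine (PrimeSpectrum.isPrime t).ne_top (Ideal.eq_top_of_isUnit_mem _ ?_ hu)
    have : algebraMap A P a ∈ (j₂ t).asIdeal := ha
    rw [MvPolynomial.algebraMap_eq] at this
    change algebraMap R₁ R₂ (map (Ideal.Quotient.mk p) (C a)) ∈ t.asIdeal at this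
    rwa [map_C] at this

end Groth.FlatDescent.FibreDepth
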