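import Groth.Agent.FlatDescent.FibreDepth.Transfer
import Groth.Agent.FlatDescent.FibreDepth.Poly
import Groth.Agent.FlatSerre.Localize
import Groth.Agent.FreeCx.Resolution
import Groth.Agent.DepthLib.CMModule
import Groth.Agent.DepthLib.Sk

/-!
# Depth and dimension of modules on the fibres of affine space
-/

universe u

open CategoryTheory TensorProduct AlgebraicGeometry IsLocalRing LocCoh
open Groth.Agent

namespace Groth.FlatDescent.FibreDepth

section

variable (A : Type u) {P : Type u} [CommRing A] [CommRing P] [Algebra A P]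
variable (M : Type u) [AddCommGroup M] [Module P M]

/-- The restriction of a module to the fibre. -/
abbrev Mb (p : Ideal A) : Type u := M ⧸ (p.map (algebraMap A P) • ⊤ : Submodule P M)

/-- The local module on the fibre at a prime, over the local ring of the total space. -/
abbrev NQ (Q : PrimeSpectrum P) : Type u := LocalizedModule Q.asIdeal.primeCompl (Mb A (P := P) M (Q.asIdeal.under A))

/-- Depth of the local module on the fibre. -/
noncomputable abbrev dep (Q : PrimeSpectrum P) : ℕ∞ := depth (Localization.AtPrime Q.asIdeal) (NQ A M Q)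

/-- Dimension of the local module on the fibre. -/
noncomputable abbrev dm (Q : PrimeSpectrum P) : WithBot ℕ∞ :=
  Module.supportDim (Localization.AtPrime Q.asIdeal) (NQ A M Q)

variable {A}

theorem exists_nq_equiv (Q : PrimeSpectrum P) :
    ∃ e : NQ A M Q ≃+ FibT A Q ⊗[P] M, ∀ (a : Localization.AtPrime Q.asIdeal) (m : NQ A M Q),
      e (a • m) = (Algebra.TensorProduct.includeLeftRingHom : _ →+* FibT A Q) a • e m := by
  let L := Localization.AtPrime Q.asIdeal
  let J := (Q.asIdeal.under A).map (algebraMap A P)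
  let E₁ : NQ A M Q ≃ₗ[P] L ⊗[P] ((P ⧸ J) ⊗[P] M) :=
    ((LocalizedModule.equivTensorProduct Q.asIdeal.primeCompl (Mb A (P := P) M (Q.asIdeal.under A))).restrictScalars P).trans
      (TensorProduct.congr (LinearEquiv.refl P L) (TensorProduct.quotTensorEquivQuotSMul M J).symm)
  let E₂ : NQ A M Q ≃ₗ[P] FibT A Q ⊗[P] M := E₁.trans (TensorProduct.assoc P L (P ⧸ J) M).symm
  haveI : IsScalarTower P L (FibT A Q ⊗[P] M) := inferInstance
  let E₃ := E₂.extendScalarsOfIsLocalization Q.asIdeal.primeCompl L
  refine ⟨E₃.toAddEquiv, fun a m => (E₃.map_smul a m).trans ?_⟩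
  generalize E₃ m = w
  induction w using TensorProduct.induction_on with
  | zero => simp
  | add x y hx hy => rw [smul_add, hx, hy]; exact (smul_add _ x y).symm
  | tmul t m =>
    rw [TensorProduct.smul_tmul', TensorProduct.smul_tmul']
    refine congrArg (· ⊗ₜ[P] m) ?_
    induction t using TensorProduct.induction_on with
    | zero => simp
    | add x y hx hy => rw [smul_add, hx, hy]; exact (smul_add _ x y).symm
    | tmul b c =>
      rw [TensorProduct.smul_tmul', smul_eq_mul]
      show _ = (a ⊗ₜ[P] (1 : P ⧸ J)) * (b ⊗ₜ[P] c)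
      rw [Algebra.TensorProduct.tmul_mul_tmul, one_mul]

theorem includeLeft_surjective (Q : PrimeSpectrum P) :
    Function.Surjective (Algebra.TensorProduct.includeLeftRingHom : Localization.AtPrime Q.asIdeal →+* FibT A Q) := by
  intro w
  induction w using TensorProduct.induction_on with
  | zero => exact ⟨0, map_zero _⟩
  | add x y hx hy =>
    obtain ⟨a, rfl⟩ := hx
    obtain ⟨b, rfl⟩ := hy
    exact ⟨a + b, map_add _ _ _⟩
  | tmul a q =>
    obtain ⟨x, rfl⟩ := Ideal.Quotient.mk_surjective q
    refine ⟨x • a, ?_⟩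
    show (x • a) ⊗ₜ[P] (1 : P ⧸ _) = _
    rw [TensorProduct.smul_tmul, Algebra.smul_def, mul_one]
    rfl

end

section

variable {A : Type u} [CommRing A] {n : ℕ}

local notation "P" => MvPolynomial (Fin n) A

variable (M : Type u) [AddCommGroup M] [Module (MvPolynomial (Fin n) A) M]

/-- Auxiliary form of the Auslander–Buchsbaum formula. -/
theorem le_depth_add_iff {T : Type u} [CommRing T] [IsRegularLocalRing T] {h : ℕ} (hn : h ≤ n)
    (hT : ringKrullDim T = h) (N : Type u) [AddCommGroup N] [Module T N] [Module.Finite T N] (m : ℕ) :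
    (m : WithBot ℕ∞) ≤ ((depth T N : ℕ∞) : WithBot ℕ∞) + ((n - h : ℕ) : WithBot ℕ∞) ↔
      HasProjectiveDimensionLT (ModuleCat.of T N) (n + 1 - m) := by
  rcases subsingleton_or_nontrivial N with hN | hN
  · haveI : HasProjectiveDimensionLT (ModuleCat.of T N) 0 :=
      (hasProjectiveDimensionLT_zero_iff_isZero _).mpr (ModuleCat.isZero_of_subsingleton _)
    refine ⟨fun _ => hasProjectiveDimensionLT_of_ge _ 0 _ (Nat.zero_le _), fun _ => ?_⟩
    rw [DepthLib.depth_eq_top_of_subsingleton]
    exact le_top.trans_eq (by norm_cast)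
  have hd : depth T T = (h : ℕ∞) := by
    haveI := DepthLib.isCohenMacaulayLocalRing_of_isRegularLocalRing T
    have := DepthLib.ringKrullDim_eq_depth (R := T)
    rw [hT] at this
    exact (WithBot.coe_injective this).symm
  obtain ⟨e, -, heh, hdep, hpd⟩ := FreeCx.exists_depth_add_eq hd h N
    (ProjDim.gldim_le_of_regularLocal T h hT _)
  rw [hdep]
  have key : (m : WithBot ℕ∞) ≤ (((h - e : ℕ) : ℕ∞) : WithBot ℕ∞) + ((n - h : ℕ) : WithBot ℕ∞) ↔
      m ≤ (h - e) + (n - h) := by
    refine Iff.trans ?_ (Nat.cast_le (α := WithBot ℕ∞))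
    rw [Nat.cast_add]
    rfl
  rw [key]
  constructor
  · intro hm
    exact hasProjectiveDimensionLT_of_ge _ (e + 1) _ (by omega)
  · intro hlt
    cases hj : n + 1 - m with
    | zero =>
      rw [hj] at hlt
      exact absurd (ModuleCat.isZero_iff_subsingleton.mp ((hasProjectiveDimensionLT_zero_iff_isZero _).mp hlt))
        (not_subsingleton_iff_nontrivial.mpr hN)
    | succ j =>
      rw [hj] at hlt
      obtain ⟨e', he'j, he'h, hdep', -⟩ := FreeCx.exists_depth_add_eq hd j N hlt
      rw [hdep] at hdep'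
      have : h - e = h - e' := by exact_mod_cast hdep'
      omega

variable [Module.Finite (MvPolynomial (Fin n) A) M]

/-- **Auslander–Buchsbaum on the fibres of affine space.** -/
theorem le_prof_iff (Q : PrimeSpectrum P) (m : ℕ) :
    (m : WithBot ℕ∞) ≤ ((dep A M Q : ℕ∞) : WithBot ℕ∞) + FibreDim.fdim (affMap A n) Q ↔ Pd A (n + 1 - m) M Q := by
  obtain ⟨h, hn, hreg, hdim, hf⟩ := exists_point_data Q
  obtain ⟨e, he⟩ := exists_nq_equiv (A := A) M Q
  rw [hf, show dep A M Q = depth (FibT A Q) (FibT A Q ⊗[P] M) from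
    depth_transfer (R := FibT A Q) _ (includeLeft_surjective Q) e he]
  exact le_depth_add_iff hn hdim _ m

/-- `(S_k)` on the fibres through generisations. -/
theorem hasSk_nq_iff (k : ℕ) (Q : PrimeSpectrum P) :
    HasSk k (Localization.AtPrime Q.asIdeal) (NQ A M Q) ↔
      ∀ Q₀ : PrimeSpectrum P, Q₀.asIdeal ≤ Q.asIdeal → Q₀.asIdeal.under A = Q.asIdeal.under A →
        min (k : WithBot ℕ∞) (dm A M Q₀) ≤ ((dep A M Q₀ : ℕ∞) : WithBot ℕ∞) := by
  refine (FlatSerre.hasSkAt_iff (M := Mb A M (Q.asIdeal.under A)) (p := Q.asIdeal) (k := k)).trans ⟨?_, ?_⟩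
  · intro h Q₀ hle hp
    have := h Q₀.asIdeal hle
    unfold dm dep NQ
    rwa [hp]
  · intro h p' _ hle
    by_cases hp : (Q.asIdeal.under A).map (algebraMap A P) ≤ p'
    · have heq : p'.under A = Q.asIdeal.under A :=
        le_antisymm (Ideal.comap_mono hle) (Ideal.map_le_iff_le_comap.mp hp)
      have := h ⟨p', inferInstance⟩ hle heq
      unfold dm dep NQ at this
      rwa [show (⟨p', inferInstance⟩ : PrimeSpectrum P).asIdeal.under A = Q.asIdeal.under A from heq] at this
    · obtain ⟨r, hr, hrp⟩ := Set.not_subset.mp hp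
      haveI : Subsingleton (LocalizedModule p'.primeCompl (Mb A M (Q.asIdeal.under A))) := by
        refine (LocalizedModule.subsingleton_iff (R := P) (M := M ⧸ ((Q.asIdeal.under A).map (algebraMap A P) • ⊤ : Submodule P M)) (S := p'.primeCompl)).mpr fun x => ?_
        obtain ⟨x, rfl⟩ := Submodule.Quotient.mk_surjective _ x
        refine ⟨r, hrp, (Submodule.Quotient.mk_smul (p := (Q.asIdeal.under A).map (algebraMap A P) • (⊤ : Submodule P M)) r x).symm.trans ?_⟩
        exact (Submodule.Quotient.mk_eq_zero _).mpr (Submodule.smul_mem_smul hr Submodule.mem_top)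
      rw [Module.supportDim_eq_bot_of_subsingleton]
      simp

omit [Module.Finite (MvPolynomial (Fin n) A) M] in
theorem nontrivial_nq_iff [Module.Finite (MvPolynomial (Fin n) A) M] (Q : PrimeSpectrum P) :
    Nontrivial (NQ A M Q) ↔ Q ∈ Module.support P M := by
  rw [← Module.mem_support_iff, Module.support_quotient]
  exact ⟨fun h => h.1, fun h => ⟨h, fun x hx => Ideal.map_comap_le hx⟩⟩

end

end Groth.FlatDescent.FibreDepth
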