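import Groth.Agent.S6284
import Groth.Agent.S6285
import Groth.Agent.FlatSerre.Localize
import Mathlib

/-!
# The support of a flat finitely presented module maps openly to the base
-/

universe u

open TensorProduct Topology

namespace Groth.FlatDescent.FibreDepth

variable {A P : Type u} [CommRing A] [CommRing P] [Algebra A P] {M : Type u} [AddCommGroup M] [Module P M]
  [Module A M] [IsScalarTower A P M]

/-- A fibre of a flat module which is non-zero over a point is non-zero over its generisations. -/
theorem nontrivial_residue_tensor_of_le {N : Type u} [AddCommGroup N] [Module A N] [Module.Flat A N]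
    (p' p : Ideal A) [p'.IsPrime] (hle : p' ≤ p) (hp : Nontrivial ((A ⧸ p) ⊗[A] N)) :
    Nontrivial (p'.ResidueField ⊗[A] N) := by
  let π : (A ⧸ p') →ₗ[A] (A ⧸ p) := (Ideal.Quotient.factorₐ A hle).toLinearMap
  haveI : Nontrivial ((A ⧸ p') ⊗[A] N) :=
    (LinearMap.rTensor_surjective (g := π) N (Ideal.Quotient.factor_surjective hle)).nontrivial
  let i : (A ⧸ p') →ₗ[A] p'.ResidueField := (IsScalarTower.toAlgHom A (A ⧸ p') p'.ResidueField).toLinearMap
  have hi : Function.Injective i := fun a b h => Ideal.injective_algebraMap_quotient_residueField p' h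
  exact (Module.Flat.rTensor_preserves_injective_linearMap (M := N) i hi).nontrivial

/-- Going down along the support of a flat module. -/
theorem exists_le_under_eq_of_flat [Module.Finite P M] [Module.Flat A M] {Q : PrimeSpectrum P}
    (hQ : Q ∈ Module.support P M) (p' : Ideal A) [p'.IsPrime] (hle : p' ≤ Q.asIdeal.under A) :
    ∃ R : PrimeSpectrum P, R ∈ Module.support P M ∧ R.asIdeal ≤ Q.asIdeal ∧ R.asIdeal.under A = p' := by
  let L := Localization.AtPrime Q.asIdeal
  let N := L ⊗[P] M
  haveI : Module.Flat A N := by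
    haveI := Groth.Agent.FlatSerre.flat_localizedModule (A := A) Q.asIdeal.primeCompl M
    exact Module.Flat.of_linearEquiv ((LocalizedModule.equivTensorProduct Q.asIdeal.primeCompl M).restrictScalars A).symm
  haveI hN : Nontrivial N :=
    (LocalizedModule.equivTensorProduct Q.asIdeal.primeCompl M).symm.toEquiv.nontrivial_congr.mpr
      (Module.mem_support_iff.mp hQ)
  have hp : Nontrivial ((A ⧸ Q.asIdeal.under A) ⊗[A] N) := by
    refine (quotTensorEquivQuotSMul N (Q.asIdeal.under A)).toEquiv.nontrivial_congr.mpr ?_
    rw [Submodule.Quotient.nontrivial_iff]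
    intro htop
    let J := (Q.asIdeal.under A).map (algebraMap A L)
    have hJ : J ≤ IsLocalRing.maximalIdeal L := Ideal.map_le_iff_le_comap.mpr fun a ha => by
      rw [Ideal.mem_comap, IsScalarTower.algebraMap_apply A P L]
      exact (IsLocalization.AtPrime.to_map_mem_maximal_iff L Q.asIdeal _).mpr ha
    have hJN : (J • ⊤ : Submodule L N) = ⊤ := by
      apply (Submodule.restrictScalars_eq_top_iff A L N).mp
      rw [Ideal.smul_restrictScalars, Submodule.restrictScalars_top]
      exact htop
    exact not_subsingleton N (Submodule.subsingleton_iff L |>.mp (subsingleton_of_bot_eq_top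
      (Submodule.eq_bot_of_le_smul_of_le_jacobson_bot J (⊤ : Submodule L N) Module.Finite.fg_top hJN.ge
        (hJ.trans (IsLocalRing.maximalIdeal_le_jacobson _))).symm))
  haveI := nontrivial_residue_tensor_of_le (N := N) p' (Q.asIdeal.under A) hle hp
  let R' := L ⊗[A] p'.ResidueField
  haveI : Nontrivial (R' ⊗[L] N) := by
    let e : R' ⊗[L] N ≃ₗ[A] p'.ResidueField ⊗[A] N :=
      (((TensorProduct.comm L R' N).trans
        (TensorProduct.AlgebraTensorModule.cancelBaseChange A L L N p'.ResidueField)).restrictScalars A).trans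
        (TensorProduct.comm A N p'.ResidueField)
    exact e.toEquiv.nontrivial_congr.mpr inferInstance
  obtain ⟨𝔓, h𝔓⟩ := Module.nonempty_support_of_nontrivial (R := R') (M := R' ⊗[L] N)
  rw [Groth.Agent.S6284.result N, Set.mem_preimage, Groth.Agent.S6284.result (R := P) (R' := L) M,
    Set.mem_preimage] at h𝔓
  refine ⟨_, h𝔓, fun r hr => ?_, ?_⟩
  · by_contra hrQ
    exact (PrimeSpectrum.comap (algebraMap L R') 𝔓).isPrime.ne_top
      (Ideal.eq_top_of_isUnit_mem _ hr (IsLocalization.map_units L (⟨r, hrQ⟩ : Q.asIdeal.primeCompl)))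
  · ext a
    have h1 : algebraMap L R' (algebraMap P L (algebraMap A P a)) = (1 : L) ⊗ₜ[A] algebraMap A p'.ResidueField a := by
      rw [← IsScalarTower.algebraMap_apply A P L, Algebra.TensorProduct.algebraMap_apply, Algebra.algebraMap_self,
        RingHom.id_apply, Algebra.algebraMap_eq_smul_one, Algebra.algebraMap_eq_smul_one, TensorProduct.smul_tmul]
    show algebraMap L R' (algebraMap P L (algebraMap A P a)) ∈ 𝔓.asIdeal ↔ a ∈ p'
    rw [h1]
    constructor
    · intro h
      by_contra ha
      refine 𝔓.isPrime.ne_top (Ideal.eq_top_of_isUnit_mem _ h ?_)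
      exact (isUnit_iff_ne_zero.mpr fun h0 => ha (Ideal.algebraMap_residueField_eq_zero.mp h0)).map
        (Algebra.TensorProduct.includeRight : p'.ResidueField →ₐ[A] R')
    · intro ha
      rw [Ideal.algebraMap_residueField_eq_zero.mpr ha, tmul_zero]
      exact zero_mem _

/-- **The support of a flat finitely presented module maps openly.** -/
theorem isOpen_image_support [Algebra.FinitePresentation A P] [Module.FinitePresentation P M] [Module.Flat A M]
    {O : Set (PrimeSpectrum P)} (hO : IsOpen O) :
    IsOpen (PrimeSpectrum.comap (algebraMap A P) '' (Module.support P M ∩ O)) := by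
  rw [PrimeSpectrum.eq_biUnion_of_isOpen hO, Set.inter_iUnion₂, Set.image_iUnion₂]
  refine isOpen_biUnion fun r _ => PrimeSpectrum.isOpen_of_stableUnderGeneralization_of_isConstructible ?_ ?_
  · rintro _ p' hsp ⟨Q, ⟨hQM, hQr⟩, rfl⟩
    obtain ⟨R, hR, hle, hu⟩ := exists_le_under_eq_of_flat hQM p'.asIdeal
      ((PrimeSpectrum.le_iff_specializes _ _).mpr hsp)
    exact ⟨R, ⟨hR, fun h => hQr (hle h)⟩, PrimeSpectrum.ext hu⟩
  · refine PrimeSpectrum.isConstructible_comap_image (RingHom.finitePresentation_algebraMap.mpr ‹_›) ?_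
    obtain ⟨hcl, hc⟩ := Groth.Agent.S6285.result P M
    refine IsConstructible.inter ?_ PrimeSpectrum.isConstructible_basicOpen
    exact (hc.isConstructible hcl.isOpen_compl).of_compl

end Groth.FlatDescent.FibreDepth
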