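import Groth.Agent.FlatDescent.FibreDepth.Main
import Groth.Agent.FlatDescent.FibreDepth.SuppOpen

/-!
# Components of the support on the fibres
-/

universe u

open CategoryTheory CategoryTheory.Limits AlgebraicGeometry TopologicalSpace LocCoh
open Groth.Agent

namespace Groth.FlatDescent.FibreDepth

theorem exists_component_dim_iff {α : Type*} [TopologicalSpace α] [QuasiSober α] [T0Space α] {T : Set α}
    (hT : IsClosed T) (d : WithBot ℕ∞) :
    (∃ Z ∈ irreducibleComponents ↥T, topologicalKrullDim ↥Z = d) ↔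
      ∃ η ∈ T, (∀ η' ∈ T, η' ⤳ η → η' = η) ∧ topologicalKrullDim ↥(closure ({η} : Set α)) = d := by
  have hemb : Topology.IsEmbedding (Subtype.val : T → α) := Topology.IsEmbedding.subtypeVal
  have hgen : ∀ Z ∈ irreducibleComponents ↥T, ∃ η : T, Subtype.val '' Z = closure ({η.1} : Set α) := by
    intro Z hZ
    have hirr : IsIrreducible (Subtype.val '' Z) :=
      (show IsIrreducible Z from hZ.1).image _ continuous_subtype_val.continuousOn
    have hcl : IsClosed (Subtype.val '' Z) :=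
      hT.isClosedEmbedding_subtypeVal.isClosedMap _ (isClosed_of_mem_irreducibleComponents Z hZ)
    obtain ⟨η, hη⟩ := QuasiSober.sober hirr hcl
    obtain ⟨w, -, hw⟩ := hη.mem
    exact ⟨w, by rw [hw]; exact hη.def.symm⟩
  have hclT : ∀ η : T, Subtype.val '' (closure ({η} : Set T)) = closure ({η.1} : Set α) := fun η => by
    rw [← hT.isClosedEmbedding_subtypeVal.closure_image_eq, Set.image_singleton]
  constructor
  · rintro ⟨Z, hZ, hd⟩
    obtain ⟨η, hη⟩ := hgen Z hZ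
    refine ⟨η.1, η.2, fun η' hη'T hsp => ?_, ?_⟩
    · have hle : Z ⊆ closure ({⟨η', hη'T⟩} : Set T) := by
        intro z hz
        have h1 : z.1 ∈ closure ({η.1} : Set α) := hη ▸ Set.mem_image_of_mem _ hz
        rw [← specializes_iff_mem_closure, ← hemb.toIsInducing.specializes_iff]
        exact hsp.trans (specializes_iff_mem_closure.mpr h1)
      have heq : Z = closure ({⟨η', hη'T⟩} : Set T) :=
        subset_antisymm hle (hZ.2 isIrreducible_singleton.closure hle)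
      have h2 : η' ∈ closure ({η.1} : Set α) :=
        hη ▸ ⟨⟨η', hη'T⟩, heq ▸ subset_closure rfl, rfl⟩
      exact (hsp.antisymm (specializes_iff_mem_closure.mpr h2)).eq
    · rw [← hd, ← hη]
      exact FibreDim.dim_image hemb Z
  · rintro ⟨η, hηT, hmin, hd⟩
    obtain ⟨Z, hZ, hle⟩ := exists_mem_irreducibleComponents_subset_of_isIrreducible _
      (isIrreducible_singleton (x := (⟨η, hηT⟩ : T))).closure
    obtain ⟨ζ, hζ⟩ := hgen Z hZ
    have h1 : η ∈ closure ({ζ.1} : Set α) := hζ ▸ ⟨⟨η, hηT⟩, hle (subset_closure rfl), rfl⟩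
    have h2 := hmin ζ.1 ζ.2 (specializes_iff_mem_closure.mpr h1)
    refine ⟨Z, hZ, ?_⟩
    rw [← FibreDim.dim_image hemb Z, hζ, h2, hd]

variable {X Y : Scheme.{u}} (f : X ⟶ Y) [LocallyOfFinitePresentation f] (F : X.Modules) (hF : CohB1.IsFP F)

include hF

/-- Points of `Sp` with no proper generisation in `Sp` in their fibre. -/
theorem exists_minimal_below {z : X} (hz : z ∈ Sp F) :
    ∃ w : X, w ⤳ z ∧ f w = f z ∧ w ∈ Sp F ∧ FibreDim.fdim f w = delta f F z ∧
      ∀ w' ∈ Sp F, w' ⤳ w → f w' = f w → w' = w := by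
  obtain ⟨w, hwz, hfw, hwS, hw⟩ := exists_fdim_eq_delta f F hF hz
  refine ⟨w, hwz, hfw, hwS, hw, fun w' hw'S hsp hf' => ?_⟩
  by_contra hne
  have h1 := (fdim_lt_of_ne f F hF hsp hf' hne).trans_le (fdim_le_delta f F hF (hsp.trans hwz) (hf'.trans hfw) hw'S)
  exact (lt_irrefl _) (hw ▸ h1)

theorem minimal_data {z : X} (hz : z ∈ Sp F) (hmin : ∀ w' ∈ Sp F, w' ⤳ z → f w' = f z → w' = z) :
    pdepth f F z = 0 ∧ prof f F z = FibreDim.fdim f z ∧ delta f F z = FibreDim.fdim f z := by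
  obtain ⟨w, hwz, hfw, hwS, hw⟩ := exists_fdim_eq_delta f F hF hz
  obtain rfl := hmin w hwS hwz hfw
  rcases nat_data f F hF w with ⟨h, -⟩ | ⟨-, D, d, c, -, hd, hc, hdD, hp, hδ⟩
  · exact absurd hwS h
  rw [hc, hδ, Nat.cast_inj] at hw
  refine ⟨by rw [hd, show d = 0 by omega]; rfl, ?_, ?_⟩
  · rw [hp, hc, show d = 0 by omega, zero_add]
  · rw [hδ, hc, show D = 0 by omega, zero_add]

/-- The points of the support lying on a component of dimension `n` only, and being good there. -/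
def onDim (n : ℕ) : Set X :=
  Sp F ∩ ({x | (n : WithBot ℕ∞) ≤ prof f F x} ∩ {x | delta f F x ≤ (n : WithBot ℕ∞)})

theorem exists_component_iff (y : Y) (n : ℕ) :
    (∃ Z ∈ irreducibleComponents ↥{v : ↥(f.fiber y) | Nontrivial (fibN f F v)},
        topologicalKrullDim ↥Z = (n : WithBot ℕ∞)) ↔
      y ∈ f '' onDim f F n := by
  have hT : {v : ↥(f.fiber y) | Nontrivial (fibN f F v)} = f.fiberι y ⁻¹' Sp F := by
    ext v
    exact nontrivial_fibN_iff f F hF v
  rw [exists_component_dim_iff (hT ▸ (isClosed_Sp F hF).preimage (f.fiberι y).continuous)]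
  constructor
  · rintro ⟨η, hη, hmin, hd⟩
    rw [dim_closure_fibre] at hd
    have hS : f.fiberι y η ∈ Sp F := (nontrivial_fibN_iff f F hF η).mp hη
    obtain ⟨-, hp, hδ⟩ := minimal_data f F hF hS fun w' hw'S hsp hf' => by
      obtain ⟨v, rfl⟩ : w' ∈ Set.range (f.fiberι y) :=
        (f.range_fiberι y).ge (hf'.trans (apply_fiberι f η))
      rw [hmin v ((nontrivial_fibN_iff f F hF v).mpr hw'S) ((fiberι_specializes f).mp hsp)]
    exact ⟨_, ⟨hS, (hd.symm.trans hp.symm).le, (hδ.trans hd).le⟩, apply_fiberι f η⟩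
  · rintro ⟨x, ⟨hxS, hxp, hxδ⟩, hxy⟩
    obtain ⟨w, hwx, hfw, hwS, hw, hmin⟩ := exists_minimal_below f F hF hxS
    obtain ⟨η, rfl⟩ : w ∈ Set.range (f.fiberι y) := (f.range_fiberι y).ge (hfw.trans hxy)
    refine ⟨η, (nontrivial_fibN_iff f F hF η).mpr hwS, fun η' hη' hsp => (f.fiberι y).isEmbedding.injective
      (hmin _ ((nontrivial_fibN_iff f F hF η').mp hη') ((fiberι_specializes f).mpr hsp)
        ((apply_fiberι f η').trans (apply_fiberι f η).symm)), ?_⟩
    rw [dim_closure_fibre, hw]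
    refine le_antisymm hxδ (hxp.trans ?_)
    exact (prof_le_of_gen f F hF specializes_rfl rfl hxS).1

variable (hflat : FlatMod.IsFlatOver f F)

include hflat

/-- The support maps openly to the base. -/
theorem isOpen_image_Sp {U : Set X} (hU : IsOpen U) : IsOpen (f '' (Sp F ∩ U)) := by
  refine isOpen_iff_forall_mem_open.mpr ?_
  rintro _ ⟨x, ⟨hxS, hxU⟩, rfl⟩
  obtain ⟨C, hxW⟩ := exists_chart f F hF x
  haveI : Module.Flat C.A C.M := C.flat fun z _ => hflat z
  obtain ⟨O, hO, hOU⟩ := C.emb.isEmbedding.toIsInducing.isOpen_iff.mp (hU.preimage continuous_subtype_val)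
  refine ⟨C.base '' (PrimeSpectrum.comap (algebraMap C.A (MvPolynomial (Fin C.n) C.A)) ''
      (Module.support (MvPolynomial (Fin C.n) C.A) C.M ∩ O)), ?_, C.isOpenMap_base _ (isOpen_image_support hO), ?_⟩
  · rintro _ ⟨_, ⟨Q, ⟨hQM, hQO⟩, rfl⟩, rfl⟩
    obtain ⟨w, rfl⟩ := C.supp hQM
    have hwU : w.1 ∈ U := by
      have : w ∈ Subtype.val ⁻¹' U := hOU ▸ hQO
      exact this
    exact ⟨w.1, ⟨(C.mem_supp w).mp hQM, hwU⟩, C.f_base w⟩
  · have hmem : C.ι ⟨x, hxW⟩ ∈ O := by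
      have : (⟨x, hxW⟩ : C.W) ∈ C.ι ⁻¹' O := hOU.symm ▸ hxU
      exact this
    exact ⟨_, ⟨_, ⟨(C.mem_supp ⟨x, hxW⟩).mpr hxS, hmem⟩, rfl⟩, (C.f_base ⟨x, hxW⟩).symm⟩

theorem isOpen_exists_component (n : ℕ) :
    IsOpen {y : Y | ∃ Z ∈ irreducibleComponents ↥{v : ↥(f.fiber y) | Nontrivial (fibN f F v)},
        topologicalKrullDim ↥Z = (n : WithBot ℕ∞)} := by
  simp_rw [exists_component_iff f F hF]
  exact isOpen_image_Sp f F hF hflat ((isOpen_le_prof f F hF hflat n).inter (isOpen_delta_le f F hF n))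

omit hflat in
/-- No embedded associated points: the components of the support are the associated points. -/
theorem noEmbedded_and_dims_iff (y : Y) (Φ : Finset ℕ) :
    (AssSch.NoEmbedded ((Scheme.Modules.pullback (f.fiberι y)).obj F) ∧
      (fun Z : Set ↥{v : ↥(f.fiber y) | Nontrivial (fibN f F v)} => topologicalKrullDim ↥Z) ''
          irreducibleComponents ↥{v : ↥(f.fiber y) | Nontrivial (fibN f F v)} =
        (fun n : ℕ => (n : WithBot ℕ∞)) '' (Φ : Set ℕ)) ↔
    AssSch.NoEmbedded ((Scheme.Modules.pullback (f.fiberι y)).obj F) ∧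
      (∀ z ∈ AssSch.Ass ((Scheme.Modules.pullback (f.fiberι y)).obj F), ∃ n ∈ Φ,
        topologicalKrullDim ↥(closure ({z} : Set ↥(f.fiber y))) = (n : WithBot ℕ∞)) ∧
      ∀ n ∈ Φ, ∃ Z ∈ irreducibleComponents ↥{v : ↥(f.fiber y) | Nontrivial (fibN f F v)},
        topologicalKrullDim ↥Z = (n : WithBot ℕ∞) := by
  have hT : IsClosed {v : ↥(f.fiber y) | Nontrivial (fibN f F v)} := by
    have h : {v : ↥(f.fiber y) | Nontrivial (fibN f F v)} = f.fiberι y ⁻¹' Sp F := by
      ext v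
      exact nontrivial_fibN_iff f F hF v
    exact h ▸ (isClosed_Sp F hF).preimage (f.fiberι y).continuous
  refine and_congr_right fun hne => ⟨fun h => ⟨fun z hz => ?_, fun n hn => ?_⟩, fun h => ?_⟩
  · obtain ⟨hzS, -⟩ := depth_zero_data f F hF ((mem_ass_iff f F hF z).mp hz)
    obtain ⟨w, hwz, hfw, hwS, -, hmin⟩ := exists_minimal_below f F hF hzS
    obtain ⟨η, rfl⟩ : w ∈ Set.range (f.fiberι y) := (f.range_fiberι y).ge (hfw.trans (apply_fiberι f z))
    have hη := (mem_ass_iff f F hF η).mpr (minimal_data f F hF hwS hmin).1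
    obtain rfl : z = η := hne z hz η hη ((fiberι_specializes f).mp hwz)
    obtain ⟨Z, hZ, hd⟩ := (exists_component_dim_iff hT (topologicalKrullDim ↥(closure ({z} : Set ↥(f.fiber y))))).mpr
      ⟨z, (nontrivial_fibN_iff f F hF z).mpr hwS, fun η' hη' hsp => (f.fiberι y).isEmbedding.injective
        (hmin _ ((nontrivial_fibN_iff f F hF η').mp hη') ((fiberι_specializes f).mpr hsp)
          ((apply_fiberι f η').trans (apply_fiberι f z).symm)), rfl⟩
    obtain ⟨n, hn, hnd⟩ : topologicalKrullDim ↥Z ∈ (fun n : ℕ => (n : WithBot ℕ∞)) '' (Φ : Set ℕ) :=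
      h ▸ ⟨Z, hZ, rfl⟩
    exact ⟨n, hn, hd.symm.trans hnd.symm⟩
  · obtain ⟨Z, hZ, hd⟩ : (n : WithBot ℕ∞) ∈ (fun Z : Set ↥{v : ↥(f.fiber y) | Nontrivial (fibN f F v)} =>
        topologicalKrullDim ↥Z) '' irreducibleComponents ↥{v : ↥(f.fiber y) | Nontrivial (fibN f F v)} :=
      h ▸ ⟨n, hn, rfl⟩
    exact ⟨Z, hZ, hd⟩
  · refine subset_antisymm ?_ ?_
    · rintro _ ⟨Z, hZ, rfl⟩
      obtain ⟨η, hη, hmin, hd⟩ := (exists_component_dim_iff hT _).mp ⟨Z, hZ, rfl⟩
      have hS := (nontrivial_fibN_iff f F hF η).mp hη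
      have hass := (mem_ass_iff f F hF η).mpr (minimal_data f F hF hS fun w' hw'S hsp hf' => by
        obtain ⟨v, rfl⟩ : w' ∈ Set.range (f.fiberι y) :=
          (f.range_fiberι y).ge (hf'.trans (apply_fiberι f η))
        rw [hmin v ((nontrivial_fibN_iff f F hF v).mpr hw'S) ((fiberι_specializes f).mp hsp)]).1
      obtain ⟨n, hn, hnd⟩ := h.1 η hass
      exact ⟨n, hn, hnd.symm.trans hd⟩
    · rintro _ ⟨n, hn, rfl⟩
      obtain ⟨Z, hZ, hd⟩ := h.2 n hn
      exact ⟨Z, hZ, hd⟩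

end Groth.FlatDescent.FibreDepth
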