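import Groth.Agent.FlatDescent.FibreDepth.Ring
import Groth.Agent.FlatDescent.FibreDepth.Components

/-!
# Applications of the semicontinuity of the invariants on the fibres
-/

universe u

open CategoryTheory CategoryTheory.Limits AlgebraicGeometry TopologicalSpace LocCoh
open Groth.Agent

namespace Groth.FlatDescent.FibreDepth

variable {X Y : Scheme.{u}} (f : X ⟶ Y) [LocallyOfFinitePresentation f]

theorem mem_Sp_structureModule (x : X) : x ∈ Sp (Coh.structureModule X) :=
  (unitStalkEquiv x).toEquiv.nontrivial_congr.mp inferInstance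

/-- Every point of a fibre has a generisation in its fibre with Cohen-Macaulay local ring. -/
theorem exists_cm_generization {y : Y} (v : f.fiber y) : ∃ w : f.fiber y, w ⤳ v ∧
    IsCohenMacaulayLocalRing ((f.fiber (f (f.fiberι y w))).presheaf.stalk (f.asFiber (f.fiberι y w))) := by
  obtain ⟨z, hz, hfz, hzS, -, hmin⟩ :=
    exists_minimal_below f _ (isFP_structureModule X) (mem_Sp_structureModule (f.fiberι y v))
  obtain ⟨w, rfl⟩ : z ∈ Set.range (f.fiberι y) := (f.range_fiberι y).ge (hfz.trans (apply_fiberι f v))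
  refine ⟨w, (fiberι_specializes f).mp hz, ?_⟩
  haveI := isNoetherianRing_fibre_stalk f (f.asFiber (f.fiberι y w))
  obtain ⟨h0, -, hδ⟩ := minimal_data f _ (isFP_structureModule X) hzS hmin
  obtain ⟨h1, h2, -⟩ := ring_invariants f (f.fiberι y w)
  refine DepthLib.isCohenMacaulayLocalRing_iff.mpr ?_
  rw [h1, h2, h0]
  rcases nat_data f _ (isFP_structureModule X) (f.fiberι y w) with ⟨h, -⟩ | ⟨-, D, d, c, hD, -, hc, -, -, hδ'⟩
  · exact absurd hzS h
  rw [hδ', hc, Nat.cast_inj] at hδ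
  rw [hD, show D = 0 by omega]
  rfl

/-- The points at which the fibre has dimension `d` and only associated points of dimension `d`. -/
noncomputable def pieceOpens [Flat f] (d : ℕ) : X.Opens :=
  ⟨AssDimAt f (Coh.structureModule X) {d} ∩ {x | delta f (Coh.structureModule X) x ≤ (d : WithBot ℕ∞)},
    (isOpen_assDimAt f _ (isFP_structureModule X) (isFlatOver_structureModule f) _).inter
      (isOpen_delta_le f _ (isFP_structureModule X) d)⟩

theorem fibreDimAt_eq_delta (x : X) : FlatMor.fibreDimAt f x = delta f (Coh.structureModule X) x := by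
  obtain ⟨m, hm, ⟨w, hw, hwx, hwm⟩, hall⟩ := FibreDim.exists_fibreDimAt_eq f x
  refine le_antisymm ?_ ?_
  · rw [hm, ← hwm]
    exact fdim_le_delta f _ (isFP_structureModule X) hwx hw (mem_Sp_structureModule w)
  · obtain ⟨z, hzx, hf, -, hz⟩ := exists_fdim_eq_delta f _ (isFP_structureModule X) (mem_Sp_structureModule x)
    rw [← hz, hm]
    exact hall z hf hzx

theorem fibreDimAt_of_mem_pieceOpens [Flat f] {d : ℕ} {x : X} (hx : x ∈ pieceOpens f d) :
    FlatMor.fibreDimAt f x = (d : WithBot ℕ∞) := by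
  rw [fibreDimAt_eq_delta]
  obtain ⟨w, hwx, hfw, hwS, hw, hmin⟩ :=
    exists_minimal_below f _ (isFP_structureModule X) (mem_Sp_structureModule x)
  obtain ⟨n, hn, hwn⟩ := hx.1 w hwx hfw (minimal_data f _ (isFP_structureModule X) hwS hmin).1
  rw [Finset.mem_singleton] at hn
  subst hn
  exact hw.symm.trans hwn

theorem dense_pieceOpens [Flat f] (y : Y) :
    Dense ((f.fiberι y) ⁻¹' ((⨆ d, pieceOpens f d : X.Opens) : Set X)) := by
  intro v
  obtain ⟨z, hz, hfz, hzS, -, hmin⟩ :=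
    exists_minimal_below f _ (isFP_structureModule X) (mem_Sp_structureModule (f.fiberι y v))
  obtain ⟨w, rfl⟩ : z ∈ Set.range (f.fiberι y) := (f.range_fiberι y).ge (hfz.trans (apply_fiberι f v))
  obtain ⟨c, hc⟩ := exists_fd f (f.fiberι y w)
  refine closure_mono (Set.singleton_subset_iff.mpr ?_) (specializes_iff_mem_closure.mp ((fiberι_specializes f).mp hz))
  refine Opens.mem_iSup.mpr ⟨c, fun z' hz' hf' h0 => ?_, ?_⟩
  · exact ⟨c, Finset.mem_singleton_self _, by rw [hmin z' (mem_Sp_structureModule z') hz' hf', hc]⟩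
  · exact ((minimal_data f _ (isFP_structureModule X) hzS hmin).2.2.trans hc).le

theorem dim_inter_fibre_le_iff {Z : Set X} (hZ : IsClosed Z) (y : Y) (c : WithBot ℕ∞) :
    topologicalKrullDim ↥(Z ∩ f.base ⁻¹' {y}) ≤ c ↔ ∀ w ∈ Z ∩ f.base ⁻¹' {y}, FibreDim.fdim f w ≤ c := by
  have h0 : Z ∩ f.base ⁻¹' {y} = Z ∩ f.base ⁻¹' {y} ∩ Set.univ := (Set.inter_univ _).symm
  constructor
  · intro h w hw
    rw [h0] at h
    exact (FibreDim.fdim_le_dim_inter f hZ isOpen_univ y w hw.1 trivial hw.2).trans h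
  · intro h
    rw [h0]
    exact FibreDim.dim_inter_le f hZ isOpen_univ y fun w hw _ hwy => h w ⟨hw, hwy⟩

variable (F : X.Modules) (hF : CohB1.IsFP F) (hflat : FlatMod.IsFlatOver f F)

include hF hflat

/-- The depth along a closed subset is at least `n` on an open set. -/
theorem isOpen_forall_le_pdepth {Z : Set X} (hZ : IsClosed Z) (n : ℕ) :
    IsOpen {x : X | ∀ z ∈ Z, z ⤳ x → f z = f x → (n : ℕ∞) ≤ pdepth f F z} := by
  refine isOpen_iff_forall_mem_open.mpr fun x hx => ?_
  obtain ⟨d, hd⟩ := exists_delta_le f F hF x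
  let U : Set X := {y | delta f F y ≤ (d : WithBot ℕ∞)} ∩ ⋂ r ∈ Set.Iic d,
    {y | ∀ z ∈ Z ∩ {z | prof f F z ≤ (r : WithBot ℕ∞)}, z ⤳ y → f z = f y →
      FibreDim.fdim f z < ((r + 1 - n : ℕ) : WithBot ℕ∞)}
  refine ⟨U, fun y hy z hzZ hzy hf => ?_, (isOpen_delta_le f F hF d).inter
    ((Set.finite_Iic d).isOpen_biInter fun r _ =>
      isOpen_forall_fdim_lt f (hZ.inter (isClosed_prof_le f F hF hflat r)) _), hd, ?_⟩
  · rcases nat_data f F hF z with ⟨-, -, -, -, h⟩ | ⟨hzS, D, e, c, -, he, hc, -, hp, -⟩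
    · rw [h]; exact le_top
    rw [he, Nat.cast_le]
    by_contra hlt
    have h1 := ((prof_le_of_gen f F hF hzy hf hzS).1.trans (prof_le_of_gen f F hF hzy hf hzS).2).trans hy.1
    rw [hp, Nat.cast_le] at h1
    have h2 := Set.mem_iInter₂.mp hy.2 (e + c) h1 z ⟨hzZ, hp.le⟩ hzy hf
    rw [hc, Nat.cast_lt] at h2
    omega
  · refine Set.mem_iInter₂.mpr fun r _ z hz hzx hf => ?_
    rcases nat_data f F hF z with ⟨-, -, h, -, -⟩ | ⟨-, D, e, c, -, he, hc, -, hp, -⟩
    · have hz' := hz.2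
      change prof f F z ≤ _ at hz'
      rw [h] at hz'
      exact absurd (WithBot.coe_le_coe.mp hz') (by simp)
    have h1 := hx z hz.1 hzx hf
    rw [he, Nat.cast_le] at h1
    have hz2 := hz.2
    change prof f F z ≤ _ at hz2
    rw [hp, Nat.cast_le] at hz2
    rw [hc, Nat.cast_lt]
    omega

omit hflat in
theorem dim_support_fibre_le_iff (y : Y) (n : ℕ) :
    topologicalKrullDim ↥{v : ↥(f.fiber y) | Nontrivial (fibN f F v)} ≤ (n : WithBot ℕ∞) ↔
      ∀ v : f.fiber y, delta f F (f.fiberι y v) ≤ (n : WithBot ℕ∞) := by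
  have hT : {v : ↥(f.fiber y) | Nontrivial (fibN f F v)} = f.fiberι y ⁻¹' Sp F := by
    ext v
    exact nontrivial_fibN_iff f F hF v
  have himg : f.fiberι y '' {v : ↥(f.fiber y) | Nontrivial (fibN f F v)} = Sp F ∩ f.base ⁻¹' {y} := by
    rw [hT, Set.image_preimage_eq_inter_range, f.range_fiberι]
  rw [← FibreDim.dim_image (f.fiberι y).isEmbedding, himg, dim_inter_fibre_le_iff f (isClosed_Sp F hF)]
  constructor
  · intro h v
    rcases nat_data f F hF (f.fiberι y v) with ⟨-, -, -, hδ, -⟩ | ⟨hS, -⟩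
    · rw [hδ]; exact bot_le
    · obtain ⟨z, hzx, hf, hzS, hz⟩ := exists_fdim_eq_delta f F hF hS
      rw [← hz]
      exact h z ⟨hzS, hf.trans (apply_fiberι f v)⟩
  · intro h z hz
    obtain ⟨v, rfl⟩ : z ∈ Set.range (f.fiberι y) := (f.range_fiberι y).ge hz.2
    exact (fdim_le_delta f F hF specializes_rfl rfl hz.1).trans (h v)

end Groth.FlatDescent.FibreDepth
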