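import Groth.Agent.FlatDescent.FibreDepth.Alg

/-!
# Dimension of the support on the fibres of affine space
-/

universe u

open CategoryTheory TensorProduct AlgebraicGeometry IsLocalRing LocCoh
open Groth.Agent

namespace Groth.FlatDescent.FibreDepth

variable {A : Type u} [CommRing A] {n : ℕ}

local notation "P" => MvPolynomial (Fin n) A

theorem exists_self_equiv (Q : PrimeSpectrum P) :
    ∃ e : NQ A (MvPolynomial (Fin n) A) Q ≃+ FibT A Q, ∀ (a : Localization.AtPrime Q.asIdeal) (m : _),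
      e (a • m) = (Algebra.TensorProduct.includeLeftRingHom : _ →+* FibT A Q) a • e m := by
  obtain ⟨e, he⟩ := exists_nq_equiv (A := A) (MvPolynomial (Fin n) A) Q
  let r : FibT A Q ⊗[P] P ≃ₗ[FibT A Q] FibT A Q := TensorProduct.AlgebraTensorModule.rid P (FibT A Q) (FibT A Q)
  refine ⟨e.trans r.toAddEquiv, fun a m => ?_⟩
  show r (e (a • m)) = _
  rw [he, map_smul]
  rfl

/-- Dimension of the fibre local ring as an invariant of the free module. -/
theorem exists_dm_self (Q : PrimeSpectrum P) : ∃ h : ℕ, h ≤ n ∧ ringKrullDim (FibT A Q) = h ∧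
    dm A (MvPolynomial (Fin n) A) Q = h ∧ FibreDim.fdim (affMap A n) Q = ((n - h : ℕ) : WithBot ℕ∞) := by
  obtain ⟨h, hn, -, hdim, hf⟩ := exists_point_data Q
  obtain ⟨e, he⟩ := exists_self_equiv Q
  refine ⟨h, hn, hdim, ?_, hf⟩
  have := supportDim_transfer (R := FibT A Q) (N := FibT A Q) _ (includeLeft_surjective Q) e he
  rw [Module.supportDim_self_eq_ringKrullDim, hdim] at this
  exact this

/-- A prime of the fibre local ring. -/
theorem exists_fibre_prime {Q₀ Q : PrimeSpectrum P} (hle : Q₀.asIdeal ≤ Q.asIdeal)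
    (hp : Q₀.asIdeal.under A = Q.asIdeal.under A) :
    let φ : Localization.AtPrime Q.asIdeal →+* FibT A Q := Algebra.TensorProduct.includeLeftRingHom
    let q₀ := Q₀.asIdeal.map (algebraMap P (Localization.AtPrime Q.asIdeal))
    q₀.IsPrime ∧ q₀.comap (algebraMap P (Localization.AtPrime Q.asIdeal)) = Q₀.asIdeal ∧
      RingHom.ker φ ≤ q₀ := by
  intro φ q₀
  have hd : Disjoint (Q.asIdeal.primeCompl : Set P) (Q₀.asIdeal : Set P) :=
    Set.disjoint_left.mpr fun x hx hx' => hx (hle hx')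
  refine ⟨IsLocalization.isPrime_of_isPrime_disjoint _ _ _ inferInstance hd,
    IsLocalization.comap_map_of_isPrime_disjoint Q.asIdeal.primeCompl _ inferInstance hd, fun z hz => ?_⟩
  obtain ⟨e, he⟩ := exists_fibT_equiv Q
  have h1 : Ideal.Quotient.mk _ z = 0 := e.injective (by rw [he, map_zero]; exact hz)
  rw [Ideal.Quotient.eq_zero_iff_mem, IsScalarTower.algebraMap_eq A P, ← Ideal.map_map] at h1
  refine Ideal.map_mono ?_ h1
  rw [← hp]
  exact Ideal.map_comap_le

/-- The dimension of the closure in the fibre along a generisation. -/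
theorem fdim_eq_add {Q₀ Q : PrimeSpectrum P} (hle : Q₀.asIdeal ≤ Q.asIdeal)
    (hp : Q₀.asIdeal.under A = Q.asIdeal.under A) :
    FibreDim.fdim (affMap A n) Q₀ = ringKrullDim
        (Localization.AtPrime Q.asIdeal ⧸ Q₀.asIdeal.map (algebraMap P (Localization.AtPrime Q.asIdeal))) +
      FibreDim.fdim (affMap A n) Q := by
  let φ : Localization.AtPrime Q.asIdeal →+* FibT A Q := Algebra.TensorProduct.includeLeftRingHom
  let q₀ := Q₀.asIdeal.map (algebraMap P (Localization.AtPrime Q.asIdeal))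
  obtain ⟨hq₀, hq₀', hker⟩ := exists_fibre_prime hle hp
  haveI := hq₀
  obtain ⟨e, he⟩ := exists_self_equiv Q
  obtain ⟨h, hn, hdim, -, hf⟩ := exists_dm_self Q
  obtain ⟨h₀, hn₀, -, hdm₀, hf₀⟩ := exists_dm_self Q₀
  obtain ⟨_, -, hreg, -, -⟩ := exists_point_data Q
  haveI : (q₀.map φ).IsPrime := Ideal.map_isPrime_of_surjective (includeLeft_surjective Q) hker
  have hc : (q₀.map φ).comap φ = q₀ := (Ideal.comap_map_of_surjective φ (includeLeft_surjective Q) q₀).trans
    (sup_eq_left.mpr ((RingHom.ker_eq_comap_bot φ).symm.le.trans hker))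
  let q' : PrimeSpectrum (FibT A Q) := ⟨q₀.map φ, inferInstance⟩
  haveI := DepthLib.isCohenMacaulayLocalRing_of_isRegularLocalRing (FibT A Q)
  have hcm := (DepthLib.isCohenMacaulayModule_localization (R := FibT A Q) DepthLib.isCohenMacaulayModule_self q'
    (Module.mem_support_iff_exists_annihilator.mpr ⟨1, fun r hr => by
      rw [Submodule.mem_annihilator_span_singleton, smul_eq_mul, mul_one] at hr
      exact hr ▸ zero_mem _⟩)).2
  rw [← (localization_transfer (R := FibT A Q) (N := FibT A Q) φ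
    (includeLeft_surjective Q) e he q'.asIdeal).2, Module.supportDim_self_eq_ringKrullDim, hdim] at hcm
  have h2 : Module.supportDim (Localization.AtPrime (q'.asIdeal.comap φ))
      (LocalizedModule (q'.asIdeal.comap φ).primeCompl (NQ A (MvPolynomial (Fin n) A) Q)) = (h₀ : WithBot ℕ∞) := by
    have h3 := (FlatSerre.invariants_localized_twice (P ⧸ ((Q.asIdeal.under A).map (algebraMap A P) • ⊤ : Submodule P P)) Q.asIdeal
      (q'.asIdeal.comap φ) Q₀.asIdeal ((congrArg (Ideal.comap _) hc).trans hq₀')).2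
    refine h3.trans ?_
    rw [← hdm₀]
    unfold dm NQ
    rw [hp]
  rw [h2, ← ringKrullDim_eq_of_ringEquiv (R := Localization.AtPrime Q.asIdeal ⧸ q₀) ((Ideal.quotEquivOfEq
    (show q₀ = RingHom.ker ((Ideal.Quotient.mk q'.asIdeal).comp φ) by
      rw [← RingHom.comap_ker, Ideal.mk_ker]; exact hc.symm)).trans
    (RingHom.quotientKerEquivOfSurjective (f := (Ideal.Quotient.mk q'.asIdeal).comp φ)
      (Ideal.Quotient.mk_surjective.comp (includeLeft_surjective Q))))] at hcm
  rw [hf, hf₀]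
  generalize ringKrullDim (Localization.AtPrime Q.asIdeal ⧸ q₀) = d at hcm ⊢
  induction d using WithBot.recBotCoe with
  | bot => simp at hcm
  | coe d =>
    induction d using ENat.recTopCoe with
    | top =>
      exfalso
      have : ((⊤ : ℕ∞) : WithBot ℕ∞) = ((h : ℕ∞) : WithBot ℕ∞) := by
        rw [← add_top (a := (h₀ : ℕ∞)), WithBot.coe_add]
        exact hcm
      exact ENat.top_ne_natCast h (WithBot.coe_injective this)
    | coe d =>
      have h4 : h₀ + d = h := by exact_mod_cast hcm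
      rw [show n - h₀ = d + (n - h) by omega, Nat.cast_add]
      rfl

variable (M : Type u) [AddCommGroup M] [Module (MvPolynomial (Fin n) A) M] [Module.Finite (MvPolynomial (Fin n) A) M]

theorem mem_support_nq {Q₀ Q : PrimeSpectrum P} (hle : Q₀.asIdeal ≤ Q.asIdeal)
    (hp : Q₀.asIdeal.under A = Q.asIdeal.under A) (hM : Q₀ ∈ Module.support P M) :
    ∃ hq : (Q₀.asIdeal.map (algebraMap P (Localization.AtPrime Q.asIdeal))).IsPrime,
      (⟨_, hq⟩ : PrimeSpectrum (Localization.AtPrime Q.asIdeal)) ∈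
        Module.support (Localization.AtPrime Q.asIdeal) (NQ A M Q) := by
  obtain ⟨hq₀, hq₀', -⟩ := exists_fibre_prime hle hp
  haveI := hq₀
  refine ⟨hq₀, ?_⟩
  rw [Module.mem_support_iff]
  by_contra hne
  rw [not_nontrivial_iff_subsingleton] at hne
  have h1 := (FlatSerre.invariants_localized_twice (M ⧸ ((Q.asIdeal.under A).map (algebraMap A P) • ⊤ : Submodule P M)) Q.asIdeal
    (Q₀.asIdeal.map (algebraMap P (Localization.AtPrime Q.asIdeal))) Q₀.asIdeal hq₀').2
  rw [Module.supportDim_eq_bot_of_subsingleton] at h1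
  haveI : Nontrivial (LocalizedModule Q₀.asIdeal.primeCompl (M ⧸ ((Q.asIdeal.under A).map (algebraMap A P) • ⊤ : Submodule P M))) := by
    rw [← hp]
    exact (nontrivial_nq_iff M Q₀).mpr hM
  exact Module.supportDim_ne_bot_of_nontrivial (Localization.AtPrime Q₀.asIdeal) _ h1.symm

/-- The support of the local module on the fibre. -/
theorem of_mem_support_nq {Q : PrimeSpectrum P} (q : PrimeSpectrum (Localization.AtPrime Q.asIdeal))
    (hq : q ∈ Module.support (Localization.AtPrime Q.asIdeal) (NQ A M Q)) :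
    ∃ Q₀ : PrimeSpectrum P, Q₀.asIdeal ≤ Q.asIdeal ∧ Q₀.asIdeal.under A = Q.asIdeal.under A ∧
      Q₀ ∈ Module.support P M ∧ Q₀.asIdeal.map (algebraMap P (Localization.AtPrime Q.asIdeal)) = q.asIdeal := by
  let Q₀ : PrimeSpectrum P := PrimeSpectrum.comap (algebraMap P (Localization.AtPrime Q.asIdeal)) q
  have hle : Q₀.asIdeal ≤ Q.asIdeal := (Ideal.comap_mono (IsLocalRing.le_maximalIdeal q.isPrime.ne_top)).trans
    Localization.AtPrime.under_maximalIdeal.le
  have h1 := (FlatSerre.invariants_localized_twice (M ⧸ ((Q.asIdeal.under A).map (algebraMap A P) • ⊤ : Submodule P M)) Q.asIdeal q.asIdeal Q₀.asIdeal rfl).2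
  have h2 : Q₀ ∈ Module.support P (M ⧸ ((Q.asIdeal.under A).map (algebraMap A P) • ⊤ : Submodule P M)) := by
    rw [Module.mem_support_iff]
    by_contra hne
    rw [not_nontrivial_iff_subsingleton] at hne
    rw [Module.supportDim_eq_bot_of_subsingleton (R := Localization.AtPrime Q₀.asIdeal)] at h1
    haveI := Module.mem_support_iff.mp hq
    exact Module.supportDim_ne_bot_of_nontrivial (Localization.AtPrime q.asIdeal) _ h1
  rw [Module.support_quotient] at h2
  exact ⟨Q₀, hle, le_antisymm (Ideal.comap_mono hle) (Ideal.map_le_iff_le_comap.mp h2.2), h2.1,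
    IsLocalization.map_comap Q.asIdeal.primeCompl _ q.asIdeal⟩

theorem exists_nat_fdim (Q : PrimeSpectrum P) : ∃ d : ℕ, FibreDim.fdim (affMap A n) Q = d := by
  obtain ⟨h, -, -, -, hf⟩ := exists_dm_self Q
  exact ⟨n - h, hf⟩

/-- The dimension of the support is attained by the generisations. -/
theorem fdim_le_dm_add {Q₀ Q : PrimeSpectrum P} (hle : Q₀.asIdeal ≤ Q.asIdeal)
    (hp : Q₀.asIdeal.under A = Q.asIdeal.under A) (hM : Q₀ ∈ Module.support P M) :
    FibreDim.fdim (affMap A n) Q₀ ≤ dm A M Q + FibreDim.fdim (affMap A n) Q := by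
  obtain ⟨hq, hmem⟩ := mem_support_nq M hle hp hM
  rw [fdim_eq_add hle hp]
  exact add_le_add (DepthLib.ringKrullDim_quotient_le_supportDim ⟨_, hq⟩ hmem) le_rfl

theorem exists_fdim_eq_dm_add {Q : PrimeSpectrum P} (hM : Q ∈ Module.support P M) :
    ∃ Q₀ : PrimeSpectrum P, Q₀.asIdeal ≤ Q.asIdeal ∧ Q₀.asIdeal.under A = Q.asIdeal.under A ∧
      Q₀ ∈ Module.support P M ∧ FibreDim.fdim (affMap A n) Q₀ = dm A M Q + FibreDim.fdim (affMap A n) Q := by
  obtain ⟨e, he⟩ := exists_nq_equiv (A := A) M Q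
  obtain ⟨_, -, hreg, -, -⟩ := exists_point_data Q
  let φ : Localization.AtPrime Q.asIdeal →+* FibT A Q := Algebra.TensorProduct.includeLeftRingHom
  haveI : Nontrivial (NQ A M Q) := (nontrivial_nq_iff M Q).mpr hM
  haveI : Nontrivial (FibT A Q ⊗[P] M) := e.symm.toEquiv.nontrivial
  obtain ⟨q', hq', hdim⟩ := DepthLib.exists_mem_support_ringKrullDim_eq (R := FibT A Q) (M := FibT A Q ⊗[P] M)
  let q : PrimeSpectrum (Localization.AtPrime Q.asIdeal) := PrimeSpectrum.comap φ q'
  have hmem : q ∈ Module.support (Localization.AtPrime Q.asIdeal) (NQ A M Q) := by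
    rw [Module.mem_support_iff]
    by_contra hne
    rw [not_nontrivial_iff_subsingleton] at hne
    have h1 := (localization_transfer (R := FibT A Q) (N := FibT A Q ⊗[P] M) φ (includeLeft_surjective Q) e he
      q'.asIdeal).2
    haveI : Subsingleton (LocalizedModule (Ideal.comap φ q'.asIdeal).primeCompl (NQ A M Q)) := hne
    rw [Module.supportDim_eq_bot_of_subsingleton] at h1
    haveI := Module.mem_support_iff.mp hq'
    exact Module.supportDim_ne_bot_of_nontrivial (Localization.AtPrime q'.asIdeal) _ h1.symm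
  obtain ⟨Q₀, hle, hp, hM₀, hmap⟩ := of_mem_support_nq M q hmem
  refine ⟨Q₀, hle, hp, hM₀, ?_⟩
  rw [fdim_eq_add hle hp, hmap, show dm A M Q = Module.supportDim (FibT A Q) (FibT A Q ⊗[P] M) from
    supportDim_transfer (R := FibT A Q) _ (includeLeft_surjective Q) e he, ← hdim]
  congr 1
  exact ringKrullDim_eq_of_ringEquiv ((Ideal.quotEquivOfEq (by rw [← RingHom.comap_ker, Ideal.mk_ker]; rfl)).trans
    (RingHom.quotientKerEquivOfSurjective (f := (Ideal.Quotient.mk q'.asIdeal).comp φ)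
      (Ideal.Quotient.mk_surjective.comp (includeLeft_surjective Q))))

/-- Equidimensionality in terms of the minimal generisations in the support. -/
theorem isEquidim_nq_iff (Q : PrimeSpectrum P) :
    EGA4.IsEquidimModule (Localization.AtPrime Q.asIdeal) (NQ A M Q) ↔
      ∀ Q₀ : PrimeSpectrum P, Q₀.asIdeal ≤ Q.asIdeal → Q₀.asIdeal.under A = Q.asIdeal.under A →
        Q₀ ∈ Module.support P M → (∀ Q₁ : PrimeSpectrum P, Q₁.asIdeal ≤ Q₀.asIdeal →
          Q₁.asIdeal.under A = Q.asIdeal.under A → Q₁ ∈ Module.support P M → Q₁ = Q₀) →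
        FibreDim.fdim (affMap A n) Q₀ = dm A M Q + FibreDim.fdim (affMap A n) Q := by
  let L := Localization.AtPrime Q.asIdeal
  obtain ⟨d, hd⟩ := exists_nat_fdim Q
  have hsupp : ∀ q : PrimeSpectrum L, q ∈ Module.support L (NQ A M Q) ↔ Module.annihilator L (NQ A M Q) ≤ q.asIdeal :=
    fun q => by rw [Module.support_eq_zeroLocus, PrimeSpectrum.mem_zeroLocus, SetLike.coe_subset_coe]
  constructor
  · intro h Q₀ hle hp hM hmin
    obtain ⟨hq, hmem⟩ := mem_support_nq M hle hp hM
    rw [fdim_eq_add hle hp, h _ ⟨⟨hq, (hsupp ⟨_, hq⟩).mp hmem⟩, ?_⟩]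
    intro r ⟨hr, hann⟩ hle'
    haveI := hr
    obtain ⟨Q₁, hle₁, hp₁, hM₁, hmap⟩ := of_mem_support_nq M ⟨r, hr⟩ ((hsupp ⟨r, hr⟩).mpr hann)
    have hle₁₀ : Q₁.asIdeal ≤ Q₀.asIdeal := by
      obtain ⟨hq₁, hq₁', -⟩ := exists_fibre_prime hle₁ hp₁
      obtain ⟨hq₀, hq₀', -⟩ := exists_fibre_prime hle hp
      rw [← hq₁', ← hq₀']
      exact Ideal.comap_mono (hmap.le.trans hle')
    rw [← hmin Q₁ hle₁₀ hp₁ hM₁, hmap]
  · intro h q hq
    haveI := hq.1.1
    obtain ⟨Q₀, hle, hp, hM, hmap⟩ := of_mem_support_nq M ⟨q, hq.1.1⟩ ((hsupp ⟨q, hq.1.1⟩).mpr hq.1.2)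
    have := h Q₀ hle hp hM fun Q₁ hle₁ hp₁ hM₁ => by
      obtain ⟨hq₁, hmem⟩ := mem_support_nq M (hle₁.trans hle) hp₁ hM₁
      have h2 := le_antisymm (hq.2 ⟨hq₁, (hsupp ⟨_, hq₁⟩).mp hmem⟩ ((Ideal.map_mono hle₁).trans hmap.le))
        ((Ideal.map_mono hle₁).trans hmap.le)
      obtain ⟨-, h₁, -⟩ := exists_fibre_prime (hle₁.trans hle) hp₁
      obtain ⟨-, h₀, -⟩ := exists_fibre_prime hle hp
      refine PrimeSpectrum.ext ?_
      rw [← h₁, ← h₀]
      exact congrArg (Ideal.comap _) (h2.symm.trans hmap.symm)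
    rw [fdim_eq_add hle hp, hmap, hd] at this
    exact ENat.WithBot.add_natCast_cancel.mp this

end Groth.FlatDescent.FibreDepth
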