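import Groth.Agent.FlatDescent.FibreDepth.Semilinear
import Groth.Agent.FlatDescent.FibreDepth.Dim
import Groth.Agent.FlatDescent.Sheaf
import Groth.Agent.FlatDescent.Global
import Groth.Agent.QCohLib.FiniteType
import Groth.Agent.GeomUnib.StalkLength
import Groth.Prelude.Def_CInt
import Groth.Prelude.Def_CohB1

/-!
# Affine charts for the invariants of modules on fibres
-/

universe u

open CategoryTheory CategoryTheory.Limits AlgebraicGeometry TopologicalSpace LocCoh
open Groth.Agent

namespace Groth.FlatDescent.FibreDepth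

variable {X Y : Scheme.{u}}

/-- The stalk of the restriction of a module to a fibre. -/
noncomputable abbrev fibN (f : X ⟶ Y) (F : X.Modules) {y : Y} (v : f.fiber y) :=
  ((Scheme.Modules.pullback (f.fiberι y)).obj F).presheaf.stalk v

/-- Depth of the restriction to the fibre. -/
noncomputable def dpt (f : X ⟶ Y) (F : X.Modules) {y : Y} (v : f.fiber y) : ℕ∞ :=
  depth ((f.fiber y).presheaf.stalk v) (fibN f F v)

/-- Dimension of the restriction to the fibre. -/
noncomputable def sdm (f : X ⟶ Y) (F : X.Modules) {y : Y} (v : f.fiber y) : WithBot ℕ∞ :=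
  Module.supportDim ((f.fiber y).presheaf.stalk v) (fibN f F v)

/-- An affine chart computing the invariants of `F` on the fibres. -/
structure Chart (f : X ⟶ Y) (F : X.Modules) where
  W : X.Opens
  A : Type u
  [instA : CommRing A]
  n : ℕ
  M : Type u
  [instM : AddCommGroup M]
  [instPM : Module (MvPolynomial (Fin n) A) M]
  [instAM : Module A M]
  [tower : IsScalarTower A (MvPolynomial (Fin n) A) M]
  [fp : Module.FinitePresentation (MvPolynomial (Fin n) A) M]
  flat : (∀ x ∈ W, FlatMod.IsFlatOverAt f F x) → Module.Flat A M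
  ι : W → PrimeSpectrum (MvPolynomial (Fin n) A)
  emb : Topology.IsClosedEmbedding ι
  f_eq : ∀ z w : W, f z.1 = f w.1 ↔ (ι z).asIdeal.under A = (ι w).asIdeal.under A
  supp : Module.support (MvPolynomial (Fin n) A) M ⊆ Set.range ι
  mem_supp : ∀ w : W, ι w ∈ Module.support (MvPolynomial (Fin n) A) M ↔ Nontrivial (F.presheaf.stalk w.1)
  fdim_eq : ∀ w : W, FibreDim.fdim f w.1 = FibreDim.fdim (affMap A n) (ι w)
  semilinear : ∀ (y : Y) (v : f.fiber y) (h : f.fiberι y v ∈ W),
    ∃ ψ : Localization.AtPrime (ι ⟨_, h⟩).asIdeal →+* (f.fiber y).presheaf.stalk v, Function.Surjective ψ ∧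
      ∃ E : NQ A M (ι ⟨_, h⟩) ≃+ fibN f F v, ∀ a z, E (a • z) = ψ a • E z
  base : PrimeSpectrum A → Y
  isOpenMap_base : IsOpenMap base
  f_base : ∀ w : W, f w.1 = base (PrimeSpectrum.comap (algebraMap A (MvPolynomial (Fin n) A)) (ι w))

attribute [instance] Chart.instA Chart.instM Chart.instPM Chart.instAM Chart.tower Chart.fp

/-- Charts exist near every point. -/
theorem exists_chart (f : X ⟶ Y) [LocallyOfFinitePresentation f] (F : X.Modules) (hF : CohB1.IsFP F) (x : X) :
    ∃ C : Chart f F, x ∈ C.W := by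
  haveI : F.IsQuasicoherent := inferInstance
  obtain ⟨_, ⟨V, hV, rfl⟩, hxV, -⟩ :=
    Y.isBasis_affineOpens.exists_subset_of_mem_open (Set.mem_univ (f x)) isOpen_univ
  obtain ⟨_, ⟨W, hW, rfl⟩, hxW, e⟩ := X.isBasis_affineOpens.exists_subset_of_mem_open hxV (f ⁻¹ᵁ V).2
  let A := Γ(Y, V)
  let B := Γ(X, W)
  letI : Algebra A B := (f.appLE V W e).hom.toAlgebra
  haveI : Algebra.FinitePresentation A B :=
    HasRingHomProperty.appLE @LocallyOfFinitePresentation f inferInstance ⟨V, hV⟩ ⟨W, hW⟩ e
  obtain ⟨n, φ, hφ, hker⟩ := Algebra.FinitePresentation.out (R := A) (A := B)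
  let P := MvPolynomial (Fin n) A
  letI : Algebra P B := φ.toRingHom.toAlgebra
  haveI : IsScalarTower A P B := IsScalarTower.of_algebraMap_eq fun a => (φ.commutes a).symm
  haveI : Module.FinitePresentation P B := Module.finitePresentation_of_surjective (Algebra.linearMap P B) hφ hker
  let M := Γ(F, W)
  letI : Module A M := appLEModule f F V W e
  letI : Module P M := Module.compHom M φ.toRingHom
  haveI : IsScalarTower A B M := IsScalarTower.of_algebraMap_smul fun _ _ => rfl
  haveI : IsScalarTower P B M := IsScalarTower.of_algebraMap_smul fun _ _ => rfl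
  haveI : IsScalarTower A P M := IsScalarTower.of_algebraMap_smul fun a m => by
    show φ (algebraMap A P a) • m = a • m
    rw [φ.commutes]
    exact algebraMap_smul B a m
  haveI : Module.FinitePresentation B M := QCohLib.finitePresentation_sections (M := F) hF hW
  haveI : Module.FinitePresentation P M := Module.FinitePresentation.trans P M B
  let ι : W → PrimeSpectrum P := fun w => PrimeSpectrum.comap φ.toRingHom (hW.primeIdealOf w)
  have hι : Topology.IsClosedEmbedding ι :=
    (PrimeSpectrum.isClosedEmbedding_comap_of_surjective _ φ.toRingHom hφ).comp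
      hW.isoSpec.hom.homeomorph.isClosedEmbedding
  have hmem : ∀ (w : W) (p : P), p ∈ (ι w).asIdeal ↔ φ p ∈ (hW.primeIdealOf w).asIdeal := fun _ _ => Iff.rfl
  have hunder : ∀ w : W, (ι w).asIdeal.under A = (hV.primeIdealOf ⟨f w.1, e w.2⟩).asIdeal := by
    intro w
    have h1 : hV.fromSpec (Spec.map (f.appLE V W e) (hW.primeIdealOf w)) = f w.1 := by
      rw [← Scheme.Hom.comp_apply, IsAffineOpen.SpecMap_appLE_fromSpec f hV hW e, Scheme.Hom.comp_apply,
        hW.fromSpec_primeIdealOf]
    have h2 := hV.fromSpec.isOpenEmbedding.injective (h1.trans (hV.fromSpec_primeIdealOf ⟨f w.1, e w.2⟩).symm)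
    refine Eq.trans ?_ (congrArg PrimeSpectrum.asIdeal h2)
    ext a
    show φ (algebraMap A P a) ∈ (hW.primeIdealOf w).asIdeal ↔ algebraMap A B a ∈ (hW.primeIdealOf w).asIdeal
    rw [φ.commutes]
  have hfeq : ∀ z w : W, f z.1 = f w.1 ↔ (ι z).asIdeal.under A = (ι w).asIdeal.under A := by
    intro z w
    rw [hunder, hunder]
    constructor
    · intro h
      congr 2
      exact Subtype.ext h
    · intro h
      have := congrArg hV.fromSpec (PrimeSpectrum.ext h)
      rwa [hV.fromSpec_primeIdealOf, hV.fromSpec_primeIdealOf] at this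
  refine ⟨{
    W := W, A := A, n := n, M := M, flat := ?_, ι := ι, emb := hι, f_eq := hfeq, supp := ?_, mem_supp := ?_,
    fdim_eq := ?_, semilinear := ?_, base := hV.fromSpec, isOpenMap_base := hV.fromSpec.isOpenEmbedding.isOpenMap,
    f_base := fun w => (hV.fromSpec_primeIdealOf ⟨f w.1, e w.2⟩).symm.trans
      (congrArg hV.fromSpec (PrimeSpectrum.ext (hunder w).symm)) }, hxW⟩
  · intro h
    refine flat_of_flatAt (P := B) fun Q _ => ?_
    obtain ⟨⟨w, hw⟩, hwQ⟩ := hW.isoSpec.hom.homeomorph.surjective (⟨Q, inferInstance⟩ : PrimeSpectrum B)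
    have h1 := (isFlatOverAt_iff f F hV hW e hw).mp (h w hw)
    have h2 : (hW.primeIdealOf ⟨w, hw⟩).asIdeal = Q := congrArg PrimeSpectrum.asIdeal hwQ
    simp only [h2] at h1
    exact h1
  · intro Q hQ
    have hann : RingHom.ker φ.toRingHom ≤ Q.asIdeal := by
      intro r hr
      refine Module.annihilator_le_of_mem_support hQ (Module.mem_annihilator.mpr fun m => ?_)
      show φ r • m = 0
      rw [show φ r = 0 from hr, zero_smul]
    obtain ⟨Pw, hPw⟩ : Q ∈ Set.range (PrimeSpectrum.comap φ.toRingHom) := by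
      rw [range_comap_of_surjective _ _ hφ]
      exact hann
    obtain ⟨w, rfl⟩ := hW.isoSpec.hom.homeomorph.surjective Pw
    exact ⟨w, hPw⟩
  · intro w
    letI := QCohLib.germModule F w.1 w.2
    haveI := QCohLib.isLocalizedModule_germ (M := F) hW w.1 w.2
    rw [Module.mem_support_iff']
    constructor
    · rintro ⟨m, hm⟩
      by_contra hsub
      rw [not_nontrivial_iff_subsingleton] at hsub
      have h0 : QCohLib.germLinearMap F w.1 w.2 m = QCohLib.germLinearMap F w.1 w.2 0 := Subsingleton.elim _ _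
      obtain ⟨s, hs⟩ := IsLocalizedModule.exists_of_eq (S := (hW.primeIdealOf w).asIdeal.primeCompl) h0
      obtain ⟨p, hp⟩ := hφ (s : B)
      refine hm p (fun h => s.2 (hp ▸ (hmem w p).mp h)) ?_
      show φ p • m = 0
      rw [hp]
      exact hs.trans (smul_zero _)
    · intro hnt
      by_contra hc
      push Not at hc
      obtain ⟨z, hz⟩ := exists_ne (0 : F.presheaf.stalk w.1)
      obtain ⟨⟨m, s⟩, hms⟩ := IsLocalizedModule.surj (hW.primeIdealOf w).asIdeal.primeCompl
        (QCohLib.germLinearMap F w.1 w.2) z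
      obtain ⟨p, hp, hpm⟩ := hc m
      have hu : IsUnit ((algebraMap B (Module.End B (F.presheaf.stalk w.1))) (φ p)) :=
        IsLocalizedModule.map_units (QCohLib.germLinearMap F w.1 w.2)
          (⟨φ p, fun h => hp ((hmem w p).mpr h)⟩ : (hW.primeIdealOf w).asIdeal.primeCompl)
      have h1 : φ p • QCohLib.germLinearMap F w.1 w.2 m = 0 := by
        rw [← map_smul]
        exact (congrArg _ (show φ p • m = 0 from hpm)).trans (map_zero _)
      have h2 : QCohLib.germLinearMap F w.1 w.2 m = 0 := by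
        rw [Module.End.isUnit_iff] at hu
        exact hu.1 (h1.trans (map_zero _).symm)
      have h3 := IsLocalizedModule.map_units (QCohLib.germLinearMap F w.1 w.2) s
      rw [Module.End.isUnit_iff] at h3
      exact hz (h3.1 ((hms.trans h2).trans (map_zero _).symm))
  · intro w
    obtain ⟨d, hd, hdO⟩ := FibreDim.exists_fdim f w.1
    rw [hd, ← hdO W W.2 w.2]
    have hset : closure ({w.1} : Set X) ∩ f ⁻¹' {f w.1} ∩ (W : Set X) =
        Subtype.val '' {z : W | w ⤳ z ∧ f z.1 = f w.1} := by
      ext z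
      constructor
      · rintro ⟨⟨hz, hfz⟩, hzW⟩
        exact ⟨⟨z, hzW⟩, ⟨(Topology.IsEmbedding.subtypeVal (p := (· ∈ W))).toIsInducing.specializes_iff.mp (specializes_iff_mem_closure.mpr hz), hfz⟩, rfl⟩
      · rintro ⟨z, ⟨hz, hfz⟩, rfl⟩
        exact ⟨⟨specializes_iff_mem_closure.mp (hz.map continuous_subtype_val), hfz⟩, z.2⟩
    show topologicalKrullDim ↥(closure ({w.1} : Set X) ∩ f.base ⁻¹' {f.base w.1} ∩ (W : Set X)) = _
    rw [hset, FibreDim.dim_image Topology.IsEmbedding.subtypeVal, FibreDim.fdim,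
      ← FibreDim.dim_image hι.isEmbedding]
    refine congrArg (fun s : Set (PrimeSpectrum P) => topologicalKrullDim ↥s) ?_
    ext Q
    constructor
    · rintro ⟨z, ⟨hz, hfz⟩, rfl⟩
      refine ⟨specializes_iff_mem_closure.mp (hz.map hι.continuous), ?_⟩
      exact PrimeSpectrum.ext ((hfeq z w).mp hfz)
    · rintro ⟨hQ, hQA⟩
      have hQr : Q ∈ Set.range ι :=
        hι.isClosed_range.closure_subset_iff.mpr (Set.singleton_subset_iff.mpr ⟨w, rfl⟩) hQ
      obtain ⟨z, rfl⟩ := hQr
      exact ⟨z, ⟨hι.isEmbedding.toIsInducing.specializes_iff.mp (specializes_iff_mem_closure.mpr hQ),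
        (hfeq z w).mpr (congrArg PrimeSpectrum.asIdeal hQA)⟩, rfl⟩
  · intro y v h
    let x' := f.fiberι y v
    obtain ⟨e', he'⟩ := GeomUnib.fibre_stalk_addEquiv F f y v
    letI := X.presheaf.algebra_section_stalk (U := W) ⟨x', h⟩
    haveI := hW.isLocalization_stalk ⟨x', h⟩
    letI := Y.presheaf.algebra_section_stalk (U := V) ⟨f x', e h⟩
    haveI := hV.isLocalization_stalk ⟨f x', e h⟩
    letI := QCohLib.germModule F x' h
    haveI := QCohLib.isLocalizedModule_germ (M := F) hW x' h
    let ρ : P →+* X.presheaf.stalk x' := (X.presheaf.germ W x' h).hom.comp φ.toRingHom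
    refine exists_semilinear (O := X.presheaf.stalk x') (R := (f.fiber y).presheaf.stalk v) (ι ⟨x', h⟩) ρ
      (fun s hs => IsLocalization.map_units (X.presheaf.stalk x')
        (⟨φ s, fun hh => hs ((hmem _ s).mpr hh)⟩ : (hW.primeIdealOf ⟨x', h⟩).asIdeal.primeCompl))
      (fun o => ?_) (F.presheaf.germ W x' h).hom (fun p m => QCohLib.germ_smul W x' h (φ p) m)
      (fun z => ?_) (fun m hm => ?_) (maxExt f x') ?_ _ ((f.fiberι y).stalkMap_surjective v) e' he'
    · obtain ⟨⟨b, s⟩, hbs⟩ := IsLocalization.surj (hW.primeIdealOf ⟨x', h⟩).asIdeal.primeCompl o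
      obtain ⟨p, hp⟩ := hφ b
      obtain ⟨t, ht⟩ := hφ (s : B)
      refine ⟨p, t, fun hh => s.2 (ht ▸ (hmem _ t).mp hh), ?_⟩
      show algebraMap B _ (φ t) * o = algebraMap B _ (φ p)
      rw [hp, ht, mul_comm]
      exact hbs
    · obtain ⟨⟨m, s⟩, hms⟩ := IsLocalizedModule.surj (hW.primeIdealOf ⟨x', h⟩).asIdeal.primeCompl
        (QCohLib.germLinearMap F x' h) z
      obtain ⟨t, ht⟩ := hφ (s : B)
      refine ⟨m, t, fun hh => s.2 (ht ▸ (hmem _ t).mp hh), ?_⟩
      show X.presheaf.germ W x' h (φ t) • z = _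
      rw [ht]
      exact hms
    · have h0 : QCohLib.germLinearMap F x' h m = QCohLib.germLinearMap F x' h 0 := hm.trans (map_zero _).symm
      obtain ⟨c, hc⟩ := IsLocalizedModule.exists_of_eq (S := (hW.primeIdealOf ⟨x', h⟩).asIdeal.primeCompl) h0
      obtain ⟨t, ht⟩ := hφ (c : B)
      refine ⟨t, fun hh => c.2 (ht ▸ (hmem _ t).mp hh), ?_⟩
      show φ t • m = 0
      rw [ht]
      exact hc.trans (smul_zero _)
    · rw [maxExt, ← IsLocalization.AtPrime.map_eq_maximalIdeal (hV.primeIdealOf ⟨f x', e h⟩).asIdeal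
        (Y.presheaf.stalk (f x')), hunder, Ideal.map_map, Ideal.map_map]
      congr 1
      refine RingHom.ext fun a => ?_
      show f.stalkMap x' (Y.presheaf.germ V (f x') (e h) a) = X.presheaf.germ W x' h (φ (algebraMap A P a))
      rw [φ.commutes, Scheme.Hom.germ_stalkMap_apply]
      exact (TopCat.Presheaf.germ_res_apply X.presheaf (homOfLE e) x' h (f.app V a)).symm

/-- The dimension of the closure of a point of a fibre. -/
theorem dim_closure_fibre (f : X ⟶ Y) {y : Y} (v : f.fiber y) :
    topologicalKrullDim ↥(closure ({v} : Set ↥(f.fiber y))) = FibreDim.fdim f (f.fiberι y v) := by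
  have hi := (f.fiberι y).isEmbedding
  have hr : Set.range (f.fiberι y) = f ⁻¹' {y} := f.range_fiberι y
  have hy : f (f.fiberι y v) = y := hr.le ⟨v, rfl⟩
  rw [hi.closure_eq_preimage_closure_image, Set.image_singleton, ← FibreDim.dim_image hi,
    Set.image_preimage_eq_inter_range, hr]
  show _ = topologicalKrullDim ↥(closure ({f.fiberι y v} : Set X) ∩ f ⁻¹' {f (f.fiberι y v)})
  rw [hy]

end Groth.FlatDescent.FibreDepth
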