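import Groth.Agent.FlatDescent.FibreDepth.Ring
import Groth.Agent.FlatDescent.CMFibre.Main
import Groth.Agent.S2699

/-!
# Constructibility of loci defined by the local rings of the fibres
-/

universe u

open CategoryTheory CategoryTheory.Limits AlgebraicGeometry Topology
open scoped TensorProduct

namespace Groth.FlatDescent.FibreDepth

open Groth.FlatDescent.CM Groth.FlatDescent.CMFibre

variable {X Y X' Y' : Scheme.{u}}

/-- The points at which the local ring of the fibre satisfies `P`. -/
def fibLocus (P : ∀ (R : Type u) [CommRing R] [IsLocalRing R], Prop) (f : X ⟶ Y) : Set X :=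
  {x | P ((f.fiber (f x)).presheaf.stalk (f.asFiber x))}

/-- A property of local rings of algebraic schemes over fields with constructible loci. -/
structure Good (P : ∀ (R : Type u) [CommRing R] [IsLocalRing R], Prop) : Prop where
  iso : ∀ (R S : Type u) [CommRing R] [IsLocalRing R] [CommRing S] [IsLocalRing S], (R ≃+* S) → (P R ↔ P S)
  field : ∀ (k S k' : Type u) [Field k] [CommRing S] [Algebra k S] [Algebra.FiniteType k S] [IsNoetherianRing S]
    [Field k'] [Algebra k k'] [IsNoetherianRing (S ⊗[k] k')] (q' : Ideal (S ⊗[k] k')) [q'.IsPrime],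
    P (Localization.AtPrime (q'.comap (algebraMap S (S ⊗[k] k')))) ↔ P (Localization.AtPrime q')
  isOpen : ∀ {X Y : Scheme.{u}} (f : X ⟶ Y) [Flat f] [LocallyOfFinitePresentation f], IsOpen (fibLocus P f)

variable {P : ∀ (R : Type u) [CommRing R] [IsLocalRing R], Prop}

theorem mem_fibLocus_fiberι (f : X ⟶ Y) {y : Y} (p : f.fiber y) :
    f.fiberι y p ∈ fibLocus P f ↔ P ((f.fiber y).presheaf.stalk p) := by
  refine fiber_cases f p (motive := fun y p => f.fiberι y p ∈ fibLocus P f ↔ P ((f.fiber y).presheaf.stalk p)) ?_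
  rw [f.fiberι_asFiber]
  rfl

theorem fibLocus_openImmersion_comp (hG : Good P) {Z : Scheme.{u}} (j : X ⟶ Y) [IsOpenImmersion j] (f : Y ⟶ Z)
    (x : X) : x ∈ fibLocus P (j ≫ f) ↔ j x ∈ fibLocus P f := by
  obtain ⟨e⟩ := exists_fibreStalk_equiv_comp j f x
  exact hG.iso _ _ e

theorem fibLocus_comp_openImmersion (hG : Good P) {Z : Scheme.{u}} (f : X ⟶ Y) (j : Y ⟶ Z) [IsOpenImmersion j] :
    fibLocus P (f ≫ j) = fibLocus P f := by
  ext x
  obtain ⟨a⟩ := exists_fibreStalkEquiv (f ≫ j) x
  obtain ⟨b⟩ := exists_fibreStalkEquiv f x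
  let e : Z.presheaf.stalk (j (f x)) ≃+* Y.presheaf.stalk (f x) := (asIso (j.stalkMap (f x))).commRingCatIsoToRingEquiv
  have hm : maxExt (f ≫ j) x = maxExt f x := by
    rw [maxExt_comp, maxExt, maxExt]
    congr 1
    exact IsLocalRing.map_maximalIdeal_of_surjective _ e.surjective
  exact hG.iso _ _ ((a.symm.trans (Ideal.quotEquivOfEq hm)).trans b)

theorem exists_stalk_equiv (R : CommRingCat.{u}) (q : PrimeSpectrum R) :
    Nonempty ((Spec R).presheaf.stalk q ≃+* Localization.AtPrime q.asIdeal) := by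
  letI : Algebra R ((Spec R).presheaf.stalk q) := (StructureSheaf.toStalk R q).hom.toAlgebra
  haveI : IsLocalization q.asIdeal.primeCompl ((Spec R).presheaf.stalk q) :=
    StructureSheaf.IsLocalization.to_stalk R q
  exact ⟨(IsLocalization.algEquiv q.asIdeal.primeCompl ((Spec R).presheaf.stalk q)
    (Localization.AtPrime q.asIdeal)).toRingEquiv⟩

theorem field_affine (hG : Good P) (k S k' : Type u) [Field k] [CommRing S] [Algebra k S] [Algebra.FiniteType k S]
    [Field k'] [Algebra k k'] (q : PrimeSpectrum (S ⊗[k] k')) :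
    P ((Spec (CommRingCat.of (S ⊗[k] k'))).presheaf.stalk q) ↔
      P ((Spec (CommRingCat.of S)).presheaf.stalk
        (Spec.map (CommRingCat.ofHom (algebraMap S (S ⊗[k] k'))) q)) := by
  haveI : IsNoetherianRing S := Algebra.FiniteType.isNoetherianRing k S
  haveI : IsNoetherianRing (S ⊗[k] k') := by
    haveI : IsNoetherianRing (k' ⊗[k] S) := Algebra.FiniteType.isNoetherianRing k' (k' ⊗[k] S)
    exact isNoetherianRing_of_ringEquiv _ (Algebra.TensorProduct.comm k k' S).toRingEquiv
  obtain ⟨a⟩ := exists_stalk_equiv (CommRingCat.of (S ⊗[k] k')) q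
  obtain ⟨b⟩ := exists_stalk_equiv (CommRingCat.of S) (PrimeSpectrum.comap (algebraMap S (S ⊗[k] k')) q)
  exact ((hG.iso _ _ a).trans (hG.field k S k' q.asIdeal).symm).trans (hG.iso _ _ b).symm

theorem field_scheme (hG : Good P) {K K' : CommRingCat.{u}} (hK : IsField K) (hK' : IsField K') (f : X ⟶ Spec K)
    [LocallyOfFiniteType f] {f' : X' ⟶ Spec K'} {g' : X' ⟶ X} {g : Spec K' ⟶ Spec K}
    (hc : IsPullback g' f' f g) (x' : X') :
    P (X'.presheaf.stalk x') ↔ P (X.presheaf.stalk (g' x')) := by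
  obtain ⟨W, hW, hxW, -⟩ := exists_affine_le (⊤ : X.Opens) (z := g' x') trivial
  obtain ⟨φ, hφ⟩ := Spec.map_surjective (hW.fromSpec ≫ f)
  obtain ⟨ψ, hψ⟩ := Spec.map_surjective g
  letI := hK.toField
  letI := hK'.toField
  letI : Algebra K Γ(X, W) := φ.hom.toAlgebra
  letI : Algebra K K' := ψ.hom.toAlgebra
  haveI : Algebra.FiniteType K Γ(X, W) := by
    have : LocallyOfFiniteType (Spec.map φ) := hφ ▸ inferInstance
    exact (HasRingHomProperty.Spec_iff (P := @LocallyOfFiniteType)).mp this
  let T := Γ(X, W) ⊗[K] K'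
  let π : Spec (CommRingCat.of T) ⟶ Spec Γ(X, W) := Spec.map (CommRingCat.ofHom (algebraMap Γ(X, W) T))
  let ρ : Spec (CommRingCat.of T) ⟶ Spec K' :=
    Spec.map (CommRingCat.ofHom (Algebra.TensorProduct.includeRight : (K' : Type u) →ₐ[K] T).toRingHom)
  have hsq : IsPullback π ρ (hW.fromSpec ≫ f) g := by
    rw [← hφ, ← hψ]
    exact isPullback_SpecMap_of_isPushout _ _ _ _ (CommRingCat.isPushout_tensorProduct K Γ(X, W) K')
  let L : Spec (CommRingCat.of T) ⟶ X' := hc.lift (π ≫ hW.fromSpec) ρ (by rw [Category.assoc]; exact hsq.w)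
  have hL : IsPullback π L hW.fromSpec g' := by
    refine IsPullback.of_bot ?_ (hc.lift_fst _ _ _).symm hc
    rw [hc.lift_snd]
    exact hsq
  haveI : IsOpenImmersion L := MorphismProperty.of_isPullback hL (inferInstance : IsOpenImmersion hW.fromSpec)
  have hrange : g' x' ∈ Set.range hW.fromSpec := hW.range_fromSpec.ge hxW
  obtain ⟨q, rfl⟩ : x' ∈ Set.range L := by
    obtain ⟨w, hw⟩ := hrange
    rw [show L = hL.isoPullback.hom ≫ pullback.snd _ _ from hL.isoPullback_hom_snd.symm]
    obtain ⟨z, -, hz⟩ := Scheme.Pullback.exists_preimage_pullback (f := hW.fromSpec) (g := g') w x' hw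
    obtain ⟨q, rfl⟩ := hL.isoPullback.hom.homeomorph.surjective z
    exact ⟨q, hz⟩
  have hcomm : g' (L q) = hW.fromSpec (π q) :=
    congrArg (fun m : Spec (CommRingCat.of T) ⟶ X => m q) hL.w.symm
  have key : P (X.presheaf.stalk (g' (L q))) ↔ P (X.presheaf.stalk (hW.fromSpec (π q))) := by rw [hcomm]
  rw [key]
  exact ((hG.iso _ _ (asIso (L.stalkMap q)).commRingCatIsoToRingEquiv).trans
    (field_affine hG K Γ(X, W) K' q)).trans
      (hG.iso _ _ (asIso (hW.fromSpec.stalkMap (π q))).commRingCatIsoToRingEquiv).symm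

theorem fibLocus_baseChange (hG : Good P) (f : X ⟶ Y) [LocallyOfFiniteType f] {f' : X' ⟶ Y'} {g' : X' ⟶ X}
    {g : Y' ⟶ Y} (hc : IsPullback g' f' f g) : fibLocus P f' = g' ⁻¹' fibLocus P f := by
  ext x'
  let y' := f' x'
  let G := pullback.map f' (Y'.fromSpecResidueField y') f (Y.fromSpecResidueField (g y')) g'
    (Spec.map (g.residueFieldMap y')) g hc.w.symm (by simp)
  have hsq : IsPullback G (f'.fiberToSpecResidueField y') (f.fiberToSpecResidueField (g y'))
      (Spec.map (g.residueFieldMap y')) := isPullback_fiberToSpecResidueField_of_isPullback hc y'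
  have hfac : G ≫ f.fiberι (g y') = f'.fiberι y' ≫ g' := pullback.lift_fst _ _ _
  have hG' : f.fiberι (g y') (G (f'.asFiber x')) = g' x' :=
    (congrArg (fun φ : f'.fiber y' ⟶ X => φ (f'.asFiber x')) hfac).trans
      (congrArg g' (f'.fiberι_asFiber x'))
  haveI : LocallyOfFiniteType (f.fiberToSpecResidueField (g y')) :=
    MorphismProperty.pullback_snd _ _ ‹LocallyOfFiniteType f›
  rw [Set.mem_preimage, ← hG', mem_fibLocus_fiberι]
  exact @field_scheme _ _ _ hG _ _ (Field.toIsField _) (Field.toIsField _) _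
    ‹LocallyOfFiniteType (f.fiberToSpecResidueField (g y'))› _ _ _ hsq (f'.asFiber x')

/-- The locus on a stratum with flat algebra. -/
theorem isConstructible_piece (hG : Good P) {A B : Type u} [CommRing A] [IsNoetherianRing A] [CommRing B] [Algebra A B]
    [Algebra.FiniteType A B] (I : Ideal A) (a : A)
    (hflat : Module.Flat (Localization.Away (Ideal.Quotient.mk I a))
      (Localization.Away (Ideal.Quotient.mk I a) ⊗[A] B)) :
    IsConstructible (X := PrimeSpectrum B)
      (fibLocus P (algSpec A B) ∩ {Q | I ≤ Q.asIdeal.under A ∧ algebraMap A B a ∉ Q.asIdeal}) := by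
  let A' := Localization.Away (Ideal.Quotient.mk I a)
  haveI : Algebra.FiniteType A A' :=
    Algebra.FiniteType.trans (R := A) (S := A ⧸ I) inferInstance inferInstance
  haveI : IsNoetherianRing A' := Algebra.FiniteType.isNoetherianRing A A'
  haveI : IsNoetherianRing B := Algebra.FiniteType.isNoetherianRing A B
  haveI : IsNoetherianRing (A' ⊗[A] B) := Algebra.FiniteType.isNoetherianRing A' (A' ⊗[A] B)
  have hc := isPullback_algSpec A B A'
  let f' := algSpec A' (A' ⊗[A] B)
  let ι' : B →+* A' ⊗[A] B := (Algebra.TensorProduct.includeRight : B →ₐ[A] A' ⊗[A] B).toRingHom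
  let g' := Spec.map (CommRingCat.ofHom ι')
  haveI : Algebra.FinitePresentation A B := Algebra.FinitePresentation.of_finiteType.mp ‹_›
  haveI : LocallyOfFinitePresentation f' :=
    (HasRingHomProperty.Spec_iff (P := @LocallyOfFinitePresentation)).mpr
      (RingHom.finitePresentation_algebraMap.mpr inferInstance)
  haveI : Flat f' := Flat.SpecMap_iff.mpr (RingHom.flat_algebraMap_iff.mpr hflat)
  haveI : LocallyOfFiniteType (algSpec A B) :=
    (HasRingHomProperty.Spec_iff (P := @LocallyOfFiniteType)).mpr (RingHom.finiteType_algebraMap.mpr ‹_›)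
  have hopen : IsOpen (fibLocus P f') := hG.isOpen f'
  have hfp : ι'.FinitePresentation := by
    refine RingHom.FinitePresentation.of_finiteType.mp ?_
    letI := ι'.toAlgebra
    haveI : IsScalarTower A B (A' ⊗[A] B) :=
      IsScalarTower.of_algebraMap_eq fun r => (Algebra.TensorProduct.includeRight.commutes r).symm
    haveI : Algebra.FiniteType A (A' ⊗[A] B) := Algebra.FiniteType.trans (S := A') ‹_› inferInstance
    exact Algebra.FiniteType.of_restrictScalars_finiteType A B (A' ⊗[A] B)
  have key := PrimeSpectrum.isConstructible_comap_image hfp (isConstructible_of_isOpen hopen)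
  convert key using 1
  have hrange : ∀ p : PrimeSpectrum A, p ∈ Set.range (PrimeSpectrum.comap (algebraMap A A')) ↔
      I ≤ p.asIdeal ∧ a ∉ p.asIdeal := by
    intro p
    rw [IsScalarTower.algebraMap_eq A (A ⧸ I) A', PrimeSpectrum.comap_comp, Set.range_comp,
      PrimeSpectrum.localization_away_comap_range A' (Ideal.Quotient.mk I a)]
    constructor
    · rintro ⟨q, hq, rfl⟩
      exact ⟨fun r hr => by
        show Ideal.Quotient.mk I r ∈ q.asIdeal
        rw [Ideal.Quotient.eq_zero_iff_mem.mpr hr]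
        exact zero_mem _, hq⟩
    · intro ⟨hI, ha⟩
      have hp : p ∈ Set.range (PrimeSpectrum.comap (Ideal.Quotient.mk I)) := by
        rw [range_comap_of_surjective _ _ Ideal.Quotient.mk_surjective, Ideal.mk_ker]
        exact hI
      obtain ⟨q, rfl⟩ := hp
      exact ⟨q, ha, rfl⟩
  have himage : g' '' fibLocus P f' = fibLocus P (algSpec A B) ∩ algSpec A B ⁻¹' Set.range (algSpec A A') := by
    rw [fibLocus_baseChange hG _ hc, Set.image_preimage_eq_inter_range]
    congr 1
    rw [← Scheme.Pullback.range_fst, show g' = hc.isoPullback.hom ≫ pullback.fst _ _ from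
      hc.isoPullback_hom_fst.symm]
    exact Function.Surjective.range_comp hc.isoPullback.hom.homeomorph.surjective
      (pullback.fst (algSpec A B) (algSpec A A'))
  refine Eq.trans ?_ himage.symm
  ext Q
  exact and_congr_right' (hrange (PrimeSpectrum.comap (algebraMap A B) Q)).symm

/-- Constructibility over a Noetherian base. -/
theorem isConstructible_fibLocus_noetherian (hG : Good P) (A B : Type u) [CommRing A] [IsNoetherianRing A]
    [CommRing B] [Algebra A B] [Algebra.FiniteType A B] :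
    IsConstructible (X := PrimeSpectrum B) (fibLocus P (algSpec A B)) := by
  haveI : Algebra.FinitePresentation A B := Algebra.FinitePresentation.of_finiteType.mp ‹_›
  obtain ⟨J₀, -, hJ₀, hchain⟩ := Strat.exists_chain (A := A) (fun _ : Unit => B) (fun _ : Unit => B)
  suffices h : IsConstructible (X := PrimeSpectrum B) (fibLocus P (algSpec A B) ∩ {Q | J₀ ≤ Q.asIdeal.under A}) by
    convert h using 1
    refine (Set.inter_eq_left.mpr fun Q _ r hr => ?_).symm
    exact Ideal.IsPrime.radical (inferInstance : (Q.asIdeal.under A).IsPrime) ▸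
      (Ideal.radical_mono bot_le (hJ₀ hr))
  clear hJ₀
  induction hchain using Relation.ReflTransGen.head_induction_on with
  | refl =>
    convert IsConstructible.empty (X := PrimeSpectrum B) using 1
    refine Set.eq_empty_of_forall_notMem fun Q hQ => ?_
    exact (inferInstance : (Q.asIdeal.under A).IsPrime).ne_top (top_le_iff.mp hQ.2)
  | @head I J hstep _ ih =>
    obtain ⟨hIJ, ⟨s, hs⟩, hflat⟩ := hstep
    have hpiece : IsConstructible (X := PrimeSpectrum B) (⋃ a ∈ (s : Set A),
        (fibLocus P (algSpec A B) ∩ {Q | I ≤ Q.asIdeal.under A ∧ algebraMap A B a ∉ Q.asIdeal})) := by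
      refine IsConstructible.biUnion s.finite_toSet fun a ha => isConstructible_piece hG I a ?_
      refine hflat _ (Ideal.map_eq_bot_iff_le_ker _ |>.mpr fun r hr => ?_) ?_ ()
      · rw [RingHom.mem_ker, IsScalarTower.algebraMap_apply A (A ⧸ I),
          Ideal.Quotient.algebraMap_eq, Ideal.Quotient.eq_zero_iff_mem.mpr hr, map_zero]
      · refine Ideal.eq_top_of_isUnit_mem _
          (Ideal.mem_map_of_mem _ (hs ▸ Submodule.subset_span ha : a ∈ J)) ?_
        rw [IsScalarTower.algebraMap_apply A (A ⧸ I)]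
        exact IsLocalization.Away.algebraMap_isUnit (Ideal.Quotient.mk I a)
    convert ih.union hpiece using 1
    ext Q
    simp only [Set.mem_union, Set.mem_inter_iff, Set.mem_iUnion, Set.mem_setOf_eq, exists_prop]
    constructor
    · intro ⟨h1, h2⟩
      by_cases hJ : J ≤ Q.asIdeal.under A
      · exact Or.inl ⟨h1, hJ⟩
      · rw [← hs, Ideal.span_le, Set.not_subset] at hJ
        obtain ⟨a, ha, ha'⟩ := hJ
        exact Or.inr ⟨a, ha, h1, h2, ha'⟩
    · rintro (⟨h1, h2⟩ | ⟨a, -, h1, h2, -⟩)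
      exacts [⟨h1, hIJ.trans h2⟩, ⟨h1, h2⟩]

theorem isConstructible_fibLocus_affine (hG : Good P) (A B : Type u) [CommRing A] [CommRing B] [Algebra A B]
    [Algebra.FinitePresentation A B] : IsConstructible (X := PrimeSpectrum B) (fibLocus P (algSpec A B)) := by
  let Pr := Algebra.Presentation.ofFinitePresentation A B
  haveI : IsNoetherianRing Pr.Core := Algebra.FiniteType.isNoetherianRing ℤ Pr.Core
  let B₀ := Pr.ModelOfHasCoeffs Pr.Core
  let e : A ⊗[Pr.Core] B₀ ≃ₐ[A] B := Pr.tensorModelOfHasCoeffsEquiv Pr.Core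
  haveI : Algebra.FiniteType Pr.Core B₀ := inferInstance
  haveI : LocallyOfFiniteType (algSpec Pr.Core B₀) :=
    (HasRingHomProperty.Spec_iff (P := @LocallyOfFiniteType)).mpr (RingHom.finiteType_algebraMap.mpr ‹_›)
  let eC : CommRingCat.of (A ⊗[Pr.Core] B₀) ≅ CommRingCat.of B :=
    @RingEquiv.toCommRingCatIso (A ⊗[Pr.Core] B₀) B _ _ e.toRingEquiv
  let E := Spec.map eC.hom
  have hE : IsPullback E (algSpec A B) (algSpec A (A ⊗[Pr.Core] B₀)) (𝟙 _) :=
    IsPullback.of_horiz_isIso ⟨by
      rw [Category.comp_id, ← Spec.map_comp]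
      congr 1
      ext a
      exact e.commutes a⟩
  have hsq := hE.paste_horiz (isPullback_algSpec Pr.Core B₀ A)
  rw [fibLocus_baseChange hG _ hsq]
  exact Scheme.Hom.isConstructible_preimage _ (isConstructible_fibLocus_noetherian hG Pr.Core B₀)

/-- **Local constructibility.** -/
theorem isLocallyConstructible_fibLocus (hG : Good P) {S : Scheme.{u}} (f : X ⟶ S) [LocallyOfFinitePresentation f] :
    IsLocallyConstructible (fibLocus P f) := by
  intro x
  obtain ⟨V, hV, hxV, -⟩ := exists_affine_le (⊤ : S.Opens) (z := f x) trivial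
  obtain ⟨W, hW, hxW, e⟩ := exists_affine_le (f ⁻¹ᵁ V) (z := x) hxV
  letI := (f.appLE V W e).hom.toAlgebra
  haveI : Algebra.FinitePresentation Γ(S, V) Γ(X, W) :=
    HasRingHomProperty.appLE @LocallyOfFinitePresentation f inferInstance ⟨V, hV⟩ ⟨W, hW⟩ e
  refine ⟨W, W.2.mem_nhds hxW, W.2, ?_⟩
  have hpre : hW.fromSpec ⁻¹' fibLocus P f = fibLocus P (algSpec Γ(S, V) Γ(X, W)) := by
    ext p
    rw [Set.mem_preimage, ← fibLocus_openImmersion_comp hG hW.fromSpec f p,
      ← IsAffineOpen.SpecMap_appLE_fromSpec f hV hW e, fibLocus_comp_openImmersion hG]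
    rfl
  have hc := isConstructible_fibLocus_affine hG Γ(S, V) Γ(X, W)
  rw [← hpre] at hc
  let h : (W : Scheme.{u}) ≅ Spec Γ(X, W) := hW.isoSpec
  have := hc.preimage_of_isOpenEmbedding h.hom.isOpenEmbedding
  have key : h.hom ⁻¹' (hW.fromSpec ⁻¹' fibLocus P f) = W.ι ⁻¹' fibLocus P f := by
    rw [← hW.isoSpec_hom_fromSpec]
    rfl
  rw [key] at this
  exact this

theorem good_hasSk (k : ℕ) : Good.{u} (fun R _ _ => LocCoh.HasSk k R R) where
  iso _ _ _ _ _ _ e := hasSk_ringEquiv e k
  field k₀ S k' _ _ _ hS _ _ _ _ q' _ := (Groth.Agent.S2699.result k₀ S k' (Or.inl hS) q' k).2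
  isOpen f _ _ := isOpen_hasSk_ring f k

theorem exists_depth_dim (R : Type u) [CommRing R] [IsLocalRing R] [IsNoetherianRing R] :
    ∃ d D : ℕ, LocCoh.depth R R = d ∧ ringKrullDim R = (D : WithBot ℕ∞) ∧ d ≤ D := by
  obtain ⟨d, hd⟩ := Groth.Agent.DepthLib.exists_nat_depth (R := R) R
  obtain ⟨D, hD⟩ := Groth.Agent.DepthLib.exists_nat_supportDim (R := R) R
  have h := Groth.Agent.DepthLib.depth_le_supportDim (R := R) R
  rw [hd, hD] at h
  rw [Module.supportDim_self_eq_ringKrullDim] at hD
  exact ⟨d, D, hd, hD, by exact_mod_cast h⟩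

theorem good_coprof (n : ℕ) : Good.{u}
    (fun R _ _ => ringKrullDim R ≤ ((LocCoh.depth R R : ℕ∞) : WithBot ℕ∞) + n) where
  iso _ _ _ _ _ _ e := by rw [ringKrullDim_eq_of_ringEquiv e, depth_ringEquiv e]
  field k₀ S k' _ _ _ hS _ _ _ _ q' _ := by
    have h := (Groth.Agent.S2699.result k₀ S k' (Or.inl hS) q' 0).1
    obtain ⟨a, b, ha, hb, -⟩ := exists_depth_dim (Localization.AtPrime (q'.comap (algebraMap S (S ⊗[k₀] k'))))
    obtain ⟨a', b', ha', hb', -⟩ := exists_depth_dim (Localization.AtPrime q')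
    rw [ha, hb, ha', hb', natCast_withBot, natCast_withBot, ← Nat.cast_add, ← Nat.cast_add, Nat.cast_inj] at h
    rw [ha, hb, ha', hb', natCast_withBot, natCast_withBot, ← Nat.cast_add, ← Nat.cast_add, Nat.cast_le, Nat.cast_le]
    omega
  isOpen f _ _ := isOpen_coprof_ring f n

theorem isLocallyConstructible_compl {α : Type*} [TopologicalSpace α] {s : Set α} (h : IsLocallyConstructible s) :
    IsLocallyConstructible sᶜ := fun x => by
  obtain ⟨U, hU, hUo, hc⟩ := h x
  exact ⟨U, hU, hUo, hc.compl⟩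

theorem isLocallyConstructible_coprof_eq {S : Scheme.{u}} (f : X ⟶ S) [LocallyOfFinitePresentation f] (n : ℕ) :
    IsLocallyConstructible {x : X | ringKrullDim ((f.fiber (f x)).presheaf.stalk (f.asFiber x)) =
      ((LocCoh.depth ((f.fiber (f x)).presheaf.stalk (f.asFiber x)) ((f.fiber (f x)).presheaf.stalk (f.asFiber x)) : ℕ∞) :
        WithBot ℕ∞) + n} := by
  have key : ∀ (x : X) (m : ℕ), x ∈ fibLocus (fun R _ _ => ringKrullDim R ≤ ((LocCoh.depth R R : ℕ∞) : WithBot ℕ∞) + m) f ↔
      ringKrullDim ((f.fiber (f x)).presheaf.stalk (f.asFiber x)) ≤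
        ((LocCoh.depth ((f.fiber (f x)).presheaf.stalk (f.asFiber x)) ((f.fiber (f x)).presheaf.stalk (f.asFiber x)) : ℕ∞) :
          WithBot ℕ∞) + m := fun _ _ => Iff.rfl
  cases n with
  | zero =>
    convert isLocallyConstructible_fibLocus (good_coprof 0) f using 1
    ext x
    haveI := isNoetherianRing_fibre_stalk f (f.asFiber x)
    obtain ⟨d, D, hd, hD, hle⟩ := exists_depth_dim ((f.fiber (f x)).presheaf.stalk (f.asFiber x))
    rw [key, Set.mem_setOf_eq, hd, hD, natCast_withBot, ← Nat.cast_add, Nat.cast_inj, Nat.cast_le]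
    omega
  | succ n =>
    convert (isLocallyConstructible_fibLocus (good_coprof (n + 1)) f).inter
      (isLocallyConstructible_compl (isLocallyConstructible_fibLocus (good_coprof n) f)) using 1
    ext x
    haveI := isNoetherianRing_fibre_stalk f (f.asFiber x)
    obtain ⟨d, D, hd, hD, hle⟩ := exists_depth_dim ((f.fiber (f x)).presheaf.stalk (f.asFiber x))
    rw [Set.mem_inter_iff, Set.mem_compl_iff, key, key, Set.mem_setOf_eq, hd, hD, natCast_withBot, ← Nat.cast_add, ← Nat.cast_add, Nat.cast_inj,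
      Nat.cast_le, Nat.cast_le]
    omega

end Groth.FlatDescent.FibreDepth
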