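import Groth.Agent.FlatDescent.FibreDepth.FibreDimConstr
import Groth.Agent.FibreND.Scheme
import Groth.Agent.ConstrBasics.Basic
import Groth.Agent.FibConstr.Dim

/-!
# Constructibility of the dimension of a constructible subset of the fibres
-/

universe u

open CategoryTheory CategoryTheory.Limits AlgebraicGeometry Topology TopologicalSpace
open Groth.Agent

namespace Groth.FlatDescent.FibreDepth

variable {X Y : Scheme.{u}}

/-- The points of the base over which a subset has a point of dimension at least `r` in its fibre. -/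
def imgDim (f : X ⟶ Y) (C : Set X) (r : ℕ) : Set Y :=
  f '' (C ∩ {z | (r : WithBot ℕ∞) ≤ FibreDim.fdim f z})

theorem fdim_comp_injective {Y' : Scheme.{u}} (g : X ⟶ Y') (i : Y' ⟶ Y) (hi : Function.Injective i) (a : X) :
    FibreDim.fdim (g ≫ i) a = FibreDim.fdim g a := by
  have h : (g ≫ i).base ⁻¹' {(g ≫ i).base a} = g.base ⁻¹' {g.base a} := by
    ext z
    exact hi.eq_iff
  rw [FibreDim.fdim, FibreDim.fdim, h]

theorem isLocallyConstructible_imgDim_affine (g : X ⟶ Y) [IsAffine X] [IsAffine Y] [LocallyOfFinitePresentation g]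
    {C : Set X} (hC : IsLocallyConstructible C) (r : ℕ) : IsLocallyConstructible (imgDim g C r) := by
  haveI : QuasiCompact g := inferInstance
  obtain ⟨T, hT, rfl⟩ := ConstrBasics.exists_sdiff hC.isConstructible
  have h : imgDim g (⋃ p ∈ T, p.1 \ p.2) r =
      ⋃ p ∈ (T : Set (Set X × Set X)), g '' (p.1 ∩ {x | ∀ z ∈ p.2ᶜ, z ⤳ x → g z = g x → FibreDim.fdim g z < r}ᶜ) := by
    ext s
    simp only [imgDim, Set.mem_image, Set.mem_inter_iff, Set.mem_iUnion, Set.mem_compl_iff, Set.mem_setOf_eq,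
      Set.mem_sdiff, exists_prop, Finset.mem_coe]
    constructor
    · rintro ⟨z, ⟨⟨p, hp, hz1, hz2⟩, hr⟩, rfl⟩
      exact ⟨p, hp, z, ⟨hz1, fun hh => (hh z hz2 specializes_rfl rfl).not_ge hr⟩, rfl⟩
    · rintro ⟨p, hp, x, ⟨hx1, hx2⟩, rfl⟩
      push Not at hx2
      obtain ⟨z, hz2, hzx, hgz, hr⟩ := hx2
      exact ⟨z, ⟨⟨p, hp, hzx.mem_open (hT p hp).1 hx1, hz2⟩, hr⟩, hgz⟩
  rw [h]
  refine IsLocallyConstructible.biUnion T.finite_toSet fun p hp => g.isLocallyConstructible_image ?_
  obtain ⟨h1, h1', h2, h2'⟩ := hT p hp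
  exact (h1'.isLocallyConstructible h1).inter (isLocallyConstructible_compl
    (isLocallyConstructible_forall_fdim_lt g h2.isClosed_compl
      (isLocallyConstructible_compl (h2'.isLocallyConstructible h2)) r))

theorem isLocallyConstructible_imgDim (f : X ⟶ Y) [LocallyOfFinitePresentation f] [QuasiCompact f]
    {C : Set X} (hC : IsLocallyConstructible C) (r : ℕ) : IsLocallyConstructible (imgDim f C r) := by
  refine IsLocallyConstructible.of_isOpenCover (U := fun V : Y.affineOpens => (V : Y.Opens)) (iSup_affineOpens_eq_top Y) ?_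
  intro V
  obtain ⟨t, ht, hcov⟩ := FibreND.exists_finite_cover f V.2
  have hfd : ∀ (U : t) (a : (U.1.1 : Scheme.{u})),
      FibreDim.fdim (f.resLE V U.1.1 (ht _ U.2)) a = FibreDim.fdim f (U.1.1.ι a) := fun U a => by
    rw [← fdim_comp_injective _ (V.1.ι) V.1.ι.isOpenEmbedding.injective, Scheme.Hom.resLE_comp_ι,
      fdim_comp_openImmersion]
  refine (congrArg IsLocallyConstructible (?_ : _ =
      ⋃ U : t, imgDim (f.resLE V U.1.1 (ht _ U.2)) (U.1.1.ι ⁻¹' C) r)).mpr ?_
  · ext y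
    refine Iff.trans ?_ Set.mem_iUnion.symm
    constructor
    · rintro ⟨z, ⟨hzC, hzr⟩, hzy⟩
      obtain ⟨U, hU, hzU⟩ := hcov z (show f z ∈ V.1 by rw [hzy]; exact y.2)
      refine ⟨⟨U, hU⟩, ⟨z, hzU⟩, ⟨hzC, ?_⟩, ?_⟩
      · show (r : WithBot ℕ∞) ≤ FibreDim.fdim _ _
        rw [hfd ⟨U, hU⟩]
        exact hzr
      · apply V.1.ι.isOpenEmbedding.injective
        rw [← Scheme.Hom.comp_apply, Scheme.Hom.resLE_comp_ι]
        exact hzy
    · rintro ⟨U, a, ⟨haC, har⟩, rfl⟩
      refine ⟨U.1.1.ι a, ⟨haC, ?_⟩, ?_⟩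
      · show (r : WithBot ℕ∞) ≤ FibreDim.fdim f _
        rw [← hfd U a]
        exact har
      · show f (U.1.1.ι a) = V.1.ι ((f.resLE V U.1.1 (ht _ U.2)) a)
        rw [← Scheme.Hom.comp_apply (f.resLE V U.1.1 (ht _ U.2)), Scheme.Hom.resLE_comp_ι]
        rfl
  refine IsLocallyConstructible.iUnion fun U => ?_
  haveI : IsAffine (U.1.1 : Scheme.{u}) := U.1.2
  haveI : IsAffine (V.1 : Scheme.{u}) := V.2
  haveI : LocallyOfFinitePresentation (f.resLE V U.1.1 (ht _ U.2)) := by
    delta Scheme.Hom.resLE; infer_instance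
  exact isLocallyConstructible_imgDim_affine _ (hC.preimage_of_isOpenEmbedding U.1.1.ι.isOpenEmbedding) r

variable (f : X ⟶ Y) [LocallyOfFinitePresentation f] (F : X.Modules) (hF : CohB1.IsFP F)

include f hF

theorem isLocallyConstructible_Sp : IsLocallyConstructible (Sp F) := by
  have h : Sp F = {x : X | prof f F x = ((⊤ : ℕ∞) : WithBot ℕ∞)}ᶜ := by
    ext x
    rcases nat_data f F hF x with ⟨hx, -, hp, -⟩ | ⟨hx, D, d, c, -, -, -, -, hp, -⟩
    · exact iff_of_false hx (fun h => h (by show prof f F x = _; rw [hp]; rfl))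
    · refine iff_of_true hx fun h => ?_
      change prof f F x = _ at h
      rw [hp] at h
      exact absurd (WithBot.coe_injective h) (ENat.coe_ne_top _)
  rw [h]
  exact isLocallyConstructible_compl (isLocallyConstructible_prof_eq f F hF ⊤)

theorem isLocallyConstructible_prof_le (r : ℕ) :
    IsLocallyConstructible {x : X | prof f F x ≤ (r : WithBot ℕ∞)} := by
  have h : {x : X | prof f F x ≤ (r : WithBot ℕ∞)} = {x | ((r + 1 : ℕ) : WithBot ℕ∞) ≤ prof f F x}ᶜ := by
    ext x
    rcases nat_data f F hF x with ⟨-, -, hp, -⟩ | ⟨-, D, e, c, -, -, -, -, hp, -⟩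
    · simp only [Set.mem_setOf_eq, Set.mem_compl_iff, hp, le_top, not_true_eq_false, iff_false]
      intro h
      exact absurd (WithBot.coe_le_coe.mp h) (by simp)
    · simp only [Set.mem_setOf_eq, Set.mem_compl_iff, hp, Nat.cast_le]
      omega
  rw [h]
  exact isLocallyConstructible_compl (isLocallyConstructible_le_prof f F hF _)

/-- The dimension of the support in the fibres has constructible level sets. -/
theorem isLocallyConstructible_delta_le (d : ℕ) :
    IsLocallyConstructible {x : X | delta f F x ≤ (d : WithBot ℕ∞)} := by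
  convert isLocallyConstructible_forall_fdim_lt f (isClosed_Sp F hF) (isLocallyConstructible_Sp f F hF) (d + 1) using 1
  ext x
  constructor
  · intro h z hz hzx hf
    have h1 := (fdim_le_delta f F hF hzx hf hz).trans h
    obtain ⟨c, hc⟩ := exists_fd f z
    rw [hc] at h1 ⊢
    have h2 : c ≤ d := by exact_mod_cast h1
    exact_mod_cast Nat.lt_succ_of_le h2
  · intro h
    show delta f F x ≤ _
    rcases nat_data f F hF x with ⟨hx, -, -, hδ, -⟩ | ⟨hx, D, e, c, -, -, -, -, -, hδ⟩
    · rw [hδ]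
      exact bot_le
    · obtain ⟨z, hzx, hf, hz, hfd⟩ := exists_fdim_eq_delta f F hF hx
      have h1 := h z hz hzx hf
      rw [hfd, hδ] at h1
      rw [hδ]
      have h2 : D + c < d + 1 := by exact_mod_cast h1
      exact_mod_cast Nat.lt_succ_iff.mp h2

/-- The dimensions bound near a point of the base. -/
theorem exists_base_bound [QuasiCompact f] (y : Y) :
    ∃ (V : Y.Opens) (N : ℕ), y ∈ V ∧ ∀ z : X, f z ∈ V → ∀ c : ℕ, FibreDim.fdim f z = c → c ≤ N := by
  obtain ⟨V, hV, hyV, -⟩ := Groth.FlatDescent.CM.exists_affine_le (⊤ : Y.Opens) (z := y) trivial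
  have hW : ∀ x : X, ∃ C : Chart f F, x ∈ C.W := exists_chart f F hF
  choose C hC using hW
  obtain ⟨t, ht⟩ := (f.isCompact_preimage hV.isCompact).elim_finite_subcover (fun x => ((C x).W : Set X)) (fun x => (C x).W.2)
    (fun x _ => Set.mem_iUnion.mpr ⟨x, hC x⟩)
  refine ⟨V, t.sup fun x => (C x).n, hyV, fun z hz c hc => ?_⟩
  obtain ⟨x, hx, hzx⟩ := Set.mem_iUnion₂.mp (ht hz)
  refine le_trans ?_ (Finset.le_sup (f := fun x => (C x).n) hx)
  obtain ⟨h, -, -, -, hf⟩ := exists_point_data ((C x).ι ⟨z, hzx⟩)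
  rw [(C x).fdim_eq ⟨z, hzx⟩, hf, Nat.cast_inj] at hc
  omega

end Groth.FlatDescent.FibreDepth
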