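import Groth.Agent.FlatDescent.FibreDepth.GenLocus
import Groth.Agent.FlatDescent.FibreDepth.Components
import Groth.Agent.FlatDescent.FibreDepth.ImageConstr
import Groth.Agent.FlatDescent.FibreDepth.Apps

/-!
# Constructibility of equidimensionality of the fibres at a point
-/

universe u

open CategoryTheory CategoryTheory.Limits AlgebraicGeometry Topology TopologicalSpace
open Groth.Agent

namespace Groth.FlatDescent.FibreDepth

variable {X S : Scheme.{u}} (f : X ⟶ S) [LocallyOfFinitePresentation f]

/-- All components of the fibre through a point have one dimension. -/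
theorem forall_component_iff (x : X) (e : ℕ) :
    (∀ Z ∈ irreducibleComponents (↥(f.fiber (f.base x)) : Type u), f.asFiber x ∈ Z →
        topologicalKrullDim (↥Z : Type u) = e) ↔
      ∀ z : X, z ⤳ x → f z = f x → (∀ w : X, w ⤳ z → f w = f z → w = z) → FibreDim.fdim f z = e := by
  constructor
  · intro h z hzx hf hmin
    obtain ⟨v, rfl⟩ : z ∈ Set.range (f.fiberι (f x)) := (f.range_fiberι _).ge hf
    have hv : v ⤳ f.asFiber x := (fiberι_specializes f).mp (by rwa [f.fiberι_asFiber])
    have hZ : closure ({v} : Set (f.fiber (f x))) ∈ irreducibleComponents ↥(f.fiber (f x)) := by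
      refine ⟨isIrreducible_singleton.closure, fun Z hZ hle => ?_⟩
      obtain ⟨η, hη⟩ := QuasiSober.sober hZ.closure isClosed_closure
      have hηv : η ⤳ v := hη.specializes (subset_closure (hle (subset_closure rfl)))
      obtain rfl : η = v := (f.fiberι (f x)).isEmbedding.injective (hmin _ ((fiberι_specializes f).mpr hηv)
        ((apply_fiberι f η).trans (apply_fiberι f v).symm))
      exact subset_closure.trans hη.def.ge
    rw [← dim_closure_fibre f v]
    exact h _ hZ hv.mem_closure
  · intro h Z hZ hxZ
    obtain ⟨η, hη⟩ := QuasiSober.sober hZ.1 (isClosed_of_mem_irreducibleComponents Z hZ)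
    have hη' : closure ({η} : Set (f.fiber (f.base x))) = Z := hη.def
    rw [← hη', dim_closure_fibre]
    refine h _ ?_ (apply_fiberι f η) fun w hwη hfw => ?_
    · simpa only [f.fiberι_asFiber] using (fiberι_specializes f).mpr (hη.specializes hxZ)
    · obtain ⟨v, rfl⟩ : w ∈ Set.range (f.fiberι (f.base x)) := (f.range_fiberι _).ge (hfw.trans (apply_fiberι f η))
      have hle : Z ⊆ closure ({v} : Set (f.fiber (f.base x))) := fun z hz =>
        (((fiberι_specializes f).mp hwη).trans (hη.specializes hz)).mem_closure
      have hvZ : v ∈ Z := hZ.2 isIrreducible_singleton.closure hle (subset_closure rfl)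
      exact congrArg _ ((hη.specializes hvZ).antisymm ((fiberι_specializes f).mp hwη)).eq.symm

theorem minimal_iff_delta_le (z : X) {c : ℕ} (hc : FibreDim.fdim f z = c) :
    (∀ w : X, w ⤳ z → f w = f z → w = z) ↔ delta f (Coh.structureModule X) z ≤ (c : WithBot ℕ∞) := by
  constructor
  · intro h
    exact ((minimal_data f _ (isFP_structureModule X) (mem_Sp_structureModule z) fun w _ => h w).2.2.trans hc).le
  · intro h w hwz hf
    by_contra hne
    have h1 := (fdim_lt_of_ne f _ (isFP_structureModule X) hwz hf hne).trans_le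
      (fdim_le_delta f _ (isFP_structureModule X) hwz hf (mem_Sp_structureModule w))
    rw [hc] at h1
    exact h1.not_ge h

theorem isLocallyConstructible_equidimAt : IsLocallyConstructible {x : X | ∃ e : ℕ,
      ∀ Z ∈ irreducibleComponents (↥(f.fiber (f.base x)) : Type u), f.asFiber x ∈ Z →
        topologicalKrullDim (↥Z : Type u) = e} := by
  simp_rw [forall_component_iff f]
  have hO := isFP_structureModule X
  refine isLocallyConstructible_congr fun x => ?_
  obtain ⟨W, d, hxW, hW⟩ := exists_nhds_delta_le f _ hO x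
  refine ⟨W, W.2, hxW, (⋃ r : Fin (d + 1),
    genLocus f {z | delta f (Coh.structureModule X) z ≤ ((r : ℕ) : WithBot ℕ∞)} r ∩
      {x | delta f (Coh.structureModule X) x ≤ ((r : ℕ) : WithBot ℕ∞)}ᶜ)ᶜ, ?_, ?_⟩
  · exact isLocallyConstructible_compl (IsLocallyConstructible.iUnion fun r =>
      (isLocallyConstructible_genLocus f (isLocallyConstructible_delta_le f _ hO _) _).inter
        (isLocallyConstructible_compl (isLocallyConstructible_delta_le f _ hO _)))
  ext y
  simp only [Set.mem_inter_iff, Set.mem_compl_iff, Set.mem_iUnion, not_exists, not_and, not_not, Set.mem_setOf_eq]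
  refine and_congr_right fun hy => ?_
  obtain ⟨w, hwy, hfw, -, hw, hwmin⟩ := exists_minimal_below f _ hO (mem_Sp_structureModule y)
  have hwmin' : ∀ w' : X, w' ⤳ w → f w' = f w → w' = w := fun w' => hwmin w' (mem_Sp_structureModule w')
  constructor
  · rintro ⟨e, he⟩ r ⟨z, hzδ, hzy, hf, hrz⟩
    obtain ⟨c, hc⟩ := exists_fd f z
    rw [hc, Nat.cast_le] at hrz
    have hmin := (minimal_iff_delta_le f z hc).mpr (hzδ.trans (Nat.cast_le.mpr hrz))
    have h1 := fdim_le_delta f _ hO (specializes_rfl (x := z)) rfl (mem_Sp_structureModule z)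
    change delta f _ z ≤ _ at hzδ
    show delta f _ y ≤ _
    rw [← hw, he w hwy hfw hwmin', ← he z hzy hf hmin]
    exact h1.trans hzδ
  · intro h
    obtain ⟨e, he⟩ := exists_fd f w
    refine ⟨e, fun z hzy hf hmin => ?_⟩
    obtain ⟨c, hc⟩ := exists_fd f z
    have h1 := fdim_le_delta f _ hO hzy hf (mem_Sp_structureModule z)
    have h2 := hW y hy
    rw [← hw] at h1 h2
    rw [hc, he, Nat.cast_le] at h1
    rw [he, Nat.cast_le] at h2
    have h3 := h ⟨c, by omega⟩ ⟨z, (minimal_iff_delta_le f z hc).mp hmin, hzy, hf, hc.ge⟩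
    change delta f _ y ≤ _ at h3
    rw [← hw, he] at h3
    have h4 : e ≤ c := by simpa using h3
    rw [hc, show c = e by omega]

end Groth.FlatDescent.FibreDepth
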