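import Groth.Agent.FlatDescent.FibreDepth.ProfConstr
import Groth.Agent.FlatDescent.FibreDepth.Apps
import Groth.Agent.S9355
import Groth.Agent.S8346

/-!
# Constructibility of the bounds of the fibre dimension of closed constructible subsets
-/

universe u

open CategoryTheory CategoryTheory.Limits AlgebraicGeometry Topology TopologicalSpace
open Groth.Agent

namespace Groth.FlatDescent.FibreDepth

variable {X Y : Scheme.{u}}

/-- The dimension of the closure in the fibre is local. -/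
theorem fdim_comp_openImmersion {W : Scheme.{u}} (j : W ⟶ X) [IsOpenImmersion j] (f : X ⟶ Y) [LocallyOfFiniteType f]
    (b : W) : FibreDim.fdim (j ≫ f) b = FibreDim.fdim f (j b) := by
  obtain ⟨n, hn, hO⟩ := FibreDim.exists_fdim f (j b)
  rw [hn, ← hO _ j.isOpenEmbedding.isOpen_range ⟨b, rfl⟩, FibreDim.fdim, ← FibreDim.dim_image j.isOpenEmbedding.isEmbedding]
  congr 2
  all_goals first
    | (ext c
       constructor
       · rintro ⟨d, ⟨hd, hdf⟩, rfl⟩
         exact ⟨⟨((specializes_iff_mem_closure.2 hd : b ⤳ d).map j.continuous).mem_closure, hdf⟩, d, rfl⟩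
       · rintro ⟨⟨hc, hcf⟩, d, rfl⟩
         exact ⟨d, ⟨(j.isOpenEmbedding.isInducing.specializes_iff.1 (specializes_iff_mem_closure.2 hc)).mem_closure,
           hcf⟩, rfl⟩)

theorem isConstructible_of_affine {W : X.Opens} (hW : IsAffineOpen W) {s : Set X} (hs : IsLocallyConstructible s) :
    IsConstructible (hW.fromSpec ⁻¹' s) :=
  (hs.preimage_of_isOpenEmbedding hW.fromSpec.isOpenEmbedding).isConstructible

/-- **Constructibility of the bounds of fibre dimensions.** -/
theorem isLocallyConstructible_forall_fdim_lt (f : X ⟶ Y) [LocallyOfFinitePresentation f] {Z : Set X}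
    (hZ : IsClosed Z) (hZc : IsLocallyConstructible Z) (r : ℕ) :
    IsLocallyConstructible {x : X | ∀ z ∈ Z, z ⤳ x → f z = f x → FibreDim.fdim f z < r} := by
  cases r with
  | zero =>
    have h : {x : X | ∀ z ∈ Z, z ⤳ x → f z = f x → FibreDim.fdim f z < ((0 : ℕ) : WithBot ℕ∞)} = Zᶜ := by
      ext x
      constructor
      · intro h hx
        obtain ⟨d, hd⟩ := (FibreDim.exists_fdim f x).imp fun _ h => h.1
        have h2 := h x hx specializes_rfl rfl
        rw [hd] at h2
        exact Nat.not_lt_zero d (by exact_mod_cast h2)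
      · exact fun hx z hz hzx _ => absurd (hzx.mem_closed hZ hz) hx
    rw [h]
    exact isLocallyConstructible_compl hZc
  | succ r =>
    intro x₀
    obtain ⟨W, hW, hxW, -⟩ := Groth.FlatDescent.CM.exists_affine_le (⊤ : X.Opens) (z := x₀) trivial
    refine ⟨W, W.2.mem_nhds hxW, W.2, ?_⟩
    let j := hW.fromSpec
    have hZ' : IsClosed (j ⁻¹' Z) := hZ.preimage j.continuous
    have hZ'c : IsCompact (j ⁻¹' Z)ᶜ :=
      Groth.Agent.S8346.isCompact_of_isConstructible (isConstructible_of_affine hW hZc).compl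
    obtain ⟨J, hJ, hJZ⟩ := PrimeSpectrum.isCompact_isOpen_iff_ideal.mp ⟨hZ'c, hZ'.isOpen_compl⟩
    replace hJZ : PrimeSpectrum.zeroLocus (J : Set Γ(X, W)) = j ⁻¹' Z := compl_injective hJZ
    let B := Γ(X, W) ⧸ J
    let i : Spec (CommRingCat.of B) ⟶ Spec Γ(X, W) := Spec.map (CommRingCat.ofHom (Ideal.Quotient.mk J))
    haveI : IsClosedImmersion i :=
      IsClosedImmersion.spec_of_surjective _ Ideal.Quotient.mk_surjective
    haveI : LocallyOfFinitePresentation i := by
      refine (HasRingHomProperty.Spec_iff (P := @LocallyOfFinitePresentation)).mpr ?_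
      haveI : Algebra.FinitePresentation Γ(X, W) B := Algebra.FinitePresentation.quotient hJ
      exact RingHom.finitePresentation_algebraMap.mpr inferInstance
    have hri : Set.range i = j ⁻¹' Z := by
      rw [← hJZ]
      exact (range_comap_of_surjective _ _ Ideal.Quotient.mk_surjective).trans (by rw [Ideal.mk_ker])
    let g := i ≫ j ≫ f
    have hfd : ∀ a, FibreDim.fdim g a = FibreDim.fdim f (j (i a)) := fun a => by
      rw [GeomUnib.fdim_comp_closedImmersion, fdim_comp_openImmersion j f]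
    have hset : j ⁻¹' {x : X | ∀ z ∈ Z, z ⤳ x → f z = f x → FibreDim.fdim f z < ((r + 1 : ℕ) : WithBot ℕ∞)} =
        (i '' {a | FlatMor.fibreDimAt g a ≤ (r : WithBot ℕ∞)}ᶜ)ᶜ := by
      ext p
      constructor
      · rintro h ⟨a, ha, rfl⟩
        obtain ⟨m, hm, ⟨w, hw, hwa, hwm⟩, -⟩ := FibreDim.exists_fibreDimAt_eq g a
        rw [hfd] at hwm
        have hlt := h (j (i w)) (hri.le ⟨w, rfl⟩) ((hwa.map i.continuous).map j.continuous) hw
        rw [hwm] at hlt
        refine ha ?_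
        show FlatMor.fibreDimAt g a ≤ _
        rw [hm]
        have h3 : m < r + 1 := by exact_mod_cast hlt
        exact_mod_cast Nat.lt_succ_iff.mp h3
      · intro h z hz hzx hf
        obtain ⟨q, rfl⟩ := hzx.mem_open j.isOpenEmbedding.isOpen_range ⟨p, rfl⟩
        have hqp : q ⤳ p := j.isOpenEmbedding.isInducing.specializes_iff.1 hzx
        obtain ⟨a, rfl⟩ : p ∈ Set.range i := hri.ge (hqp.mem_closed hZ' hz)
        obtain ⟨w, rfl⟩ : q ∈ Set.range i := hri.ge hz
        have hwa : w ⤳ a := i.isClosedEmbedding.isEmbedding.toIsInducing.specializes_iff.1 hqp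
        have ha : FlatMor.fibreDimAt g a ≤ (r : WithBot ℕ∞) := by_contra fun hc => h ⟨a, hc, rfl⟩
        obtain ⟨m, hm, -, hall⟩ := FibreDim.exists_fibreDimAt_eq g a
        have h1 : FibreDim.fdim g w ≤ (m : WithBot ℕ∞) := hall w hf hwa
        rw [hfd] at h1
        rw [hm] at ha
        obtain ⟨d, hd⟩ := (FibreDim.exists_fdim f (j (i w))).imp fun _ h => h.1
        rw [hd] at h1
        show FibreDim.fdim f (j (i w)) < _
        rw [hd]
        have h4 : d ≤ m := by exact_mod_cast h1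
        have h5 : m ≤ r := by exact_mod_cast ha
        exact_mod_cast Nat.lt_succ_of_le (h4.trans h5)
    have hopen : IsConstructible {a | FlatMor.fibreDimAt g a ≤ (r : WithBot ℕ∞)} :=
      IsRetrocompact.isConstructible (FibreSemi.isOpen_le g _) (Groth.Agent.S9355.result g r)
    have hc : IsConstructible (j ⁻¹' {x : X | ∀ z ∈ Z, z ⤳ x → f z = f x →
        FibreDim.fdim f z < ((r + 1 : ℕ) : WithBot ℕ∞)}) := by
      rw [hset]
      refine (IsConstructible.image_of_isClosedEmbedding i.isClosedEmbedding ?_ hopen.compl).compl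
      rw [hri]
      exact hZ'c.isRetrocompact hZ'.isOpen_compl
    have := hc.preimage_of_isOpenEmbedding hW.isoSpec.hom.isOpenEmbedding
    have key : ∀ s : Set X, hW.isoSpec.hom ⁻¹' (hW.fromSpec ⁻¹' s) = W.ι ⁻¹' s := fun s => by
      rw [← hW.isoSpec_hom_fromSpec]
      rfl
    exact key _ ▸ this

variable (f : X ⟶ Y) [LocallyOfFinitePresentation f] (F : X.Modules) (hF : CohB1.IsFP F)

include hF

/-- A bound for the invariants near a point. -/
theorem exists_nhds_delta_le (x : X) : ∃ (W : X.Opens) (d : ℕ), x ∈ W ∧ ∀ y ∈ W, delta f F y ≤ (d : WithBot ℕ∞) := by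
  obtain ⟨C, hxW⟩ := exists_chart f F hF x
  refine ⟨C.W, C.n, hxW, fun y hy => ?_⟩
  rcases nat_data f F hF y with ⟨-, -, -, hδ, -⟩ | ⟨hS, -⟩
  · rw [hδ]; exact bot_le
  obtain ⟨z, hzy, -, -, hz⟩ := exists_fdim_eq_delta f F hF hS
  rw [← hz, C.fdim_eq ⟨z, hzy.mem_open C.W.2 hy⟩]
  obtain ⟨h, -, -, -, hf⟩ := exists_point_data (C.ι ⟨z, hzy.mem_open C.W.2 hy⟩)
  rw [hf]
  exact_mod_cast Nat.sub_le _ _

omit hF in
theorem isLocallyConstructible_congr {α : Type*} [TopologicalSpace α] {s : Set α}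
    (h : ∀ x, ∃ U : Set α, IsOpen U ∧ x ∈ U ∧ ∃ t, IsLocallyConstructible t ∧ U ∩ s = U ∩ t) :
    IsLocallyConstructible s := by
  intro x
  obtain ⟨U, hU, hxU, t, ht, hst⟩ := h x
  obtain ⟨V, hV, hVo, hVc⟩ := ht x
  refine ⟨U ∩ V, Filter.inter_mem (hU.mem_nhds hxU) hV, hU.inter hVo, ?_⟩
  have hinc : IsOpenEmbedding (Set.inclusion (Set.inter_subset_right : U ∩ V ⊆ V)) :=
    IsOpenEmbedding.of_comp _ hVo.isOpenEmbedding_subtypeVal ((hU.inter hVo).isOpenEmbedding_subtypeVal)
  convert hVc.preimage_of_isOpenEmbedding hinc using 1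
  ext ⟨z, hzU, hzV⟩
  exact ⟨fun h => (hst.le ⟨hzU, h⟩).2, fun h => (hst.ge ⟨hzU, h⟩).2⟩

/-- The depth along a closed constructible subset has locally constructible level sets. -/
theorem isLocallyConstructible_forall_le_pdepth {Z : Set X} (hZ : IsClosed Z) (hZc : IsLocallyConstructible Z)
    (hflat : FlatMod.IsFlatOver f F) (n : ℕ) :
    IsLocallyConstructible {x : X | ∀ z ∈ Z, z ⤳ x → f z = f x → (n : ℕ∞) ≤ pdepth f F z} := by
  refine isLocallyConstructible_congr fun x => ?_
  obtain ⟨W, d, hxW, hW⟩ := exists_nhds_delta_le f F hF x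
  refine ⟨W, W.2, hxW, ⋂ r ∈ Set.Iic d,
    {y | ∀ z ∈ Z ∩ {z | prof f F z ≤ (r : WithBot ℕ∞)}, z ⤳ y → f z = f y →
      FibreDim.fdim f z < ((r + 1 - n : ℕ) : WithBot ℕ∞)}, ?_, ?_⟩
  · haveI : Finite ↥(Set.Iic d) := (Set.finite_Iic d).to_subtype
    rw [Set.biInter_eq_iInter]
    refine IsLocallyConstructible.iInter fun r => ?_
    refine isLocallyConstructible_forall_fdim_lt f (hZ.inter (isClosed_prof_le f F hF hflat r)) (hZc.inter ?_) _
    have h : {z : X | prof f F z ≤ (r : WithBot ℕ∞)} = {z | ((r + 1 : ℕ) : WithBot ℕ∞) ≤ prof f F z}ᶜ := by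
      ext z
      rcases nat_data f F hF z with ⟨-, -, hp, -⟩ | ⟨-, D, e, c, -, -, -, -, hp, -⟩
      · simp only [Set.mem_setOf_eq, Set.mem_compl_iff, hp, le_top, not_true_eq_false, iff_false]
        intro h
        exact absurd (WithBot.coe_le_coe.mp h) (by simp)
      · simp only [Set.mem_setOf_eq, Set.mem_compl_iff, hp, Nat.cast_le]
        omega
    rw [h]
    exact isLocallyConstructible_compl (isLocallyConstructible_le_prof f F hF _)
  · ext y
    refine and_congr_right fun hy => ⟨fun h => Set.mem_iInter₂.mpr fun r _ z hz hzy hf => ?_, fun h z hzZ hzy hf => ?_⟩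
    · rcases nat_data f F hF z with ⟨-, -, hp, -, -⟩ | ⟨-, D, e, c, -, he, hc, -, hp, -⟩
      · have hz' := hz.2
        change prof f F z ≤ _ at hz'
        rw [hp] at hz'
        exact absurd (WithBot.coe_le_coe.mp hz') (by simp)
      have h1 := h z hz.1 hzy hf
      rw [he, Nat.cast_le] at h1
      have hz2 := hz.2
      change prof f F z ≤ _ at hz2
      rw [hp, Nat.cast_le] at hz2
      rw [hc, Nat.cast_lt]
      omega
    · rcases nat_data f F hF z with ⟨-, -, -, -, h'⟩ | ⟨hzS, D, e, c, -, he, hc, -, hp, -⟩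
      · rw [h']; exact le_top
      rw [he, Nat.cast_le]
      by_contra hlt
      have h1 := ((prof_le_of_gen f F hF hzy hf hzS).1.trans (prof_le_of_gen f F hF hzy hf hzS).2).trans (hW y hy)
      rw [hp, Nat.cast_le] at h1
      have h2 := Set.mem_iInter₂.mp h (e + c) h1 z ⟨hzZ, hp.le⟩ hzy hf
      rw [hc, Nat.cast_lt] at h2
      omega

end Groth.FlatDescent.FibreDepth

namespace Groth.FlatDescent.FibreDepth

variable {X Y : Scheme.{u}}

/-- Locally constructible subsets of a scheme are retrocompact. -/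
theorem isRetrocompact_of_isLocallyConstructible {T : Set X} (hT : IsLocallyConstructible T) : IsRetrocompact T := by
  intro K hK hKo
  have hW : ∀ x ∈ K, ∃ W : X.affineOpens, x ∈ W.1 ∧ (W.1 : Set X) ⊆ K ∧ IsCompact (T ∩ W.1) := by
    intro x hx
    obtain ⟨_, ⟨W, hW, rfl⟩, hxW, hWK⟩ := X.isBasis_affineOpens.exists_subset_of_mem_open hx hKo
    refine ⟨⟨W, hW⟩, hxW, hWK, ?_⟩
    have h := (Groth.Agent.S8346.isCompact_of_isConstructible (isConstructible_of_affine hW hT)).image
      hW.fromSpec.continuous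
    rwa [Set.image_preimage_eq_inter_range, hW.range_fromSpec] at h
  haveI : Nonempty X.affineOpens := ⟨⟨⊥, isAffineOpen_bot X⟩⟩
  choose! W hxW hWK hc using hW
  obtain ⟨t, htK, ht⟩ := hK.elim_nhds_subcover (fun x => ((W x).1 : Set X)) fun x hx => (W x).1.2.mem_nhds (hxW x hx)
  have h : T ∩ K = ⋃ x ∈ t, T ∩ ((W x).1 : Set X) := by
    ext z
    simp only [Set.mem_inter_iff, Set.mem_iUnion, exists_prop]
    constructor
    · rintro ⟨hz, hzK⟩
      obtain ⟨x, hx, hzx⟩ := Set.mem_iUnion₂.mp (ht hzK)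
      exact ⟨x, hx, hz, hzx⟩
    · rintro ⟨x, hx, hz, hzx⟩
      exact ⟨hz, hWK x (htK x hx) hzx⟩
  rw [h]
  exact t.isCompact_biUnion fun x hx => hc x (htK x hx)

theorem le_fiberDepthAlong_iff (f : X ⟶ Y) (F : X.Modules) (Z : Set X) (x : X) (n : ℕ∞) :
    n ≤ CInt.fiberDepthAlong f F Z x ↔ ∀ z ∈ Z, z ⤳ x → f z = f x → n ≤ pdepth f F z := by
  rw [CInt.fiberDepthAlong, le_iInf_iff]
  exact ⟨fun h z hz hzx hf => h ⟨z, hz, hzx, hf⟩, fun h z => h z.1 z.2.1 z.2.2.1 z.2.2.2⟩

theorem exists_nhds_fiberDepthAlong (f : X ⟶ Y) [LocallyOfFinitePresentation f] (F : X.Modules) (hF : CohB1.IsFP F)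
    (hflat : FlatMod.IsFlatOver f F) (Z : TopologicalSpace.Closeds X) (hZc : IsLocallyConstructible (Z : Set X))
    (y₀ : (Z : Set X)) :
    ∃ V : Opens (Z : Set X), y₀ ∈ V ∧
      ((fun y : (Z : Set X) => CInt.fiberDepthAlong f F (Z : Set X) y.1) '' (V : Set (Z : Set X))).Finite ∧
      ∀ t : ℕ∞, IsConstructible {v : ↥V | CInt.fiberDepthAlong f F (Z : Set X) v.1.1 = t} := by
  obtain ⟨W₀, d, hxW₀, hd⟩ := exists_nhds_delta_le f F hF y₀.1
  obtain ⟨W, hW, hxW, hWW₀⟩ := Groth.FlatDescent.CM.exists_affine_le W₀ hxW₀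
  let V : Opens (Z : Set X) := ⟨Subtype.val ⁻¹' (W : Set X), W.2.preimage continuous_subtype_val⟩
  let G : ℕ → Set X := fun n => {x | ∀ z ∈ (Z : Set X), z ⤳ x → f z = f x → (n : ℕ∞) ≤ pdepth f F z}
  have hval : ∀ v : V, ∀ t : ℕ∞, CInt.fiberDepthAlong f F (Z : Set X) v.1.1 = t → t = ⊤ ∨ ∃ m ≤ d, t = (m : ℕ) := by
    intro v t ht
    by_cases htop : t = ⊤
    · exact Or.inl htop
    refine Or.inr ?_
    obtain ⟨m, rfl⟩ := ENat.ne_top_iff_exists.mp htop
    refine ⟨m, ?_, rfl⟩
    by_contra hlt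
    apply htop
    refine top_le_iff.mp (ht ▸ (le_fiberDepthAlong_iff f F _ _ _).mpr fun z hz hzx hf => ?_)
    rcases nat_data f F hF z with ⟨-, -, -, -, h'⟩ | ⟨hzS, D, e, c, -, he, hc, -, hp, -⟩
    · rw [h']
    exfalso
    have h1 := ((prof_le_of_gen f F hF hzx hf hzS).1.trans (prof_le_of_gen f F hF hzx hf hzS).2).trans
      (hd _ (hWW₀ v.2))
    rw [hp, Nat.cast_le] at h1
    have h2 := (le_fiberDepthAlong_iff f F _ _ _).mp ht.ge z hz hzx hf
    rw [he, Nat.cast_le] at h2
    omega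
  refine ⟨V, hxW, ?_, fun t => ?_⟩
  · refine ((Set.finite_Iic d).image (fun m : ℕ => (m : ℕ∞))).insert ⊤ |>.subset ?_
    rintro _ ⟨y, hy, rfl⟩
    rcases hval ⟨y, hy⟩ _ rfl with h | ⟨m, hm, h⟩
    · exact Set.mem_insert_iff.mpr (Or.inl h)
    · exact Set.mem_insert_iff.mpr (Or.inr ⟨m, hm, h.symm⟩)
  · let ι : V → PrimeSpectrum Γ(X, W) := fun v => hW.isoSpec.hom ⟨v.1.1, v.2⟩
    have hι : IsClosedEmbedding ι :=
      hW.isoSpec.hom.homeomorph.isClosedEmbedding.comp
        ((Z.isClosed.isClosedEmbedding_subtypeVal).restrictPreimage (W : Set X))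
    have hpre : ∀ n : ℕ, IsConstructible {v : ↥V | (n : ℕ∞) ≤ CInt.fiberDepthAlong f F (Z : Set X) v.1.1} := by
      intro n
      have h := isConstructible_preimage_closedEmbedding hι (isConstructible_of_affine hW
        (isLocallyConstructible_forall_le_pdepth f F hF Z.isClosed hZc hflat n))
      convert h using 1
      ext v
      have hι' : hW.fromSpec (ι v) = v.1.1 :=
        congrArg (fun φ : (W : Scheme.{u}) ⟶ X => φ ⟨v.1.1, v.2⟩) hW.isoSpec_hom_fromSpec
      show _ ↔ hW.fromSpec (ι v) ∈ G n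
      rw [hι']
      exact le_fiberDepthAlong_iff f F _ _ _
    induction t using ENat.recTopCoe with
    | top =>
      convert hpre (d + 1) using 1
      ext v
      refine ⟨fun h => (le_of_eq_of_le rfl (h.ge.trans' le_top)), fun h => ?_⟩
      rcases hval v _ rfl with h' | ⟨m, hm, h'⟩
      · exact h'
      · rw [Set.mem_setOf_eq, h', Nat.cast_le] at h
        omega
    | coe m =>
      convert (hpre m).sdiff (hpre (m + 1)) using 1
      ext v
      simp only [Set.mem_setOf_eq, Set.mem_sdiff]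
      generalize CInt.fiberDepthAlong f F (Z : Set X) v.1.1 = a
      induction a using ENat.recTopCoe with
      | top => simp
      | coe a =>
        simp only [Nat.cast_le, Nat.cast_inj]
        omega

end Groth.FlatDescent.FibreDepth
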