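import Groth.Agent.FlatDescent.FibreDepth.Main
import Groth.Agent.FlatDescent.CMFibre.BC
import Groth.Agent.MeroBasic.Reg
import Groth.Agent.InvBasic.QCoh
import Groth.Agent.QCohLib.Pullback
import Groth.Agent.QCohLib.FiniteType
import Groth.Prelude.Def_DerSch

/-!
# The case of the structure sheaf
-/

universe u

open CategoryTheory CategoryTheory.Limits AlgebraicGeometry TopologicalSpace LocCoh
open Groth.Agent Groth.FlatDescent.CM

set_option backward.isDefEq.respectTransparency false

namespace Groth.FlatDescent.FibreDepth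

variable {X Y : Scheme.{u}}

theorem isFP_structureModule (X : Scheme.{u}) : CohB1.IsFP (Coh.structureModule X) := by
  haveI := InvBasic.isQuasicoherent_structureModule X
  exact (QCohLib.isFinitePresentation_iff_affine (M := Coh.structureModule X)).mpr fun U =>
    (inferInstance : Module.FinitePresentation Γ(X, U.1) Γ(X, U.1))

theorem surjective_toSpanSingleton_germ_one (x : X) : Function.Surjective
    (LinearMap.toSpanSingleton (X.presheaf.stalk x) ((Coh.structureModule X).presheaf.stalk x)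
      ((Coh.structureModule X).presheaf.germ ⊤ x (trivial : x ∈ (⊤ : X.Opens)) (1 : Γ(X, ⊤)))) := by
  intro m
  obtain ⟨U, hx, ρ, rfl⟩ := (Coh.structureModule X).presheaf.exists_germ_eq m
  refine ⟨X.presheaf.germ U x hx ρ, ?_⟩
  have e1 : (Coh.structureModule X).presheaf.germ ⊤ x (trivial : x ∈ (⊤ : X.Opens)) (1 : Γ(X, ⊤)) =
      (Coh.structureModule X).presheaf.germ U x hx (1 : Γ(X, U)) := by
    refine (TopCat.Presheaf.germ_res_apply (Coh.structureModule X).presheaf (homOfLE (le_top : U ≤ ⊤)) x hx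
      (1 : Γ(X, ⊤))).symm.trans (congrArg _ ?_)
    exact map_one (X.presheaf.map _).hom
  rw [LinearMap.toSpanSingleton_apply, e1]
  refine Eq.trans (PresheafOfModules.germ_smul (R := X.presheaf)
    (M := show PresheafOfModules (X.presheaf ⋙ forget₂ CommRingCat RingCat) from
      (Coh.structureModule X).val) x U hx ρ (1 : Γ(X, U))).symm ?_
  congr 1
  exact mul_one (M := Γ(X, U)) ρ

/-- The stalk of the structure sheaf as a module over itself. -/
noncomputable def unitStalkEquiv (x : X) :
    X.presheaf.stalk x ≃ₗ[X.presheaf.stalk x] (Coh.structureModule X).presheaf.stalk x :=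
  LinearEquiv.ofBijective _ ⟨(injective_iff_map_eq_zero _).mpr fun r hr => MeroBasic.smul_one_germ_eq_zero x r hr,
    surjective_toSpanSingleton_germ_one x⟩

theorem isFlatOver_structureModule (f : X ⟶ Y) [Flat f] :
    FlatMod.IsFlatOver f (Coh.structureModule X) := fun x => by
  letI := (f.stalkMap x).hom.toAlgebra
  haveI : Module.Flat (Y.presheaf.stalk (f x)) (X.presheaf.stalk x) := Flat.stalkMap f x
  letI := FlatMod.moduleStalkOver f (Coh.structureModule X) x
  exact Module.Flat.of_linearEquiv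
    ({ (unitStalkEquiv x).toAddEquiv with
        map_smul' := fun a b => (unitStalkEquiv x).map_smul ((f.stalkMap x).hom a) b } :
      X.presheaf.stalk x ≃ₗ[Y.presheaf.stalk (f x)] (Coh.structureModule X).presheaf.stalk x).symm

/-- The restriction of the structure sheaf to a fibre. -/
theorem nonempty_fibN_equiv (f : X ⟶ Y) {y : Y} (v : f.fiber y) :
    Nonempty (fibN f (Coh.structureModule X) v ≃ₗ[(f.fiber y).presheaf.stalk v] (f.fiber y).presheaf.stalk v) :=
  ⟨((DerSch.stalkFunctor (f.fiber y) v).mapIso (QCohLib.pullbackUnitIso (f.fiberι y))).toLinearEquiv.trans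
    (unitStalkEquiv v).symm⟩

section RingInvariance

variable {R S : Type u} [CommRing R] [CommRing S] [IsLocalRing R] [IsLocalRing S]

theorem hasSk_ringEquiv (e : R ≃+* S) (k : ℕ) : HasSk k R R ↔ HasSk k S S :=
  hasSk_transfer e.toRingHom e.surjective e.toAddEquiv (fun a m => map_mul e a m) k

theorem depth_ringEquiv (e : R ≃+* S) : depth R R = depth S S :=
  depth_transfer e.toRingHom e.surjective e.toAddEquiv (fun a m => map_mul e a m)

end RingInvariance

/-- The invariants of the fibre local ring. -/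
theorem ring_invariants (f : X ⟶ Y) [LocallyOfFinitePresentation f] (x : X) :
    depth ((f.fiber (f x)).presheaf.stalk (f.asFiber x)) ((f.fiber (f x)).presheaf.stalk (f.asFiber x)) =
      pdepth f (Coh.structureModule X) x ∧
    ringKrullDim ((f.fiber (f x)).presheaf.stalk (f.asFiber x)) = psdm f (Coh.structureModule X) x ∧
    ∀ k, (HasSk k ((f.fiber (f x)).presheaf.stalk (f.asFiber x)) ((f.fiber (f x)).presheaf.stalk (f.asFiber x)) ↔
      HasSk k ((f.fiber (f x)).presheaf.stalk (f.asFiber x)) (fibN f (Coh.structureModule X) (f.asFiber x))) := by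
  obtain ⟨e⟩ := nonempty_fibN_equiv f (f.asFiber x)
  haveI := finite_fibN f _ (isFP_structureModule X) (f.asFiber x)
  have he : ∀ a m, e.toAddEquiv (a • m) = RingHom.id _ a • e.toAddEquiv m := fun a m => e.map_smul a m
  refine ⟨(depth_transfer (RingHom.id _) Function.surjective_id e.toAddEquiv he).symm, ?_,
    fun k => (hasSk_transfer (RingHom.id _) Function.surjective_id e.toAddEquiv he k).symm⟩
  rw [← Module.supportDim_self_eq_ringKrullDim]
  exact (supportDim_transfer (RingHom.id _) Function.surjective_id e.toAddEquiv he).symm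

theorem isOpen_hasSk_ring (f : X ⟶ Y) [Flat f] [LocallyOfFinitePresentation f] (k : ℕ) :
    IsOpen {x : X | HasSk k ((f.fiber (f x)).presheaf.stalk (f.asFiber x))
      ((f.fiber (f x)).presheaf.stalk (f.asFiber x))} := by
  convert isOpen_skAt f _ (isFP_structureModule X) (isFlatOver_structureModule f) k using 1
  ext x
  exact ((ring_invariants f x).2.2 k).trans (hasSk_iff f _ (isFP_structureModule X) k x)

theorem isOpen_coprof_ring (f : X ⟶ Y) [Flat f] [LocallyOfFinitePresentation f] (n : ℕ) :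
    IsOpen {x : X | ringKrullDim ((f.fiber (f x)).presheaf.stalk (f.asFiber x)) ≤
      ((depth ((f.fiber (f x)).presheaf.stalk (f.asFiber x)) ((f.fiber (f x)).presheaf.stalk (f.asFiber x)) : ℕ∞) :
        WithBot ℕ∞) + n} := by
  convert isOpen_coprof_le f _ (isFP_structureModule X) (isFlatOver_structureModule f) n using 1
  ext x
  simp only [Set.mem_setOf_eq]
  rw [(ring_invariants f x).1, (ring_invariants f x).2.1]

/-- Fibre local rings along an open immersion. -/
theorem exists_fibreStalk_equiv_comp {W : Scheme.{u}} (j : W ⟶ X) [IsOpenImmersion j] (f : X ⟶ Y) (w : W) :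
    Nonempty (((j ≫ f).fiber ((j ≫ f) w)).presheaf.stalk ((j ≫ f).asFiber w) ≃+*
      (f.fiber (f (j w))).presheaf.stalk (f.asFiber (j w))) := by
  obtain ⟨a⟩ := exists_fibreStalkEquiv (j ≫ f) w
  obtain ⟨b⟩ := exists_fibreStalkEquiv f (j w)
  let e : X.presheaf.stalk (j w) ≃+* W.presheaf.stalk w := (asIso (j.stalkMap w)).commRingCatIsoToRingEquiv
  have he : maxExt (j ≫ f) w = (maxExt f (j w)).map (e : _ →+* W.presheaf.stalk w) := maxExt_comp j f w
  exact ⟨(a.symm.trans (Ideal.quotientEquiv _ _ e he).symm).trans b⟩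

/-- Passing to the flat locus. -/
theorem isOpen_flat_and (f : X ⟶ Y) [LocallyOfFinitePresentation f]
    (P : ∀ (R : Type u) [CommRing R] [IsLocalRing R], Prop)
    (hP : ∀ (R S : Type u) [CommRing R] [IsLocalRing R] [CommRing S] [IsLocalRing S], (R ≃+* S) → (P R ↔ P S))
    (h : ∀ {W : Scheme.{u}} (g : W ⟶ Y) [Flat g] [LocallyOfFinitePresentation g],
      IsOpen {w : W | P ((g.fiber (g w)).presheaf.stalk (g.asFiber w))}) :
    IsOpen {x : X | (f.stalkMap x).hom.Flat ∧ P ((f.fiber (f x)).presheaf.stalk (f.asFiber x))} := by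
  let U : X.Opens := ⟨_, isOpen_flatLocus_hom f⟩
  haveI : Flat (U.ι ≫ f) := (Flat.iff_flat_stalkMap _).mpr fun w => by
    rw [Scheme.Hom.stalkMap_comp]
    exact RingHom.Flat.comp w.2 (Flat.stalkMap U.ι w)
  convert U.ι.isOpenEmbedding.isOpenMap _ (h (U.ι ≫ f)) using 1
  ext x
  constructor
  · rintro ⟨h1, h2⟩
    obtain ⟨e⟩ := exists_fibreStalk_equiv_comp U.ι f ⟨x, h1⟩
    exact ⟨⟨x, h1⟩, (hP _ _ e).mpr h2, rfl⟩
  · rintro ⟨w, hw, rfl⟩
    obtain ⟨e⟩ := exists_fibreStalk_equiv_comp U.ι f w
    exact ⟨w.2, (hP _ _ e).mp hw⟩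

theorem isOpen_flat_hasSk (f : X ⟶ Y) [LocallyOfFinitePresentation f] (k : ℕ) :
    IsOpen {x : X | (f.stalkMap x).hom.Flat ∧ HasSk k ((f.fiber (f x)).presheaf.stalk (f.asFiber x))
      ((f.fiber (f x)).presheaf.stalk (f.asFiber x))} :=
  isOpen_flat_and f (fun R _ _ => HasSk k R R) (fun _ _ _ _ _ _ e => hasSk_ringEquiv e k)
    fun g => isOpen_hasSk_ring g k

theorem isOpen_flat_coprof (f : X ⟶ Y) [LocallyOfFinitePresentation f] (n : ℕ) :
    IsOpen {x : X | (f.stalkMap x).hom.Flat ∧ ringKrullDim ((f.fiber (f x)).presheaf.stalk (f.asFiber x)) ≤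
      ((depth ((f.fiber (f x)).presheaf.stalk (f.asFiber x)) ((f.fiber (f x)).presheaf.stalk (f.asFiber x)) : ℕ∞) :
        WithBot ℕ∞) + n} :=
  isOpen_flat_and f (fun R _ _ => ringKrullDim R ≤ ((depth R R : ℕ∞) : WithBot ℕ∞) + n)
    (fun _ _ _ _ _ _ e => by rw [ringKrullDim_eq_of_ringEquiv e, depth_ringEquiv e])
    fun g => isOpen_coprof_ring g n

end Groth.FlatDescent.FibreDepth
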