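import Groth.Agent.FlatDescent.FibreDepth.FibreDimConstr
import Groth.Agent.FlatDescent.FibreDepth.Ring
import Groth.Agent.GenericFibreSpread.Inj
import Groth.Agent.ConsFib.Basic
import Groth.Agent.FlatDescent.CMFibre.Affine

/-!
# Points with a generisation of large dimension in a constructible set, along the fibres

For a constructible subset `E` the locus of the points having in their fibre a generisation in `E` whose
closure in the fibre has dimension at least `r` is locally constructible (EGA IV 9.5.4 in this form).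
-/

universe u

open CategoryTheory CategoryTheory.Limits AlgebraicGeometry Topology TopologicalSpace PrimeSpectrum
open Groth.Agent Groth.FlatDescent.CM Groth.FlatDescent.CMFibre
open scoped TensorProduct

namespace Groth.FlatDescent.FibreDepth

variable {X Y : Scheme.{u}}

/-- The points with a generisation in `E` in their fibre, of dimension at least `r`. -/
def genLocus (f : X ⟶ Y) (E : Set X) (r : ℕ) : Set X :=
  {x | ∃ z ∈ E, z ⤳ x ∧ f z = f x ∧ (r : WithBot ℕ∞) ≤ FibreDim.fdim f z}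

/-- Over `T` the set `C` is the closure of `E` in the fibres. -/
def IsFibHull (f : X ⟶ Y) (E C : Set X) (T : Set Y) : Prop :=
  (∀ x, f x ∈ T → x ∈ E → x ∈ C) ∧
    ∀ z ∈ C, f z ∈ T → (∀ w ∈ C, w ⤳ z → f w = f z → w = z) → z ∈ E

theorem exists_maximal_below (f : X ⟶ Y) [LocallyOfFinitePresentation f] (C : Set X) {z : X} (hz : z ∈ C) :
    ∃ w ∈ C, w ⤳ z ∧ f w = f z ∧ FibreDim.fdim f z ≤ FibreDim.fdim f w ∧
      ∀ w' ∈ C, w' ⤳ w → f w' = f w → w' = w := by
  classical
  obtain ⟨m, -, -, hall⟩ := FibreDim.exists_fibreDimAt_eq f z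
  let S : Set ℕ := {c | ∃ w ∈ C, w ⤳ z ∧ f w = f z ∧ FibreDim.fdim f w = c}
  have hS : S.Finite := (Set.finite_Iic m).subset fun c ⟨w, _, hwz, hf, hc⟩ => by
    have h := hall w hf hwz
    rw [hc, Nat.cast_le] at h
    exact h
  obtain ⟨c, hc⟩ := exists_fd f z
  obtain ⟨k, ⟨w, hwC, hwz, hf, hk⟩, hmax⟩ := hS.exists_maximalFor id S ⟨c, z, hz, specializes_rfl, rfl, hc⟩
  have hmax' : ∀ j ∈ S, j ≤ k := fun j hj => le_of_not_gt fun hlt => hlt.not_ge (hmax hj hlt.le)
  refine ⟨w, hwC, hwz, hf, ?_, fun w' hw' hsp hf' => ?_⟩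
  · rw [hc, hk, Nat.cast_le]
    exact hmax' c ⟨z, hz, specializes_rfl, rfl, hc⟩
  · by_contra hne
    have hlt := fdim_lt_of_ne f (Coh.structureModule X) (isFP_structureModule X) hsp hf' hne
    obtain ⟨j, hj⟩ := exists_fd f w'
    rw [hk, hj, Nat.cast_lt] at hlt
    exact hlt.not_ge (hmax' j ⟨w', hw', hsp.trans hwz, hf'.trans hf, hj⟩)

theorem genLocus_inter_eq (f : X ⟶ Y) [LocallyOfFinitePresentation f] {E C : Set X} {T : Set Y}
    (h : IsFibHull f E C T) (r : ℕ) :
    genLocus f E r ∩ f ⁻¹' T = {x | ∀ z ∈ C, z ⤳ x → f z = f x → FibreDim.fdim f z < (r : WithBot ℕ∞)}ᶜ ∩ f ⁻¹' T := by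
  ext x
  simp only [Set.mem_inter_iff, Set.mem_preimage, and_congr_left_iff]
  intro hxT
  constructor
  · rintro ⟨z, hzE, hzx, hf, hr⟩ hx
    exact (hx z (h.1 z (by rw [hf]; exact hxT) hzE) hzx hf).not_ge hr
  · intro hx
    change ¬ ∀ z ∈ C, _ at hx
    push Not at hx
    obtain ⟨z, hzC, hzx, hf, hr⟩ := hx
    obtain ⟨w, hwC, hwz, hfw, hle, hmax⟩ := exists_maximal_below f C hzC
    exact ⟨w, h.2 w hwC (by rw [hfw, hf]; exact hxT) hmax, hwz.trans hzx, hfw.trans hf, hr.trans hle⟩

/-- Generalisations lift along the projection of a fibre. -/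
theorem exists_lift_gen {X' S' X S : Scheme.{u}} {g' : X' ⟶ X} {f' : X' ⟶ S'} {f : X ⟶ S} {g : S' ⟶ S}
    (h : IsPullback g' f' f g) {z : X'} {w₀ : X} (hw : w₀ ⤳ g' z) (hf : f w₀ = f (g' z)) :
    ∃ w : X', w ⤳ z ∧ f' w = f' z ∧ g' w = w₀ := by
  let y := f' z
  have hgy : g y = f (g' z) := by rw [← Scheme.Hom.comp_apply, ← Scheme.Hom.comp_apply, h.w]
  have hp := isPullback_fiberToSpecResidueField_of_isPullback h y
  let m := pullback.map f' (S'.fromSpecResidueField y) f (S.fromSpecResidueField (g y)) g'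
    (Spec.map (g.residueFieldMap y)) g h.w.symm (by simp)
  have hfl : Flat (Spec.map (g.residueFieldMap y)) := by
    refine Flat.SpecMap_iff.mpr ?_
    letI := (g.residueFieldMap y).hom.toAlgebra
    exact (inferInstance : Module.Flat (S.residueField (g y)) (S'.residueField y))
  haveI : Flat m := MorphismProperty.of_isPullback hp.flip hfl
  have hcomm : ∀ v, f.fiberι (g y) (m v) = g' (f'.fiberι y v) := fun v => by
    exact (congrArg (fun k : f'.fiber y ⟶ X => k v)
      (show m ≫ f.fiberι (g y) = f'.fiberι y ≫ g' from pullback.lift_fst _ _ _) :)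
  obtain ⟨v, hv⟩ : z ∈ Set.range (f'.fiberι y) := (f'.range_fiberι y).ge rfl
  obtain ⟨v₀, hv₀⟩ : w₀ ∈ Set.range (f.fiberι (g y)) := (f.range_fiberι _).ge (hf.trans hgy.symm)
  have hsp : v₀ ⤳ m v := (fiberι_specializes f).mp (by rw [hcomm, hv, hv₀]; exact hw)
  obtain ⟨u, hu, hmu⟩ := Flat.generalizingMap (f := m) hsp
  refine ⟨f'.fiberι y u, hv ▸ (fiberι_specializes f').mpr hu, apply_fiberι f' u, ?_⟩
  rw [← hcomm, hmu, hv₀]

theorem isFibHull_bc {X' S' X S : Scheme.{u}} {g' : X' ⟶ X} {f' : X' ⟶ S'} {f : X ⟶ S} {g : S' ⟶ S}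
    (h : IsPullback g' f' f g) {E C : Set X} {T : Set S} (hH : IsFibHull f E C T) :
    IsFibHull f' (g' ⁻¹' E) (g' ⁻¹' C) (g ⁻¹' T) := by
  have hw : ∀ x : X', f (g' x) = g (f' x) := fun x => by
    rw [← Scheme.Hom.comp_apply, ← Scheme.Hom.comp_apply, h.w]
  refine ⟨fun x hxT hxE => hH.1 _ (by rw [hw]; exact hxT) hxE, fun z hzC hzT hmax => hH.2 _ hzC (by rw [hw]; exact hzT) ?_⟩
  intro w₀ hw₀C hsp hf
  obtain ⟨w, hwz, hfw, rfl⟩ := exists_lift_gen h hsp hf
  rw [hmax w hw₀C hwz hfw]

section Algebra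

variable {A B : Type u} [CommRing A] [CommRing B] [Algebra A B]

/-- The subset `D(g) ∩ V(J)`. -/
def piece (g : B) (J : Ideal B) : Set (PrimeSpectrum B) := zeroLocus (J : Set B) ∩ (zeroLocus {g})ᶜ

/-- The stratum `V(I) ∩ D(a)`. -/
def stratum (I : Ideal A) (a : A) : Set (PrimeSpectrum A) := zeroLocus (I : Set A) ∩ (zeroLocus {a})ᶜ

theorem specializes_iff_le {R : Type u} [CommRing R] (p q : PrimeSpectrum R) : p ⤳ q ↔ p.asIdeal ≤ q.asIdeal :=
  (PrimeSpectrum.le_iff_specializes p q).symm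

theorem mem_stratum {I : Ideal A} {a : A} {p : PrimeSpectrum A} : p ∈ stratum I a ↔ I ≤ p.asIdeal ∧ a ∉ p.asIdeal := by
  simp [stratum, PrimeSpectrum.mem_zeroLocus]

theorem mem_piece {g : B} {J : Ideal B} {p : PrimeSpectrum B} : p ∈ piece g J ↔ J ≤ p.asIdeal ∧ g ∉ p.asIdeal := by
  simp [piece, PrimeSpectrum.mem_zeroLocus]

/-- Generically over a prime of the base the closure in the fibres is given by a single ideal. -/
theorem exists_isFibHull_prime [IsNoetherianRing A] [Algebra.FiniteType A B] (g : B) (J : Ideal B) (p : Ideal A)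
    [p.IsPrime] : ∃ a ∉ p, ∃ N : Ideal B,
      IsFibHull (algSpec A B) (piece g J) (zeroLocus (N : Set B)) (stratum p a) := by
  classical
  let J' : Ideal B := J ⊔ p.map (algebraMap A B)
  let N : Ideal B :=
    { carrier := {x | ∃ n : ℕ, g ^ n * x ∈ J'}
      zero_mem' := ⟨0, by simp⟩
      add_mem' := by
        rintro x y ⟨n, hn⟩ ⟨k, hk⟩
        refine ⟨n + k, ?_⟩
        rw [mul_add, pow_add]
        refine J'.add_mem ?_ ?_
        · rw [mul_comm (g ^ n), mul_assoc]; exact J'.mul_mem_left _ hn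
        · rw [mul_assoc]; exact J'.mul_mem_left _ hk
      smul_mem' := fun c x ⟨n, hn⟩ => ⟨n, by rw [smul_eq_mul, mul_left_comm]; exact J'.mul_mem_left _ hn⟩ }
  have hJN : J' ≤ N := fun x hx => ⟨0, by simpa using hx⟩
  let Q := B ⧸ N
  let ψ : A ⧸ p →+* Q := Ideal.Quotient.lift p ((Ideal.Quotient.mk N).comp (algebraMap A B)) fun a ha =>
    Ideal.Quotient.eq_zero_iff_mem.mpr (hJN (Ideal.mem_sup_right (Ideal.mem_map_of_mem _ ha)))
  letI : Algebra (A ⧸ p) Q := ψ.toAlgebra
  haveI : IsScalarTower A (A ⧸ p) Q := IsScalarTower.of_algebraMap_eq fun _ => rfl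
  haveI : Algebra.FiniteType (A ⧸ p) Q := Algebra.FiniteType.of_restrictScalars_finiteType A (A ⧸ p) Q
  let gQ : Q := Ideal.Quotient.mk N g
  let φ : Q →ₗ[A ⧸ p] Q := LinearMap.mulLeft (A ⧸ p) gQ
  have hreg : Function.Injective φ := by
    refine (injective_iff_map_eq_zero φ).mpr fun q hq => ?_
    obtain ⟨x, rfl⟩ := Ideal.Quotient.mk_surjective q
    change Ideal.Quotient.mk N g * Ideal.Quotient.mk N x = 0 at hq
    rw [← map_mul, Ideal.Quotient.eq_zero_iff_mem] at hq
    obtain ⟨n, hn⟩ := hq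
    exact Ideal.Quotient.eq_zero_iff_mem.mpr ⟨n + 1, by rw [pow_succ, mul_assoc]; exact hn⟩
  let K := FractionRing (A ⧸ p)
  have hK : Function.Injective (φ.lTensor K) := Module.Flat.lTensor_preserves_injective_linearMap φ hreg
  obtain ⟨a₁, ha₁, hM⟩ := GenFree.exists_freeAt (A ⧸ p) (B := Q) Q
  obtain ⟨a₂, ha₂, hT⟩ := GenFree.exists_freeAt (A ⧸ p) (B := Q) (Q ⧸ (Ideal.span {gQ}))
  have hrange : (Submodule.restrictScalars (A ⧸ p) (Ideal.span {gQ})) = LinearMap.range φ := by
    ext q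
    simp only [Submodule.restrictScalars_mem, Ideal.mem_span_singleton', LinearMap.mem_range]
    exact exists_congr fun c => by rw [mul_comm]; rfl
  have hT' : GenFree.FreeAt a₂ (Q ⧸ LinearMap.range φ) := by
    obtain ⟨ι, e, h1, h2⟩ := hT
    let E : (Q ⧸ Ideal.span {gQ}) ≃ₗ[A ⧸ p] Q ⧸ LinearMap.range φ :=
      (Submodule.Quotient.restrictScalarsEquiv (A ⧸ p) (Ideal.span {gQ})).symm ≪≫ₗ Submodule.quotEquivOfEq _ _ hrange
    refine ⟨ι, fun i => E (e i), h1.map' E.toLinearMap E.ker, fun m => ?_⟩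
    obtain ⟨n, hn⟩ := h2 (E.symm m)
    refine ⟨n, ?_⟩
    have := Submodule.mem_map_of_mem (f := E.toLinearMap) hn
    rw [Submodule.map_span, ← Set.range_comp, map_smul] at this
    simpa [Function.comp_def] using this
  obtain ⟨a, ha⟩ := Ideal.Quotient.mk_surjective (a₁ * a₂)
  refine ⟨a, fun hap => mul_ne_zero ha₁ ha₂ (ha ▸ Ideal.Quotient.eq_zero_iff_mem.mpr hap), N, ?_, ?_⟩
  · intro (P : PrimeSpectrum B) hPT hPE
    obtain ⟨hJP, hgP⟩ := mem_piece.mp hPE
    obtain ⟨hpP, -⟩ := mem_stratum.mp hPT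
    refine (PrimeSpectrum.mem_zeroLocus (R := B) P _).mpr ?_
    rintro x ⟨n, hn⟩
    have hle : J' ≤ P.asIdeal := sup_le hJP (Ideal.map_le_iff_le_comap.mpr hpP)
    exact (P.2.mem_or_mem (hle hn)).resolve_left fun h => hgP (P.2.mem_of_pow_mem n h)
  · intro (P : PrimeSpectrum B) hPC hPT hmax
    replace hPC := (PrimeSpectrum.mem_zeroLocus (R := B) P _).mp hPC
    obtain ⟨hpP, haP⟩ : p ≤ P.asIdeal.comap (algebraMap A B) ∧ a ∉ P.asIdeal.comap (algebraMap A B) :=
      mem_stratum.mp hPT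
    refine mem_piece.mpr ⟨(le_sup_left.trans hJN).trans hPC, fun hgP => ?_⟩
    let p' := P.asIdeal.comap (algebraMap A B)
    let J'' : Ideal B := N ⊔ p'.map (algebraMap A B)
    have hJP : J'' ≤ P.asIdeal := sup_le hPC (Ideal.map_comap_le)
    have hmin : P.asIdeal ∈ J''.minimalPrimes := by
      refine ⟨⟨P.2, hJP⟩, fun q hq hqP => ?_⟩
      haveI := hq.1
      have hqp : q.comap (algebraMap A B) = p' :=
        le_antisymm (Ideal.comap_mono hqP) (Ideal.map_le_iff_le_comap.mp (le_sup_right.trans hq.2))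
      have := hmax ⟨q, hq.1⟩ ((PrimeSpectrum.mem_zeroLocus _ _).mpr fun x hx => hq.2 (Ideal.mem_sup_left hx))
        ((specializes_iff_le _ _).mpr hqP) (PrimeSpectrum.ext hqp)
      rw [← this]
    obtain ⟨s, hs, n, hn⟩ : ∃ s, s ∉ P.asIdeal ∧ ∃ n : ℕ, g ^ n * s ∈ J'' := by
      haveI := P.2
      have hgrad : algebraMap B (Localization.AtPrime P.asIdeal) g ∈
          (J''.map (algebraMap B (Localization.AtPrime P.asIdeal))).radical := by
        rw [IsLocalization.AtPrime.radical_map_of_mem_minimalPrimes (Localization.AtPrime P.asIdeal) P.asIdeal J'' hmin]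
        exact Ideal.mem_map_of_mem _ hgP
      obtain ⟨n, hn⟩ := hgrad
      rw [← map_pow, IsLocalization.algebraMap_mem_map_algebraMap_iff P.asIdeal.primeCompl] at hn
      obtain ⟨s, hs, hmem⟩ := hn
      exact ⟨s, hs, n, by rwa [mul_comm]⟩
    let L := P.asIdeal.ResidueField
    let χ : Q →+* L := Ideal.Quotient.lift N (algebraMap B L) fun x hx =>
      Ideal.algebraMap_residueField_eq_zero.mpr (hPC hx)
    letI : Algebra (A ⧸ p) L := (χ.comp ψ).toAlgebra
    have hL : algebraMap (A ⧸ p) L (a₁ * a₂) ≠ 0 := by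
      rw [← ha]
      show χ (ψ (Ideal.Quotient.mk p a)) ≠ 0
      exact fun h => haP (show algebraMap A B a ∈ P.asIdeal from Ideal.algebraMap_residueField_eq_zero.mp h)
    have hinj := GenericFibreSpread.injective_lTensor_of_freeAt K φ hK (hM.mul a₂)
      ((mul_comm a₂ a₁) ▸ hT'.mul a₁) L hL
    have hinjn : ∀ k : ℕ, Function.Injective ((φ ^ k).lTensor L) := fun k => by
      induction k with
      | zero => simp only [pow_zero, Module.End.one_eq_id, LinearMap.lTensor_id]; exact fun _ _ h => h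
      | succ k ih => rw [pow_succ, Module.End.mul_eq_comp, LinearMap.lTensor_comp]; exact ih.comp hinj
    have hφn : ∀ q, (φ ^ n) q = gQ ^ n * q := fun q => by
      rw [LinearMap.pow_mulLeft]; rfl
    obtain ⟨t, ht, b, hb, hsum⟩ := Submodule.mem_sup.mp hn
    have hz : (1 : L) ⊗ₜ[A ⧸ p] (Ideal.Quotient.mk N b) = 0 := by
      clear hsum
      induction hb using Submodule.span_induction with
      | mem x hx =>
        obtain ⟨c, hc, rfl⟩ := hx
        rw [show Ideal.Quotient.mk N (algebraMap A B c) = (Ideal.Quotient.mk p c) • (1 : Q) by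
          rw [Algebra.smul_def, mul_one]; rfl, TensorProduct.tmul_smul, TensorProduct.smul_tmul',
          Algebra.smul_def, show algebraMap (A ⧸ p) L (Ideal.Quotient.mk p c) = 0 from
            Ideal.algebraMap_residueField_eq_zero.mpr hc, zero_mul, TensorProduct.zero_tmul]
      | zero => rw [map_zero, TensorProduct.tmul_zero]
      | add x y _ _ hx hy => rw [map_add, TensorProduct.tmul_add, hx, hy, add_zero]
      | smul c x _ hx =>
        have := congrArg ((LinearMap.mulLeft (A ⧸ p) (Ideal.Quotient.mk N c)).lTensor L) hx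
        rw [LinearMap.lTensor_tmul, map_zero] at this
        rw [smul_eq_mul, map_mul]
        exact this
    have hkill : ((φ ^ n).lTensor L) ((1 : L) ⊗ₜ[A ⧸ p] Ideal.Quotient.mk N s) = 0 := by
      rw [LinearMap.lTensor_tmul, hφn, ← map_pow, ← map_mul, ← hsum, map_add,
        Ideal.Quotient.eq_zero_iff_mem.mpr ht, zero_add, hz]
    have hs0 := hinjn n (hkill.trans (map_zero _).symm)
    let χ' : L ⊗[A ⧸ p] Q →ₐ[A ⧸ p] L :=
      Algebra.TensorProduct.lift (AlgHom.id (A ⧸ p) L) ⟨χ, fun _ => rfl⟩ fun _ _ => Commute.all _ _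
    have := congrArg χ' hs0
    rw [map_zero, Algebra.TensorProduct.lift_tmul, map_one, one_mul] at this
    exact hs (Ideal.algebraMap_residueField_eq_zero.mp this)

/-- Over a Noetherian base finitely many ideals describe the closure in the fibres. -/
theorem exists_isFibHull_cover [IsNoetherianRing A] [Algebra.FiniteType A B] (g : B) (J : Ideal B) (I : Ideal A) :
    ∃ s : Finset (Ideal A × A × Ideal B),
      (∀ t ∈ s, IsFibHull (algSpec A B) (piece g J) (zeroLocus (t.2.2 : Set B)) (stratum t.1 t.2.1)) ∧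
      ∀ q : PrimeSpectrum A, I ≤ q.asIdeal → ∃ t ∈ s, q ∈ stratum t.1 t.2.1 := by
  classical
  induction I using WellFoundedGT.induction with
  | ind I ih =>
  by_cases hI : I = ⊤
  · exact ⟨∅, by simp, fun q hq => absurd (top_le_iff.mp (hI ▸ hq)) q.2.ne_top⟩
  by_cases hp : I.IsPrime
  · obtain ⟨a, ha, N, hN⟩ := exists_isFibHull_prime (B := B) g J I
    obtain ⟨s, hs, hcov⟩ := ih (I ⊔ Ideal.span {a}) (left_lt_sup.mpr fun h =>
      ha (h (Ideal.mem_span_singleton_self a)))
    refine ⟨insert (I, a, N) s, fun t ht => ?_, fun q hq => ?_⟩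
    · rcases Finset.mem_insert.mp ht with rfl | ht
      exacts [hN, hs t ht]
    · by_cases haq : a ∈ q.asIdeal
      · obtain ⟨t, ht, htq⟩ := hcov q (sup_le hq (by rwa [Ideal.span_singleton_le_iff_mem]))
        exact ⟨t, Finset.mem_insert_of_mem ht, htq⟩
      · exact ⟨_, Finset.mem_insert_self _ _, mem_stratum.mpr ⟨hq, haq⟩⟩
  · obtain ⟨x, hx, y, hy, hxy⟩ := (Ideal.not_isPrime_iff.mp hp).resolve_left hI
    obtain ⟨s, hs, hcov⟩ := ih (I ⊔ Ideal.span {x}) (left_lt_sup.mpr fun h =>
      hx (h (Ideal.mem_span_singleton_self x)))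
    obtain ⟨s', hs', hcov'⟩ := ih (I ⊔ Ideal.span {y}) (left_lt_sup.mpr fun h =>
      hy (h (Ideal.mem_span_singleton_self y)))
    refine ⟨s ∪ s', fun t ht => ?_, fun q hq => ?_⟩
    · rcases Finset.mem_union.mp ht with ht | ht
      exacts [hs t ht, hs' t ht]
    · rcases q.2.mem_or_mem (hq hxy) with h | h
      · obtain ⟨t, ht, htq⟩ := hcov q (sup_le hq (by rwa [Ideal.span_singleton_le_iff_mem]))
        exact ⟨t, Finset.mem_union_left _ ht, htq⟩
      · obtain ⟨t, ht, htq⟩ := hcov' q (sup_le hq (by rwa [Ideal.span_singleton_le_iff_mem]))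
        exact ⟨t, Finset.mem_union_right _ ht, htq⟩

theorem isLocallyConstructible_stratum (I : Ideal A) (hI : I.FG) (a : A) :
    IsLocallyConstructible (X := PrimeSpectrum A) (stratum I a) := by
  obtain ⟨s, rfl⟩ := hI
  rw [stratum, PrimeSpectrum.zeroLocus_span]
  exact (((isRetrocompact_zeroLocus_compl s.finite_toSet).isConstructible
    (isClosed_zeroLocus _).isOpen_compl).of_compl.inter
    ((isRetrocompact_zeroLocus_compl (Set.finite_singleton a)).isConstructible
      (isClosed_zeroLocus _).isOpen_compl)).isLocallyConstructible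

theorem isLocallyConstructible_zeroLocus {N : Ideal B} (hN : N.FG) :
    IsLocallyConstructible (zeroLocus (N : Set B)) := by
  obtain ⟨s, rfl⟩ := hN
  rw [PrimeSpectrum.zeroLocus_span]
  exact (((isRetrocompact_zeroLocus_compl s.finite_toSet).isConstructible
    (isClosed_zeroLocus _).isOpen_compl).of_compl).isLocallyConstructible

attribute [local instance] MvPolynomial.algebraMvPolynomial in
theorem isLocallyConstructible_genLocus_piece (R : Type u) [CommRing R] (n : ℕ)
    (g : MvPolynomial (Fin n) R) (J : Finset (MvPolynomial (Fin n) R)) (r : ℕ) :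
    IsLocallyConstructible (genLocus (algSpec R (MvPolynomial (Fin n) R)) (piece g (Ideal.span J)) r) := by
  classical
  let polys := insert g J
  let R0 : Subalgebra ℤ R := Algebra.adjoin ℤ ((polys.biUnion fun p => p.coeffs : Finset R) : Set R)
  haveI : Algebra.FiniteType ℤ R0 := (Subalgebra.fg_iff_finiteType _).1 ⟨_, rfl⟩
  haveI : IsNoetherianRing R0 := Algebra.FiniteType.isNoetherianRing ℤ R0
  let B0 := MvPolynomial (Fin n) R0
  let B := MvPolynomial (Fin n) R
  let m : B0 →+* B := algebraMap _ _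
  have hm : ∀ p ∈ polys, ∃ p₀ : B0, m p₀ = p := fun p hp => by
    show p ∈ Set.range (MvPolynomial.map (algebraMap R0 R))
    rw [MvPolynomial.mem_range_map_iff_coeffs_subset]
    intro c hc
    exact ⟨⟨c, Algebra.subset_adjoin (Finset.mem_coe.2 (Finset.mem_biUnion.2 ⟨p, hp, hc⟩))⟩, rfl⟩
  choose lift hlift using hm
  let g₀ := lift g (Finset.mem_insert_self _ _)
  let J₀ : Ideal B0 := Ideal.span (Set.range fun j : J => lift j.1 (Finset.mem_insert_of_mem j.2))
  have hJ : J₀.map m = Ideal.span (J : Set B) := by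
    rw [Ideal.map_span, ← Set.range_comp]
    congr 1
    ext p
    constructor
    · rintro ⟨j, rfl⟩
      rw [Function.comp_apply, hlift]
      exact j.2
    · intro hp
      exact ⟨⟨p, hp⟩, hlift _ _⟩
  have hsq : IsPullback (Spec.map (CommRingCat.ofHom m)) (algSpec R B) (algSpec R0 B0) (algSpec R0 R) :=
    (isPullback_SpecMap_of_isPushout _ _ _ _
      (CommRingCat.isPushout_of_isPushout R0 R B0 B)).flip
  obtain ⟨s, hs, hcov⟩ := exists_isFibHull_cover (A := R0) g₀ J₀ ⊥
  haveI : LocallyOfFinitePresentation (algSpec R B) :=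
    (HasRingHomProperty.Spec_iff (P := @LocallyOfFinitePresentation)).mpr
      (RingHom.finitePresentation_algebraMap.mpr inferInstance)
  have hpre : ∀ (N : Ideal B0), Spec.map (CommRingCat.ofHom m) ⁻¹' zeroLocus (N : Set B0) =
      zeroLocus ((N.map m : Ideal B) : Set B) := fun N => by
    rw [Ideal.map, PrimeSpectrum.zeroLocus_span]
    exact PrimeSpectrum.preimage_comap_zeroLocus m (N : Set B0)
  have hpiece : Spec.map (CommRingCat.ofHom m) ⁻¹' piece g₀ J₀ = piece g (Ideal.span J) := by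
    refine Set.preimage_inter.trans ?_
    rw [hpre, hJ]
    refine congrArg (zeroLocus ((Ideal.span (J : Set B) : Ideal B) : Set B) ∩ ·) (congrArg compl ?_)
    refine (PrimeSpectrum.preimage_comap_zeroLocus m {g₀}).trans ?_
    rw [Set.image_singleton, hlift]
  have huniv : genLocus (algSpec R B) (piece g (Ideal.span J)) r = ⋃ t ∈ (s : Set (Ideal R0 × R0 × Ideal B0)),
      genLocus (algSpec R B) (piece g (Ideal.span J)) r ∩ algSpec R B ⁻¹' (algSpec R0 R ⁻¹' stratum t.1 t.2.1) := by
    refine subset_antisymm (fun x hx => ?_) (Set.iUnion₂_subset fun _ _ => Set.inter_subset_left)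
    obtain ⟨t, ht, htq⟩ := hcov (algSpec R0 R (algSpec R B x)) bot_le
    exact Set.mem_iUnion₂.mpr ⟨t, ht, hx, htq⟩
  rw [huniv]
  refine IsLocallyConstructible.biUnion s.finite_toSet fun t ht => ?_
  have hH := isFibHull_bc hsq (hs t ht)
  rw [hpiece, hpre] at hH
  rw [genLocus_inter_eq _ hH r]
  have hfg : ((t.2.2.map m : Ideal B)).FG := Ideal.FG.map (IsNoetherian.noetherian t.2.2) m
  exact (isLocallyConstructible_compl (isLocallyConstructible_forall_fdim_lt _ (isClosed_zeroLocus _)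
    (isLocallyConstructible_zeroLocus hfg) r)).inter
      (ProConsLib.isLocallyConstructible_preimage _ (ProConsLib.isLocallyConstructible_preimage _
        (isLocallyConstructible_stratum t.1 (IsNoetherian.noetherian _) t.2.1)))

theorem isLocallyConstructible_genLocus_mvPolynomial (R : Type u) [CommRing R] (n : ℕ)
    {E : Set (PrimeSpectrum (MvPolynomial (Fin n) R))} (hE : IsConstructible E) (r : ℕ) :
    IsLocallyConstructible (genLocus (algSpec R (MvPolynomial (Fin n) R)) E r) := by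
  classical
  obtain ⟨S, rfl⟩ := exists_constructibleSetData_iff.2 hE
  have h : genLocus (algSpec R (MvPolynomial (Fin n) R)) (ConstructibleSetData.toSet S) r =
      ⋃ C ∈ (S : Set (BasicConstructibleSetData (MvPolynomial (Fin n) R))), genLocus (algSpec R (MvPolynomial (Fin n) R))
        (piece C.f (Ideal.span ((Finset.univ.image C.g : Finset _) : Set _))) r := by
    ext x
    simp only [genLocus, Set.mem_setOf_eq, Set.mem_iUnion, exists_prop, Finset.mem_coe]
    have key : ∀ C : BasicConstructibleSetData (MvPolynomial (Fin n) R),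
        C.toSet = piece C.f (Ideal.span ((Finset.univ.image C.g : Finset _) : Set _)) := fun C => by
      rw [BasicConstructibleSetData.toSet, piece, PrimeSpectrum.zeroLocus_span, Finset.coe_image, Finset.coe_univ,
        Set.image_univ, Set.sdiff_eq]
    constructor
    · rintro ⟨z, hz, hrest⟩
      obtain ⟨C, hC, hzC⟩ := Set.mem_iUnion₂.mp hz
      exact ⟨C, hC, z, key C ▸ hzC, hrest⟩
    · rintro ⟨C, hC, z, hz, hrest⟩
      exact ⟨z, Set.mem_iUnion₂.mpr ⟨C, hC, (key C).symm ▸ hz⟩, hrest⟩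
  rw [h]
  exact IsLocallyConstructible.biUnion S.finite_toSet fun C _ => isLocallyConstructible_genLocus_piece R n _ _ r

end Algebra

theorem genLocus_closedImmersion {X' : Scheme.{u}} (i : X ⟶ X') [IsClosedImmersion i] (f : X' ⟶ Y)
    [LocallyOfFiniteType f] (E : Set X) (r : ℕ) :
    genLocus (i ≫ f) E r = i ⁻¹' genLocus f (i '' E) r := by
  ext x
  simp only [genLocus, Set.mem_preimage, Set.mem_setOf_eq, Set.exists_mem_image, Scheme.Hom.comp_apply,
    GeomUnib.fdim_comp_closedImmersion, i.isClosedEmbedding.isEmbedding.toIsInducing.specializes_iff]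

theorem genLocus_comp_openImmersion {W : Scheme.{u}} (j : W ⟶ X) [IsOpenImmersion j] (f : X ⟶ Y)
    [LocallyOfFiniteType f] (E : Set X) (r : ℕ) :
    genLocus (j ≫ f) (j ⁻¹' E) r = j ⁻¹' genLocus f E r := by
  ext x
  simp only [genLocus, Set.mem_preimage, Set.mem_setOf_eq, Scheme.Hom.comp_apply, fdim_comp_openImmersion]
  constructor
  · rintro ⟨z, hz, hzx, hf, hr⟩
    exact ⟨j z, hz, hzx.map j.continuous, hf, hr⟩
  · rintro ⟨z, hz, hzx, hf, hr⟩
    obtain ⟨z', rfl⟩ := hzx.mem_open j.isOpenEmbedding.isOpen_range ⟨x, rfl⟩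
    exact ⟨z', hz, j.isOpenEmbedding.isInducing.specializes_iff.1 hzx, hf, hr⟩

theorem fdim_comp_of_injective {Y' : Scheme.{u}} (g : X ⟶ Y') (i : Y' ⟶ Y) (hi : Function.Injective i) (a : X) :
    FibreDim.fdim (g ≫ i) a = FibreDim.fdim g a := by
  have h : (g ≫ i).base ⁻¹' {(g ≫ i).base a} = g.base ⁻¹' {g.base a} := by
    ext z
    exact hi.eq_iff
  rw [FibreDim.fdim, FibreDim.fdim, h]

/-- **Constructibility of the loci of generisations.** -/
theorem isLocallyConstructible_genLocus (f : X ⟶ Y) [LocallyOfFinitePresentation f] {E : Set X}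
    (hE : IsLocallyConstructible E) (r : ℕ) : IsLocallyConstructible (genLocus f E r) := by
  intro x
  obtain ⟨V, hV, hxV, -⟩ := exists_affine_le (⊤ : Y.Opens) (z := f x) trivial
  obtain ⟨W, hW, hxW, e⟩ := exists_affine_le (f ⁻¹ᵁ V) (z := x) hxV
  letI := (f.appLE V W e).hom.toAlgebra
  haveI : Algebra.FinitePresentation Γ(Y, V) Γ(X, W) :=
    HasRingHomProperty.appLE @LocallyOfFinitePresentation f inferInstance ⟨V, hV⟩ ⟨W, hW⟩ e
  refine ⟨W, W.2.mem_nhds hxW, W.2, ?_⟩
  obtain ⟨n, π, hπ, hker⟩ := Algebra.FinitePresentation.out (R := Γ(Y, V)) (A := Γ(X, W))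
  let P := MvPolynomial (Fin n) Γ(Y, V)
  let i := Spec.map (CommRingCat.ofHom π.toRingHom : CommRingCat.of P ⟶ Γ(X, W))
  haveI : IsClosedImmersion i := IsClosedImmersion.spec_of_surjective _ hπ
  have hfp : π.toRingHom.FinitePresentation := RingHom.FinitePresentation.of_surjective _ hπ hker
  haveI : LocallyOfFiniteType (algSpec Γ(Y, V) P) :=
    (HasRingHomProperty.Spec_iff (P := @LocallyOfFiniteType)).mpr (RingHom.finiteType_algebraMap.mpr inferInstance)
  have hfac : i ≫ algSpec Γ(Y, V) P ≫ hV.fromSpec = hW.fromSpec ≫ f := by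
    rw [← Category.assoc, ← IsAffineOpen.SpecMap_appLE_fromSpec f hV hW e, ← Spec.map_comp]
    congr 2
    ext r
    exact π.commutes r
  have hE' : IsConstructible (hW.fromSpec ⁻¹' E) :=
    (hE.preimage_of_isOpenEmbedding hW.fromSpec.isOpenEmbedding).isConstructible
  have himg : IsConstructible (i '' (hW.fromSpec ⁻¹' E)) := PrimeSpectrum.isConstructible_comap_image hfp hE'
  have hc : IsLocallyConstructible (hW.fromSpec ⁻¹' genLocus f E r) := by
    rw [← genLocus_comp_openImmersion, ← hfac, genLocus_closedImmersion]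
    refine ProConsLib.isLocallyConstructible_preimage _ ?_
    have key : genLocus (algSpec Γ(Y, V) P ≫ hV.fromSpec) (i '' (hW.fromSpec ⁻¹' E)) r =
        genLocus (algSpec Γ(Y, V) P) (i '' (hW.fromSpec ⁻¹' E)) r := by
      ext y
      simp only [genLocus, Set.mem_setOf_eq, Scheme.Hom.comp_apply, hV.fromSpec.isOpenEmbedding.injective.eq_iff,
        fdim_comp_of_injective _ _ hV.fromSpec.isOpenEmbedding.injective]
    rw [key]
    exact isLocallyConstructible_genLocus_mvPolynomial _ n himg r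
  have := hc.isConstructible.preimage_of_isOpenEmbedding hW.isoSpec.hom.isOpenEmbedding
  have key : ∀ s : Set X, hW.isoSpec.hom ⁻¹' (hW.fromSpec ⁻¹' s) = W.ι ⁻¹' s := fun s => by
    rw [← hW.isoSpec_hom_fromSpec]
    rfl
  exact key _ ▸ this

end Groth.FlatDescent.FibreDepth
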