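import Groth.Agent.FlatDescent.FibreDepth.LevelConstr
import Groth.Agent.FlatDescent.FibreDepth.Ring
import Groth.Agent.GrpSchField.ClosedImage

/-!
# Behaviour near the generic point of the base
-/

universe u

open CategoryTheory CategoryTheory.Limits AlgebraicGeometry Topology TopologicalSpace
open Groth.Agent

namespace Groth.FlatDescent.FibreDepth

variable {X Y : Scheme.{u}}

theorem exists_component_homeomorph {α β : Type*} [TopologicalSpace α] [TopologicalSpace β] (e : α ≃ₜ β)
    {T : Set β} (hT : T ∈ irreducibleComponents β) :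
    ∃ Z ∈ irreducibleComponents α, topologicalKrullDim ↥Z = topologicalKrullDim ↥T := by
  obtain ⟨t, ht⟩ := hT.1.1
  refine ⟨e ⁻¹' T, preimage_mem_irreducibleComponents hT e.isOpenEmbedding ⟨t, ht, e.surjective t⟩, ?_⟩
  rw [← FibreDim.dim_image e.isEmbedding (e ⁻¹' T), e.surjective.image_preimage]

theorem exists_isOpen_of_generic [IrreducibleSpace Y] [IsNoetherian Y] {A : Set Y} (hA : IsLocallyConstructible A)
    (h : genericPoint Y ∈ A) : ∃ U : Y.Opens, genericPoint Y ∈ U ∧ ∀ y ∈ U, y ∈ A := by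
  obtain ⟨O, h1, h2, h3⟩ := (GrpSchField.exists_open_of_mem_constructible hA.isConstructible _).1 h
  refine ⟨⟨O, h1⟩, h2, fun y hy => h3 ⟨hy, ?_⟩⟩
  rw [genericPoint_closure]
  trivial

/-- Near the generic point the fibres of an irreducible scheme are equidimensional of the generic dimension. -/
theorem exists_nhds_components_dim_eq (f : X ⟶ Y) [IsNoetherian Y] [IrreducibleSpace Y] [IrreducibleSpace X]
    [IsDominant f] [LocallyOfFinitePresentation f] [QuasiCompact f] :
    ∃ U : Y.Opens, genericPoint Y ∈ U ∧ ∀ s ∈ U, ∀ T ∈ irreducibleComponents ↥(⇑f ⁻¹' {s}),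
      topologicalKrullDim ↥T = topologicalKrullDim ↥(⇑f ⁻¹' {genericPoint Y}) := by
  let O := Coh.structureModule X
  have hO := isFP_structureModule X
  have hξ : f (genericPoint X) = genericPoint Y :=
    (((genericPoint_spec X).image f.continuous).eq ((genericPoint_spec Y) |> fun h => by
      rwa [Set.image_univ, f.denseRange.closure_range]))
  obtain ⟨c, hc⟩ := exists_fd f (genericPoint X)
  have hdim : topologicalKrullDim ↥(⇑f ⁻¹' {genericPoint Y}) = (c : WithBot ℕ∞) := by
    rw [← hc, FibreDim.fdim, hξ]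
    have h : closure ({genericPoint X} : Set X) = Set.univ := (genericPoint_spec X).def
    rw [h, Set.univ_inter]
  let T : ∀ y : Y, Set ↥(f.fiber y) := fun y => {v : ↥(f.fiber y) | Nontrivial (fibN f O v)}
  have hTuniv : ∀ y, T y = Set.univ := fun y => Set.eq_univ_of_forall fun v =>
    (nontrivial_fibN_iff f O hO v).mpr (mem_Sp_structureModule _)
  have hA := isLocallyConstructible_componentDims f O hO {c} T (fun _ => rfl)
  have hmem : ∀ s : Y, ∀ Z ∈ irreducibleComponents ↥(T s), ∀ a, topologicalKrullDim ↥Z = a →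
      ∃ η : f.fiber s, (∀ η', η' ⤳ η → η' = η) ∧ FibreDim.fdim f (f.fiberι s η) = a := by
    intro s Z hZ a ha
    have hcl : IsClosed (T s) := by rw [hTuniv]; exact isClosed_univ
    obtain ⟨η, -, hmin, hd⟩ := (exists_component_dim_iff hcl a).mp ⟨Z, hZ, ha⟩
    exact ⟨η, fun η' h => hmin η' (by rw [hTuniv]; trivial) h, (dim_closure_fibre f η).symm.trans hd⟩
  have hη : genericPoint Y ∈ {y : Y | (fun Z : Set ↥(T y) => topologicalKrullDim ↥Z) '' irreducibleComponents ↥(T y) =
      (fun n : ℕ => (n : WithBot ℕ∞)) '' (({c} : Finset ℕ) : Set ℕ)} := by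
    obtain ⟨v, hv⟩ : genericPoint X ∈ Set.range (f.fiberι (genericPoint Y)) :=
      (f.range_fiberι _).ge hξ
    have hgen : ∀ w : f.fiber (genericPoint Y), v ⤳ w := fun w =>
      (fiberι_specializes f).mp (hv.symm ▸ (genericPoint_spec X).specializes trivial)
    ext a
    simp only [Finset.coe_singleton, Set.image_singleton, Set.mem_singleton_iff]
    constructor
    · rintro ⟨Z, hZ, rfl⟩
      obtain ⟨η, hmin, hd⟩ := hmem _ Z hZ _ rfl
      obtain rfl := hmin v (hgen η)
      show topologicalKrullDim ↥Z = _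
      rw [← hd, hv, hc]
    · rintro rfl
      have hcl : IsClosed (T (genericPoint Y)) := by rw [hTuniv]; exact isClosed_univ
      obtain ⟨Z, hZ, hd⟩ := (exists_component_dim_iff hcl (c : WithBot ℕ∞)).mpr
        ⟨v, by rw [hTuniv]; trivial, fun η' _ h => (h.antisymm (hgen η')).eq,
          (dim_closure_fibre f v).trans (by rw [hv, hc])⟩
      exact ⟨Z, hZ, hd⟩
  obtain ⟨U, hU, hUA⟩ := exists_isOpen_of_generic hA hη
  refine ⟨U, hU, fun s hs C hC => ?_⟩
  let e : ↥(T s) ≃ₜ ↥(⇑f ⁻¹' {s}) :=
    ((Homeomorph.setCongr (hTuniv s)).trans (Homeomorph.Set.univ _)).trans (f.fiberHomeo s)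
  obtain ⟨Z, hZ, hd⟩ := exists_component_homeomorph e hC
  have h := (hUA s hs).le ⟨Z, hZ, rfl⟩
  simp only [Finset.coe_singleton, Set.image_singleton, Set.mem_singleton_iff] at h
  rw [← hd, hdim]
  exact h

end Groth.FlatDescent.FibreDepth
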