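import Groth.Agent.FlatDescent.FibreDepth.ImageConstr
import Groth.Agent.FlatDescent.FibreDepth.Components
import Groth.Agent.FlatDescent.FibreDepth.Apps
import Groth.Agent.AssSchLib.Basic

/-!
# Constructibility of the sets of dimensions of associated points and components of the fibres
-/

universe u

open CategoryTheory CategoryTheory.Limits AlgebraicGeometry Topology TopologicalSpace
open Groth.Agent

namespace Groth.FlatDescent.FibreDepth

variable {X Y : Scheme.{u}}

/-- Level sets of a locally bounded family of finite sets of dimensions. -/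
theorem isLocallyConstructible_level {E : Y → Set (WithBot ℕ∞)}
    (h : ∀ r : ℕ, IsLocallyConstructible {y : Y | (r : WithBot ℕ∞) ∈ E y})
    (hb : ∀ y, ∃ (V : Y.Opens) (N : ℕ), y ∈ V ∧ ∀ y' ∈ V, ∀ a ∈ E y', ∃ r ≤ N, a = (r : WithBot ℕ∞))
    (Φ : Finset ℕ) :
    IsLocallyConstructible {y : Y | E y = (fun n : ℕ => (n : WithBot ℕ∞)) '' (Φ : Set ℕ)} := by
  refine isLocallyConstructible_congr fun y => ?_
  obtain ⟨V, N, hy, hV⟩ := hb y
  by_cases hΦ : ∀ r ∈ Φ, r ≤ N
  · refine ⟨V, V.2, hy, ⋂ r : Fin (N + 1), {y | ((r : ℕ) : WithBot ℕ∞) ∈ E y ↔ (r : ℕ) ∈ Φ},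
      IsLocallyConstructible.iInter fun r => ?_, ?_⟩
    · by_cases hr : (r : ℕ) ∈ Φ
      · simpa only [hr, iff_true] using h r
      · simp only [hr, iff_false]
        exact isLocallyConstructible_compl (h r)
    · ext y'
      simp only [Set.mem_inter_iff, Set.mem_iInter, Set.mem_setOf_eq]
      refine and_congr_right fun hy' => ⟨fun he r => ?_, fun hr => ?_⟩
      · rw [he]
        exact ⟨fun ⟨n, hn, e⟩ => Nat.cast_inj.mp e ▸ hn, fun hn => ⟨r, hn, rfl⟩⟩
      · ext a
        constructor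
        · intro ha
          obtain ⟨r, hrN, rfl⟩ := hV y' hy' a ha
          exact ⟨r, (hr ⟨r, by omega⟩).mp ha, rfl⟩
        · rintro ⟨r, hr', rfl⟩
          exact (hr ⟨r, Nat.lt_succ_of_le (hΦ r hr')⟩).mpr hr'
  · refine ⟨V, V.2, hy, ∅, IsLocallyConstructible.empty, ?_⟩
    rw [Set.inter_empty, Set.eq_empty_iff_forall_notMem]
    rintro y' ⟨hy', he⟩
    refine hΦ fun r hr => ?_
    obtain ⟨s, hs, e⟩ := hV y' hy' (r : WithBot ℕ∞) (he ▸ ⟨r, hr, rfl⟩)
    exact Nat.cast_inj.mp e ▸ hs

/-- A locally constructible condition given by finitely many of a family, locally on the base. -/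
theorem isLocallyConstructible_exists_bounded {B : ℕ → Set Y} (h : ∀ r, IsLocallyConstructible (B r))
    (hb : ∀ y, ∃ (V : Y.Opens) (N : ℕ), y ∈ V ∧ ∀ y' ∈ V, ∀ r, y' ∈ B r → r ≤ N) :
    IsLocallyConstructible (⋃ r, B r)ᶜ := by
  refine isLocallyConstructible_compl (isLocallyConstructible_congr fun y => ?_)
  obtain ⟨V, N, hy, hV⟩ := hb y
  refine ⟨V, V.2, hy, ⋃ r : Fin (N + 1), B r, IsLocallyConstructible.iUnion fun r => h r, ?_⟩
  ext y'
  simp only [Set.mem_inter_iff, Set.mem_iUnion]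
  exact and_congr_right fun hy' => ⟨fun ⟨r, hr⟩ => ⟨⟨r, Nat.lt_succ_of_le (hV y' hy' r hr)⟩, hr⟩,
    fun ⟨r, hr⟩ => ⟨r, hr⟩⟩

theorem le_bound_of_mem_imgDim {f : X ⟶ Y} [LocallyOfFiniteType f] {C : Set X} {r N : ℕ} {V : Y.Opens}
    (hV : ∀ z : X, f z ∈ V → ∀ c : ℕ, FibreDim.fdim f z = c → c ≤ N) {y : Y} (hy : y ∈ V)
    (h : y ∈ imgDim f C r) : r ≤ N := by
  obtain ⟨z, ⟨-, hz⟩, rfl⟩ := h
  obtain ⟨c, hc, -⟩ := FibreDim.exists_fdim f z
  change (r : WithBot ℕ∞) ≤ _ at hz
  rw [hc, Nat.cast_le] at hz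
  exact hz.trans (hV z hy c hc)

variable (f : X ⟶ Y) [LocallyOfFinitePresentation f] (F : X.Modules) (hF : CohB1.IsFP F)

include hF

theorem mem_imgDim_prof_iff (y : Y) (r : ℕ) : y ∈ imgDim f {x | prof f F x ≤ (r : WithBot ℕ∞)} r ↔
    ∃ z : X, f z = y ∧ pdepth f F z = 0 ∧ FibreDim.fdim f z = r := by
  constructor
  · rintro ⟨z, ⟨hp, hr⟩, hzy⟩
    change prof f F z ≤ _ at hp
    change (r : WithBot ℕ∞) ≤ _ at hr
    rcases nat_data f F hF z with ⟨-, -, h, -⟩ | ⟨-, D, d, c, -, hd, hc, -, h, -⟩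
    · rw [h] at hp
      exact absurd (WithBot.coe_le_coe.mp hp) (by simp)
    · rw [h, Nat.cast_le] at hp
      rw [hc, Nat.cast_le] at hr
      exact ⟨z, hzy, by rw [hd, show d = 0 by omega]; rfl, by rw [hc, show c = r by omega]⟩
  · rintro ⟨z, hzy, hd, hc⟩
    obtain ⟨-, D, c, -, hc', hp, -⟩ := depth_zero_data f F hF hd
    rw [hc'] at hc
    refine ⟨z, ⟨?_, ?_⟩, hzy⟩
    · show prof f F z ≤ _
      rw [hp, hc]
    · show (r : WithBot ℕ∞) ≤ _
      rw [hc', hc]

/-- The set of dimensions of the associated points of the fibres is locally constructible. -/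
theorem isLocallyConstructible_assDims [QuasiCompact f] (Φ : Finset ℕ) :
    IsLocallyConstructible {y : Y |
      (fun z : ↥(f.fiber y) => topologicalKrullDim ↥(closure ({z} : Set ↥(f.fiber y)))) ''
          AssSch.Ass ((Scheme.Modules.pullback (f.fiberι y)).obj F) =
        (fun n : ℕ => (n : WithBot ℕ∞)) '' (Φ : Set ℕ)} := by
  have key : ∀ (y : Y) (a : WithBot ℕ∞),
      a ∈ (fun z : ↥(f.fiber y) => topologicalKrullDim ↥(closure ({z} : Set ↥(f.fiber y)))) ''
          AssSch.Ass ((Scheme.Modules.pullback (f.fiberι y)).obj F) ↔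
        ∃ z : X, f z = y ∧ pdepth f F z = 0 ∧ FibreDim.fdim f z = a := by
    intro y a
    constructor
    · rintro ⟨v, hv, rfl⟩
      exact ⟨_, apply_fiberι f v, (mem_ass_iff f F hF v).mp hv, (dim_closure_fibre f v).symm⟩
    · rintro ⟨z, rfl, hd, rfl⟩
      refine ⟨f.asFiber z, (mem_ass_iff f F hF _).mpr (by rwa [f.fiberι_asFiber]), ?_⟩
      dsimp only
      rw [dim_closure_fibre, f.fiberι_asFiber]
  refine isLocallyConstructible_level (fun r => ?_) (fun y => ?_) Φ
  · convert isLocallyConstructible_imgDim f (isLocallyConstructible_prof_le f F hF r) r using 1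
    ext y
    exact (key y r).trans (mem_imgDim_prof_iff f F hF y r).symm
  · obtain ⟨V, N, hy, hV⟩ := exists_base_bound f F hF y
    refine ⟨V, N, hy, fun y' hy' a ha => ?_⟩
    obtain ⟨z, rfl, -, rfl⟩ := (key y' a).mp ha
    obtain ⟨c, hc⟩ := exists_fd f z
    exact ⟨c, hV z hy' c hc, hc⟩

/-- The set of dimensions of the components of the support of the fibres is locally constructible. -/
theorem isLocallyConstructible_componentDims [QuasiCompact f] (Φ : Finset ℕ) (T : ∀ y : Y, Set ↥(f.fiber y))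
    (hT : ∀ y, T y = {v : ↥(f.fiber y) | Nontrivial (fibN f F v)}) :
    IsLocallyConstructible {y : Y |
      (fun Z : Set ↥(T y) => topologicalKrullDim ↥Z) '' irreducibleComponents ↥(T y) =
        (fun n : ℕ => (n : WithBot ℕ∞)) '' (Φ : Set ℕ)} := by
  obtain rfl : T = fun y => {v : ↥(f.fiber y) | Nontrivial (fibN f F v)} := funext hT
  refine isLocallyConstructible_level (fun r => ?_) (fun y => ?_) Φ
  · convert f.isLocallyConstructible_image (?_ : IsLocallyConstructible (onDim f F r)) using 1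
    · ext y
      exact exists_component_iff f F hF y r
    · exact (isLocallyConstructible_Sp f F hF).inter ((isLocallyConstructible_le_prof f F hF r).inter
        (isLocallyConstructible_delta_le f F hF r))
  · obtain ⟨V, N, hy, hV⟩ := exists_base_bound f F hF y
    refine ⟨V, N, hy, fun y' hy' a ha => ?_⟩
    have hcl : IsClosed {v : ↥(f.fiber y') | Nontrivial (fibN f F v)} := by
      have h : {v : ↥(f.fiber y') | Nontrivial (fibN f F v)} = f.fiberι y' ⁻¹' Sp F := by
        ext v
        exact nontrivial_fibN_iff f F hF v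
      exact h ▸ (isClosed_Sp F hF).preimage (f.fiberι y').continuous
    obtain ⟨η, -, -, hd⟩ := (exists_component_dim_iff hcl a).mp ha
    obtain ⟨c, hc⟩ := exists_fd f (f.fiberι y' η)
    refine ⟨c, hV _ (by rw [apply_fiberι f η]; exact hy') c hc, ?_⟩
    rw [← hd, dim_closure_fibre, hc]

/-- The absence of embedded points in the fibres is locally constructible. -/
theorem isLocallyConstructible_noEmbedded [QuasiCompact f] :
    IsLocallyConstructible {y : Y | AssSch.NoEmbedded ((Scheme.Modules.pullback (f.fiberι y)).obj F)} := by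
  convert isLocallyConstructible_exists_bounded
    (B := fun r => imgDim f ({x | prof f F x ≤ (r : WithBot ℕ∞)} ∩ {x | delta f F x ≤ (r : WithBot ℕ∞)}ᶜ) r)
    (fun r => isLocallyConstructible_imgDim f ((isLocallyConstructible_prof_le f F hF r).inter
      (isLocallyConstructible_compl (isLocallyConstructible_delta_le f F hF r))) r) (fun y => ?_) using 1
  · ext y
    simp only [Set.mem_setOf_eq, Set.mem_compl_iff, Set.mem_iUnion, not_exists]
    constructor
    · intro hne r hr
      obtain ⟨z, ⟨⟨hp, hδ⟩, hcr⟩, hzy⟩ := hr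
      change ¬ delta f F z ≤ _ at hδ
      rcases nat_data f F hF z with ⟨-, -, h, -⟩ | ⟨hzS, D, d, c, -, hd0, hc0, -, hpz, -⟩
      · change prof f F z ≤ _ at hp
        rw [h] at hp
        exact absurd (WithBot.coe_le_coe.mp hp) (by simp)
      change prof f F z ≤ _ at hp
      change (r : WithBot ℕ∞) ≤ _ at hcr
      rw [hpz, Nat.cast_le] at hp
      rw [hc0, Nat.cast_le] at hcr
      obtain ⟨w, hwz, hfw, hwS, hw, hmin⟩ := exists_minimal_below f F hF hzS
      obtain ⟨η, rfl⟩ : w ∈ Set.range (f.fiberι y) := (f.range_fiberι y).ge (hfw.trans hzy)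
      obtain ⟨v, rfl⟩ : z ∈ Set.range (f.fiberι y) := (f.range_fiberι y).ge hzy
      have hη := (mem_ass_iff f F hF η).mpr (minimal_data f F hF hwS hmin).1
      have hv := (mem_ass_iff f F hF v).mpr (by rw [hd0, show d = 0 by omega]; rfl)
      obtain rfl := hne v hv η hη ((fiberι_specializes f).mp hwz)
      exact hδ (by rw [← hw, hc0, Nat.cast_le]; omega)
    · intro h v hv v' hv' hsp
      by_contra hne
      obtain ⟨hS, D, c, -, hc, hp, -⟩ := depth_zero_data f F hF ((mem_ass_iff f F hF v).mp hv)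
      obtain ⟨hS', -⟩ := depth_zero_data f F hF ((mem_ass_iff f F hF v').mp hv')
      have hf : f (f.fiberι y v') = f (f.fiberι y v) := (apply_fiberι f v').trans (apply_fiberι f v).symm
      have h1 := fdim_lt_of_ne f F hF ((fiberι_specializes f).mpr hsp) hf
        fun e => hne ((f.fiberι y).isEmbedding.injective e).symm
      have h2 := h1.trans_le (fdim_le_delta f F hF ((fiberι_specializes f).mpr hsp) hf hS')
      exact h c ⟨_, ⟨⟨hp.le, fun hle => (h2.trans_le hle).ne hc⟩, hc.ge⟩, apply_fiberι f v⟩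
  · obtain ⟨V, N, hy, hV⟩ := exists_base_bound f F hF y
    exact ⟨V, N, hy, fun y' hy' r hr => le_bound_of_mem_imgDim hV hy' hr⟩

end Groth.FlatDescent.FibreDepth
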