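import Groth.Agent.FlatDescent.FibreDepth.Open

/-!
# Openness of the loci of flat modules with good fibres
-/

universe u

open CategoryTheory CategoryTheory.Limits AlgebraicGeometry TopologicalSpace LocCoh
open Groth.Agent

namespace Groth.FlatDescent.FibreDepth

variable {X Y : Scheme.{u}}

theorem asFiber_fdim (f : X ⟶ Y) (x : X) :
    topologicalKrullDim ↥(closure ({f.asFiber x} : Set ↥(f.fiber (f x)))) = FibreDim.fdim f x := by
  rw [dim_closure_fibre, f.fiberι_asFiber]

theorem forall_fibre_gen_iff (f : X ⟶ Y) (x : X) (P : X → Prop) :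
    (∀ v : f.fiber (f x), f.asFiber x ∈ closure {v} → P (f.fiberι _ v)) ↔ ∀ z : X, z ⤳ x → f z = f x → P z := by
  constructor
  · intro h z hzx hf
    obtain ⟨v, rfl⟩ : z ∈ Set.range (f.fiberι (f x)) := by
      rw [Scheme.Hom.range_fiberι]
      exact hf
    refine h v (specializes_iff_mem_closure.mp ?_)
    rwa [← fiberι_specializes f, f.fiberι_asFiber]
  · intro h v hv
    refine h _ ?_ ?_
    · have := (fiberι_specializes f).mpr (specializes_iff_mem_closure.mpr hv)
      rwa [f.fiberι_asFiber] at this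
    · have : f.fiberι (f x) v ∈ Set.range (f.fiberι (f x)) := ⟨v, rfl⟩
      rwa [Scheme.Hom.range_fiberι] at this

theorem apply_fiberι (f : X ⟶ Y) {y : Y} (v : f.fiber y) : f (f.fiberι y v) = y := by
  have : f.fiberι y v ∈ Set.range (f.fiberι y) := ⟨v, rfl⟩
  rwa [Scheme.Hom.range_fiberι] at this

/-- From the total space to the base, for a proper morphism. -/
theorem isOpen_forall_fibre (f : X ⟶ Y) [IsProper f] (P : (y : Y) → f.fiber y → Prop)
    (h : IsOpen {x : X | P (f x) (f.asFiber x)}) : IsOpen {y : Y | ∀ v : f.fiber y, P y v} := by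
  convert (f.isClosedMap _ h.isClosed_compl).isOpen_compl using 1
  ext y
  constructor
  · rintro hy ⟨x, hx, rfl⟩
    exact hx (hy _)
  · intro hy v
    refine fiber_cases f v (motive := P) ?_
    by_contra hc
    exact hy ⟨_, hc, apply_fiberι f v⟩

variable (f : X ⟶ Y) [LocallyOfFinitePresentation f] (F : X.Modules) (hF : CohB1.IsFP F)
  (hflat : FlatMod.IsFlatOver f F)

include hF

theorem psdm_le_pdepth_iff (x : X) :
    (Subsingleton (fibN f F (f.asFiber x)) ∨
      IsCohenMacaulayModule ((f.fiber (f x)).presheaf.stalk (f.asFiber x)) (fibN f F (f.asFiber x))) ↔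
      psdm f F x ≤ ((pdepth f F x : ℕ∞) : WithBot ℕ∞) + ((0 : ℕ) : WithBot ℕ∞) := by
  haveI := finite_fibN f F hF (f.asFiber x)
  haveI := isNoetherianRing_fibre_stalk f (f.asFiber x)
  rw [Nat.cast_zero, add_zero]
  rcases subsingleton_or_nontrivial (fibN f F (f.asFiber x)) with h | h
  · refine iff_of_true (Or.inl h) ?_
    show Module.supportDim _ _ ≤ _
    rw [Module.supportDim_eq_bot_of_subsingleton]
    exact bot_le
  · exact ⟨fun h' => (h'.resolve_left (not_subsingleton _)).le,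
      fun h' => Or.inr (DepthLib.isCohenMacaulayModule_iff.mpr h')⟩

include hflat

theorem isOpen_cm : IsOpen {x : X | Subsingleton (fibN f F (f.asFiber x)) ∨
      IsCohenMacaulayModule ((f.fiber (f x)).presheaf.stalk (f.asFiber x)) (fibN f F (f.asFiber x))} := by
  simp_rw [psdm_le_pdepth_iff f F hF]
  exact isOpen_coprof_le f F hF hflat 0

omit hflat in
theorem equidim_iff_of_skAt {k : ℕ} (hk : 1 ≤ k) {x : X} (hx : x ∈ SkAt f F k) :
    EGA4.IsEquidimModule ((f.fiber (f x)).presheaf.stalk (f.asFiber x)) (fibN f F (f.asFiber x)) ↔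
      ∀ z : X, z ⤳ x → f z = f x → pdepth f F z = 0 → FibreDim.fdim f z = delta f F x := by
  rw [isEquidim_iff f F hF]
  constructor
  · intro h z hzx hf hz
    obtain ⟨hzS, D, c, hD, hc, -, hδ⟩ := depth_zero_data f F hF hz
    have h1 := hx z hzx hf
    rw [hD, hz, show ((0 : ℕ∞) : WithBot ℕ∞) = ((0 : ℕ) : WithBot ℕ∞) from rfl,
      show min (k : WithBot ℕ∞) D = ((min k D : ℕ) : WithBot ℕ∞) from (Nat.mono_cast.map_min).symm, Nat.cast_le] at h1
    refine h z hzx hf hzS fun z' hz'z hf' hz'S => ?_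
    by_contra hne
    have h0 := (fdim_lt_of_ne f F hF hz'z (hf'.trans hf.symm) hne).trans_le
      (fdim_le_delta f F hF hz'z (hf'.trans hf.symm) hz'S)
    rw [hc, hδ, Nat.cast_lt] at h0
    omega
  · intro h z hzx hf hzS hmin
    obtain ⟨w, hwz, hfw, hwS, hw⟩ := exists_fdim_eq_delta f F hF hzS
    obtain rfl := hmin w hwz (hfw.trans hf) hwS
    rcases nat_data f F hF w with ⟨h', -⟩ | ⟨-, D, d, c, -, hd, hc, hdD, -, hδ⟩
    · exact absurd hwS h'
    rw [hc, hδ, Nat.cast_inj] at hw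
    exact h w hzx hf (by rw [hd, show d = 0 by omega]; rfl)

/-- **Openness of equidimensionality together with Serre's condition.** -/
theorem isOpen_equidim_sk {k : ℕ} (hk : 1 ≤ k) :
    IsOpen {x : X | EGA4.IsEquidimModule ((f.fiber (f x)).presheaf.stalk (f.asFiber x)) (fibN f F (f.asFiber x)) ∧
      HasSk k ((f.fiber (f x)).presheaf.stalk (f.asFiber x)) (fibN f F (f.asFiber x))} := by
  have hset : {x : X | EGA4.IsEquidimModule ((f.fiber (f x)).presheaf.stalk (f.asFiber x)) (fibN f F (f.asFiber x)) ∧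
      HasSk k ((f.fiber (f x)).presheaf.stalk (f.asFiber x)) (fibN f F (f.asFiber x))} = SkAt f F k ∩
      {x | ∀ z : X, z ⤳ x → f z = f x → pdepth f F z = 0 → FibreDim.fdim f z = delta f F x} := by
    ext x
    constructor
    · rintro ⟨h1, h2⟩
      exact ⟨(hasSk_iff f F hF k x).mp h2, (equidim_iff_of_skAt f F hF hk ((hasSk_iff f F hF k x).mp h2)).mp h1⟩
    · rintro ⟨h1, h2⟩
      exact ⟨(equidim_iff_of_skAt f F hF hk h1).mpr h2, (hasSk_iff f F hF k x).mpr h1⟩
  rw [hset]
  refine isOpen_iff_forall_mem_open.mpr fun x hx => ?_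
  obtain ⟨hx1, hx2⟩ := hx
  rcases nat_data f F hF x with ⟨hxS, -⟩ | ⟨hxS, D, e, c, -, -, -, -, -, hδ⟩
  · refine ⟨SkAt f F k ∩ (Sp F)ᶜ, fun y hy => ⟨hy.1, fun z hzy hf hz => ?_⟩,
      (isOpen_skAt f F hF hflat k).inter (isClosed_Sp F hF).isOpen_compl, hx1, hxS⟩
    exact absurd (hzy.mem_closed (isClosed_Sp F hF) (depth_zero_data f F hF hz).1) hy.2
  · refine ⟨SkAt f F k ∩ {y | delta f F y ≤ ((D + c : ℕ) : WithBot ℕ∞)} ∩ AssDimAt f F {D + c},
      fun y hy => ⟨hy.1.1, fun z hzy hf hz => ?_⟩, ((isOpen_skAt f F hF hflat k).inter (isOpen_delta_le f F hF _)).inter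
        (isOpen_assDimAt f F hF hflat _), ⟨hx1, hδ.le⟩, ?_⟩
    · obtain ⟨n, hn, hzn⟩ := hy.2 z hzy hf hz
      rw [Finset.mem_singleton] at hn
      subst hn
      obtain ⟨hzS, -⟩ := depth_zero_data f F hF hz
      obtain ⟨w, hwy, hfw, hwS, hw⟩ :=
        exists_fdim_eq_delta f F hF (hzy.mem_closed (isClosed_Sp F hF) hzS)
      rcases nat_data f F hF w with ⟨h, -⟩ | ⟨-, D', d', c', -, hd', hc', hdD', -, hδ'⟩
      · exact absurd hwS h
      have h1 := (prof_le_of_gen f F hF hwy hfw hwS).2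
      rw [← hw, hδ', hc', Nat.cast_le] at h1
      obtain ⟨n', hn', hwn⟩ := hy.2 w hwy hfw (by rw [hd', show d' = 0 by omega]; rfl)
      rw [Finset.mem_singleton] at hn'
      subst hn'
      rw [hzn, ← hw, hwn]
    · intro z hzx hf hz
      exact ⟨D + c, Finset.mem_singleton_self _, (hx2 z hzx hf hz).trans hδ⟩

end Groth.FlatDescent.FibreDepth
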