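import Groth.Agent.FlatDescent.FibreDepth.GenLocus
import Groth.Agent.FlatDescent.FibreDepth.GenericDims

/-!
# Maximal points of constructible subsets of the fibres
-/

universe u

open CategoryTheory CategoryTheory.Limits AlgebraicGeometry Topology TopologicalSpace
open Groth.Agent

namespace Groth.FlatDescent.FibreDepth

variable {X Y : Scheme.{u}} (f : X ⟶ Y) [LocallyOfFinitePresentation f]

/-- The maximal points of dimension `r` of a constructible set in the fibres, on the base. -/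
theorem mem_imgDim_genLocus_compl_iff {Z : Set X} (r : ℕ) (y : Y) :
    y ∈ imgDim f (Z ∩ (genLocus f Z (r + 1))ᶜ) r ↔
      ∃ z ∈ Z, f z = y ∧ FibreDim.fdim f z = r ∧ ∀ w ∈ Z, w ⤳ z → f w = f z → FibreDim.fdim f w ≤ r := by
  constructor
  · rintro ⟨z, ⟨⟨hzZ, hgen⟩, hr⟩, hzy⟩
    have key : ∀ w ∈ Z, w ⤳ z → f w = f z → FibreDim.fdim f w ≤ (r : WithBot ℕ∞) := by
      intro w hw hwz hf
      obtain ⟨c, hc⟩ := exists_fd f w
      rw [hc, Nat.cast_le]
      by_contra hlt
      exact hgen ⟨w, hw, hwz, hf, by rw [hc, Nat.cast_le]; omega⟩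
    exact ⟨z, hzZ, hzy, le_antisymm (key z hzZ specializes_rfl rfl) hr, key⟩
  · rintro ⟨z, hzZ, hzy, hr, key⟩
    refine ⟨z, ⟨⟨hzZ, ?_⟩, hr.ge⟩, hzy⟩
    rintro ⟨w, hw, hwz, hf, hle⟩
    have := hle.trans (key w hw hwz hf)
    rw [Nat.cast_le] at this
    omega

theorem isLocallyConstructible_maxPointDim [QuasiCompact f] {Z : Set X} (hZ : IsLocallyConstructible Z) (r : ℕ) :
    IsLocallyConstructible {y : Y | ∃ z ∈ Z, f z = y ∧ FibreDim.fdim f z = r ∧
      ∀ w ∈ Z, w ⤳ z → f w = f z → w = z} := by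
  convert isLocallyConstructible_imgDim f (hZ.inter (isLocallyConstructible_compl
    (isLocallyConstructible_genLocus f hZ (r + 1)))) r using 1
  ext y
  refine Iff.trans ?_ (mem_imgDim_genLocus_compl_iff f r y).symm
  refine exists_congr fun z => and_congr_right fun hz => and_congr_right fun _ => and_congr_right fun hr =>
    ⟨fun h w hw hwz hf => (h w hw hwz hf) ▸ hr.le, fun h w hw hwz hf => ?_⟩
  by_contra hne
  exact (fdim_lt_of_ne f _ (isFP_structureModule X) hwz hf hne).not_ge ((h w hw hwz hf).trans hr.ge)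

/-- Components of a locally closed subset of a fibre and their dimensions. -/
theorem exists_component_fibre_loc_iff {s : Y} {T : Set ↥(f.fiber s)} (hT : IsLocallyClosed T) (a : WithBot ℕ∞) :
    (∃ C ∈ irreducibleComponents ↥T, topologicalKrullDim ↥C = a) ↔
      ∃ η ∈ T, (∀ η' ∈ T, η' ⤳ η → η' = η) ∧ FibreDim.fdim f (f.fiberι s η) = a := by
  obtain ⟨U, C, hU, hC, rfl⟩ := hT
  let W : (f.fiber s).Opens := ⟨U, hU⟩
  haveI : LocallyOfFiniteType (f.fiberToSpecResidueField s) :=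
    MorphismProperty.pullback_snd _ _ (inferInstance : LocallyOfFiniteType f)
  have hpt : ∀ {Z : Scheme.{u}} (g : Z ⟶ Spec (Y.residueField s)) (z : Z),
      topologicalKrullDim ↥(closure ({z} : Set Z)) = FibreDim.fdim g z := by
    intro Z g z
    rw [FibreDim.fdim]
    have h : g.base ⁻¹' {g.base z} = Set.univ := Set.eq_univ_of_forall fun w =>
      (Subsingleton.elim (g.base w) (g.base z) :)
    rw [h, Set.inter_univ]
  have hdim : ∀ w : W, topologicalKrullDim ↥(closure ({w} : Set W)) = FibreDim.fdim f (f.fiberι s (W.ι w)) := by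
    intro w
    refine (hpt (W.ι ≫ f.fiberToSpecResidueField s) w).trans ?_
    rw [fdim_comp_openImmersion, ← hpt (f.fiberToSpecResidueField s) (W.ι w), dim_closure_fibre]
  have himg : W.ι '' (W.ι ⁻¹' C) = U ∩ C := by
    rw [Set.image_preimage_eq_inter_range, Scheme.Opens.range_ι, Set.inter_comm]
    rfl
  let e : ↥(W.ι ⁻¹' C) ≃ₜ ↥(U ∩ C) :=
    (W.ι.isOpenEmbedding.isEmbedding.homeomorphImage (W.ι ⁻¹' C)).trans (Homeomorph.setCongr himg)
  have hiff : (∃ D ∈ irreducibleComponents ↥(U ∩ C), topologicalKrullDim ↥D = a) ↔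
      ∃ D ∈ irreducibleComponents ↥(W.ι ⁻¹' C), topologicalKrullDim ↥D = a := by
    constructor
    · rintro ⟨D, hD, rfl⟩
      exact exists_component_homeomorph e hD
    · rintro ⟨D, hD, rfl⟩
      exact exists_component_homeomorph e.symm hD
  rw [hiff, exists_component_dim_iff (hC.preimage W.ι.continuous)]
  constructor
  · rintro ⟨w, hw, hmin, hd⟩
    refine ⟨W.ι w, himg ▸ Set.mem_image_of_mem _ hw, fun η' hη' hsp => ?_, (hdim w).symm.trans hd⟩
    obtain ⟨w', hw', rfl⟩ := himg.ge hη'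
    rw [hmin w' hw' (W.ι.isOpenEmbedding.isInducing.specializes_iff.1 hsp)]
  · rintro ⟨η, hη, hmin, hd⟩
    obtain ⟨w, hw, rfl⟩ := himg.ge hη
    exact ⟨w, hw, fun w' hw' hsp => W.ι.isOpenEmbedding.injective
      (hmin _ (himg.le (Set.mem_image_of_mem _ hw')) (hsp.map W.ι.continuous)), (hdim w).trans hd⟩

/-- The component dimensions of a constructible set with locally closed fibres. -/
theorem isLocallyConstructible_fibreComponentDims [QuasiCompact f] {Z : Set X} (hZ : IsLocallyConstructible Z)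
    (hZs : ∀ s : Y, IsLocallyClosed (Subtype.val ⁻¹' Z : Set ↥(⇑f ⁻¹' {s}))) (Φ : Set (WithBot ℕ∞)) :
    IsLocallyConstructible {s : Y | (fun T : Set ↥(Z ∩ ⇑f ⁻¹' {s}) => topologicalKrullDim ↥T) ''
      irreducibleComponents ↥(Z ∩ ⇑f ⁻¹' {s}) = Φ} := by
  classical
  let E : Y → Set (WithBot ℕ∞) := fun s => (fun T : Set ↥(Z ∩ ⇑f ⁻¹' {s}) => topologicalKrullDim ↥T) ''
    irreducibleComponents ↥(Z ∩ ⇑f ⁻¹' {s})
  show IsLocallyConstructible {s | E s = Φ}
  have key : ∀ s a, a ∈ E s ↔ ∃ z ∈ Z, f z = s ∧ FibreDim.fdim f z = a ∧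
      ∀ w ∈ Z, w ⤳ z → f w = f z → w = z := by
    intro s a
    have hTs : IsLocallyClosed (f.fiberι s ⁻¹' Z) := by
      have := (hZs s).preimage (f.fiberHomeo s).continuous
      exact this
    let e : ↥(f.fiberι s ⁻¹' Z) ≃ₜ ↥(Z ∩ ⇑f ⁻¹' {s}) :=
      ((f.fiberι s).isEmbedding.homeomorphImage (f.fiberι s ⁻¹' Z)).trans (Homeomorph.setCongr (by
        rw [Set.image_preimage_eq_inter_range, f.range_fiberι]))
    constructor
    · rintro ⟨T, hT, rfl⟩
      obtain ⟨D, hD, hd⟩ := exists_component_homeomorph e hT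
      obtain ⟨η, hη, hmin, hη'⟩ := (exists_component_fibre_loc_iff f hTs _).mp ⟨D, hD, hd⟩
      refine ⟨_, hη, apply_fiberι f η, hη', fun w hw hwz hfw => ?_⟩
      obtain ⟨v, rfl⟩ : w ∈ Set.range (f.fiberι s) := (f.range_fiberι s).ge (hfw.trans (apply_fiberι f η))
      rw [hmin v hw ((fiberι_specializes f).mp hwz)]
    · rintro ⟨z, hz, hzs, hd, hmax⟩
      obtain ⟨η, rfl⟩ : z ∈ Set.range (f.fiberι s) := (f.range_fiberι s).ge hzs
      obtain ⟨D, hD, hDd⟩ := (exists_component_fibre_loc_iff f hTs a).mpr ⟨η, hz, fun η' hη' hsp =>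
        (f.fiberι s).isEmbedding.injective (hmax _ hη' ((fiberι_specializes f).mpr hsp)
          ((apply_fiberι f η').trans hzs.symm)), hd⟩
      obtain ⟨T, hT, hTd⟩ := exists_component_homeomorph e.symm hD
      exact ⟨T, hT, hTd.trans hDd⟩
  have hbd : ∀ y, ∃ (V : Y.Opens) (N : ℕ), y ∈ V ∧ ∀ y' ∈ V, ∀ a ∈ E y', ∃ r ≤ N, a = (r : WithBot ℕ∞) := by
    intro y
    obtain ⟨V, N, hy, hV⟩ := exists_base_bound f _ (isFP_structureModule X) y
    refine ⟨V, N, hy, fun y' hy' a ha => ?_⟩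
    obtain ⟨z, -, rfl, rfl, -⟩ := (key y' a).mp ha
    obtain ⟨c, hc⟩ := exists_fd f z
    exact ⟨c, hV z hy' c hc, hc⟩
  have hlc : ∀ r : ℕ, IsLocallyConstructible {y : Y | (r : WithBot ℕ∞) ∈ E y} := fun r => by
    convert isLocallyConstructible_maxPointDim f hZ r using 1
    ext y
    exact key y r
  by_cases hΦ : ∃ F : Finset ℕ, (fun n : ℕ => (n : WithBot ℕ∞)) '' (F : Set ℕ) = Φ
  · obtain ⟨F, rfl⟩ := hΦ
    exact isLocallyConstructible_level hlc hbd F
  · convert IsLocallyConstructible.empty (X := Y) using 1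
    refine Set.eq_empty_of_forall_notMem fun y (hy : E y = Φ) => hΦ ?_
    obtain ⟨V, N, hyV, hV⟩ := hbd y
    refine ⟨(Finset.range (N + 1)).filter fun n => (n : WithBot ℕ∞) ∈ Φ, Set.ext fun a => ⟨?_, fun ha => ?_⟩⟩
    · rintro ⟨n, hn, rfl⟩
      exact (Finset.mem_filter.mp hn).2
    · obtain ⟨r, hr, rfl⟩ := hV y hyV a (hy ▸ ha)
      exact ⟨r, Finset.mem_filter.mpr ⟨Finset.mem_range.mpr (by omega), ha⟩, rfl⟩

end Groth.FlatDescent.FibreDepth
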