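import Groth.Agent.FlatDescent.FibreDepth.Points
import Groth.Agent.GeomUnib.FibreGen

/-!
# Semicontinuity of the invariants of flat modules on fibres
-/

universe u

open CategoryTheory CategoryTheory.Limits AlgebraicGeometry TopologicalSpace LocCoh
open Groth.Agent

namespace Groth.FlatDescent.FibreDepth

variable {X Y : Scheme.{u}}

theorem enat_cast_le {a b : ℕ} : ((a : ℕ∞) : WithBot ℕ∞) ≤ ((b : ℕ∞) : WithBot ℕ∞) ↔ a ≤ b := by
  exact WithBot.coe_le_coe.trans ENat.natCast_le_natCast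

theorem natCast_withBot (a : ℕ) : ((a : ℕ∞) : WithBot ℕ∞) = (a : WithBot ℕ∞) := rfl

/-- Chevalley semicontinuity for a closed subset. -/
theorem isOpen_forall_fdim_lt (f : X ⟶ Y) [LocallyOfFiniteType f] {Z : Set X} (hZ : IsClosed Z) (r : ℕ) :
    IsOpen {x : X | ∀ z ∈ Z, z ⤳ x → f z = f x → FibreDim.fdim f z < r} := by
  let I := Scheme.IdealSheafData.vanishingIdeal (⟨Z, hZ⟩ : Closeds X)
  let i := I.subschemeι
  have hr : Set.range i.base = Z := by rw [I.range_subschemeι]; rfl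
  cases r with
  | zero =>
    have h : {x : X | ∀ z ∈ Z, z ⤳ x → f z = f x → FibreDim.fdim f z < ((0 : ℕ) : WithBot ℕ∞)} = Zᶜ := by
      ext x
      constructor
      · intro h hx
        obtain ⟨d, hd⟩ := (FibreDim.exists_fdim f x).imp fun _ h => h.1
        have h2 := h x hx specializes_rfl rfl
        rw [hd] at h2
        exact Nat.not_lt_zero d (by exact_mod_cast h2)
      · exact fun hx z hz hzx _ => absurd (hzx.mem_closed hZ hz) hx
    rw [h]
    exact hZ.isOpen_compl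
  | succ r =>
    have h : {x : X | ∀ z ∈ Z, z ⤳ x → f z = f x → FibreDim.fdim f z < ((r + 1 : ℕ) : WithBot ℕ∞)} =
        (i '' {a | FlatMor.fibreDimAt (i ≫ f) a ≤ (r : WithBot ℕ∞)}ᶜ)ᶜ := by
      ext x
      constructor
      · rintro h ⟨a, ha, rfl⟩
        obtain ⟨m, hm, ⟨w, hw, hwa, hwm⟩, -⟩ := FibreDim.exists_fibreDimAt_eq (i ≫ f) a
        rw [GeomUnib.fdim_comp_closedImmersion] at hwm
        have hlt := h (i w) (hr.le ⟨w, rfl⟩) (hwa.map i.continuous) hw
        rw [hwm] at hlt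
        refine ha ?_
        show FlatMor.fibreDimAt (i ≫ f) a ≤ _
        rw [hm]
        have h3 : m < r + 1 := by exact_mod_cast hlt
        exact_mod_cast Nat.lt_succ_iff.mp h3
      · intro h z hz hzx hf
        have hxZ : x ∈ Z := hzx.mem_closed hZ hz
        obtain ⟨a, rfl⟩ : x ∈ Set.range i.base := hr.ge hxZ
        obtain ⟨w, rfl⟩ : z ∈ Set.range i.base := hr.ge hz
        have hwa : w ⤳ a := i.isClosedEmbedding.isEmbedding.toIsInducing.specializes_iff.1 hzx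
        have ha : FlatMor.fibreDimAt (i ≫ f) a ≤ (r : WithBot ℕ∞) := by_contra fun hc => h ⟨a, hc, rfl⟩
        obtain ⟨m, hm, -, hall⟩ := FibreDim.exists_fibreDimAt_eq (i ≫ f) a
        have h1 := hall w hf hwa
        rw [GeomUnib.fdim_comp_closedImmersion] at h1
        obtain ⟨d, hd⟩ := (FibreDim.exists_fdim f (i w)).imp fun _ h => h.1
        change FibreDim.fdim f (i w) < _
        rw [hm] at ha
        change FibreDim.fdim f (i w) ≤ _ at h1
        rw [hd] at h1 ⊢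
        have h4 : d ≤ m := by exact_mod_cast h1
        have h5 : m ≤ r := by exact_mod_cast ha
        exact_mod_cast Nat.lt_succ_of_le (h4.trans h5)
    rw [h]
    exact (i.isClosedEmbedding.isClosedMap _ (FibreSemi.isOpen_le (i ≫ f) _).isClosed_compl).isOpen_compl

variable (f : X ⟶ Y) [LocallyOfFinitePresentation f] (F : X.Modules) (hF : CohB1.IsFP F)

include hF

theorem isClosed_Sp : IsClosed (Sp F) := by
  haveI : F.IsQuasicoherent := inferInstance
  refine isOpen_compl_iff.mp (isOpen_iff_forall_mem_open.mpr fun x hx => ?_)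
  obtain ⟨V, hxV, hV⟩ := QCohLib.exists_nhds_subsingleton_stalk (M := F) inferInstance x
    (not_nontrivial_iff_subsingleton.mp hx)
  exact ⟨V, fun y hy hy' => (not_nontrivial_iff_subsingleton.mpr (hV y hy)) hy', V.2, hxV⟩

/-- The numbers at a point. -/
theorem nat_data (x : X) : (x ∉ Sp F ∧ psdm f F x = ⊥ ∧ prof f F x = ⊤ ∧ delta f F x = ⊥ ∧ pdepth f F x = ⊤) ∨
    (x ∈ Sp F ∧ ∃ D d c : ℕ, psdm f F x = D ∧ pdepth f F x = d ∧ FibreDim.fdim f x = c ∧ d ≤ D ∧
      prof f F x = ((d + c : ℕ) : WithBot ℕ∞) ∧ delta f F x = ((D + c : ℕ) : WithBot ℕ∞)) := by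
  obtain ⟨c, hc⟩ := exists_fd f x
  rcases psdm_cases f F hF x with ⟨hx, h1, h2⟩ | ⟨hx, D, d, h1, h2, h3⟩
  · refine Or.inl ⟨hx, h1, ?_, ?_, h2⟩
    · rw [prof, h2, hc]
      rfl
    · rw [delta, h1, hc]
      rfl
  · refine Or.inr ⟨hx, D, d, c, h1, h2, hc, h3, ?_, ?_⟩
    · rw [prof, h2, hc, Nat.cast_add]
      rfl
    · rw [delta, h1, hc, Nat.cast_add]

theorem isOpen_delta_le (d : ℕ) : IsOpen {x : X | delta f F x ≤ (d : WithBot ℕ∞)} := by
  convert isOpen_forall_fdim_lt f (isClosed_Sp F hF) (d + 1) using 1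
  ext x
  constructor
  · intro h z hz hzx hf
    have h1 := (fdim_le_delta f F hF hzx hf hz).trans h
    obtain ⟨c, hc⟩ := exists_fd f z
    rw [hc] at h1 ⊢
    have h2 : c ≤ d := by exact_mod_cast h1
    exact_mod_cast Nat.lt_succ_of_le h2
  · intro h
    show delta f F x ≤ _
    rcases nat_data f F hF x with ⟨hx, -, -, hδ, -⟩ | ⟨hx, D, e, c, -, -, -, -, -, hδ⟩
    · rw [hδ]
      exact bot_le
    · obtain ⟨z, hzx, hf, hz, hfd⟩ := exists_fdim_eq_delta f F hF hx
      have h1 := h z hz hzx hf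
      rw [hfd, hδ] at h1
      rw [hδ]
      have h2 : D + c < d + 1 := by exact_mod_cast h1
      exact_mod_cast Nat.lt_succ_iff.mp h2

theorem exists_delta_le (x : X) : ∃ d : ℕ, delta f F x ≤ (d : WithBot ℕ∞) := by
  rcases nat_data f F hF x with ⟨-, -, -, hδ, -⟩ | ⟨-, D, e, c, -, -, -, -, -, hδ⟩
  · exact ⟨0, hδ ▸ bot_le⟩
  · exact ⟨D + c, hδ.le⟩

variable (hflat : FlatMod.IsFlatOver f F)

include hflat

/-- **Upper semicontinuity of the codepth.** -/
theorem isOpen_coprof_le (k : ℕ) :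
    IsOpen {x : X | psdm f F x ≤ ((pdepth f F x : ℕ∞) : WithBot ℕ∞) + k} := by
  refine isOpen_iff_forall_mem_open.mpr fun x hx => ?_
  rcases nat_data f F hF x with ⟨hxS, -⟩ | ⟨hxS, D, d, c, hD, hd, hc, -, hp, hδ⟩
  · refine ⟨(Sp F)ᶜ, fun y hy => ?_, (isClosed_Sp F hF).isOpen_compl, hxS⟩
    rcases nat_data f F hF y with ⟨-, h, -⟩ | ⟨h, -⟩
    · show psdm f F y ≤ _; rw [h]; exact bot_le
    · exact absurd h hy
  · refine ⟨{y | delta f F y ≤ ((D + c : ℕ) : WithBot ℕ∞)} ∩ {y | ((D + c - k : ℕ) : WithBot ℕ∞) ≤ prof f F y},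
      fun y hy => ?_, (isOpen_delta_le f F hF _).inter (isOpen_le_prof f F hF hflat _), ?_, ?_⟩
    · rcases nat_data f F hF y with ⟨-, h, -⟩ | ⟨-, D', d', c', hD', hd', hc', -, hp', hδ'⟩
      · show psdm f F y ≤ _; rw [h]; exact bot_le
      · obtain ⟨h1, h2⟩ := hy
        simp only [Set.mem_setOf_eq, hδ', hp', Nat.cast_le] at h1 h2
        show psdm f F y ≤ _
        rw [hD', hd', natCast_withBot, ← Nat.cast_add, Nat.cast_le]
        omega
    · show delta f F x ≤ _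
      rw [hδ]
    · show _ ≤ prof f F x
      change psdm f F x ≤ _ at hx
      rw [hD, hd, natCast_withBot, ← Nat.cast_add, Nat.cast_le] at hx
      rw [hp, Nat.cast_le]
      omega

omit hflat in
theorem isClosed_prof_le (hflat : FlatMod.IsFlatOver f F) (r : ℕ) :
    IsClosed {x : X | prof f F x ≤ (r : WithBot ℕ∞)} := by
  have h : {x : X | prof f F x ≤ (r : WithBot ℕ∞)} = {x : X | ((r + 1 : ℕ) : WithBot ℕ∞) ≤ prof f F x}ᶜ := by
    ext x
    rcases nat_data f F hF x with ⟨-, -, hp, -⟩ | ⟨-, D, d, c, -, -, -, -, hp, -⟩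
    · simp only [Set.mem_setOf_eq, Set.mem_compl_iff, hp, le_top, not_true_eq_false, iff_false]
      intro h
      exact absurd (WithBot.coe_le_coe.mp h) (by simp)
    · simp only [Set.mem_setOf_eq, Set.mem_compl_iff, hp, Nat.cast_le]
      omega
  rw [h]
  exact (isOpen_le_prof f F hF hflat _).isClosed_compl

omit hflat in
theorem prof_le_of_gen {z x : X} (h : z ⤳ x) (hf : f z = f x) (hz : z ∈ Sp F) :
    prof f F z ≤ delta f F z ∧ delta f F z ≤ delta f F x := by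
  rcases nat_data f F hF z with ⟨hz', -⟩ | ⟨-, D, d, c, -, -, -, hdD, hp, hδ⟩
  · exact absurd hz hz'
  refine ⟨by rw [hp, hδ, Nat.cast_le]; omega, ?_⟩
  obtain ⟨w, hwz, hfw, hwS, hw⟩ := exists_fdim_eq_delta f F hF hz
  rw [← hw]
  exact fdim_le_delta f F hF (hwz.trans h) (hfw.trans hf) hwS

/-- Serre's condition at a point. -/
def SkAt (k : ℕ) : Set X :=
  {x | ∀ z : X, z ⤳ x → f z = f x → min (k : WithBot ℕ∞) (psdm f F z) ≤ ((pdepth f F z : ℕ∞) : WithBot ℕ∞)}

/-- **Openness of Serre's condition.** -/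
theorem isOpen_skAt (k : ℕ) : IsOpen (SkAt f F k) := by
  refine isOpen_iff_forall_mem_open.mpr fun x hx => ?_
  obtain ⟨d, hd⟩ := exists_delta_le f F hF x
  let Z : ℕ → Set X := fun r =>
    {z | prof f F z ≤ (r : WithBot ℕ∞)} ∩ {z | psdm f F z ≤ ((pdepth f F z : ℕ∞) : WithBot ℕ∞) + ((0 : ℕ) : WithBot ℕ∞)}ᶜ
  have hZ : ∀ r, IsClosed (Z r) := fun r =>
    (isClosed_prof_le f F hF hflat r).inter (isOpen_coprof_le f F hF hflat 0).isClosed_compl
  let U : Set X := {y | delta f F y ≤ (d : WithBot ℕ∞)} ∩ ⋂ r ∈ Set.Iic d,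
    {y | ∀ z ∈ Z r, z ⤳ y → f z = f y → FibreDim.fdim f z < ((r + 1 - k : ℕ) : WithBot ℕ∞)}
  refine ⟨U, fun y hy z hzy hf => ?_, (isOpen_delta_le f F hF d).inter
    ((Set.finite_Iic d).isOpen_biInter fun r _ => isOpen_forall_fdim_lt f (hZ r) _), hd, ?_⟩
  · rcases nat_data f F hF z with ⟨-, h, -, -, -⟩ | ⟨hzS, D, e, c, hD, he, hc, -, hp, -⟩
    · exact (min_le_right _ _).trans (h ▸ bot_le)
    obtain ⟨hy1, hy2⟩ := hy
    rw [hD, he, natCast_withBot, show min (k : WithBot ℕ∞) D = ((min k D : ℕ) : WithBot ℕ∞) from (Nat.mono_cast.map_min).symm, Nat.cast_le]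
    by_contra hlt
    have h1 := ((prof_le_of_gen f F hF hzy hf hzS).1.trans (prof_le_of_gen f F hF hzy hf hzS).2).trans hy1
    rw [hp, Nat.cast_le] at h1
    have h2 := Set.mem_iInter₂.mp hy2 (e + c) h1 z ⟨hp.le, fun hh => hlt ?_⟩ hzy hf
    · rw [hc, Nat.cast_lt] at h2
      omega
    · change psdm f F z ≤ _ at hh
      rw [hD, he, natCast_withBot, ← Nat.cast_add, Nat.cast_le] at hh
      omega
  · refine Set.mem_iInter₂.mpr fun r _ z hz hzx hf => ?_
    rcases nat_data f F hF z with ⟨-, h, -⟩ | ⟨-, D, e, c, hD, he, hc, -, hp, -⟩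
    · exact absurd (show psdm f F z ≤ _ by rw [h]; exact bot_le) hz.2
    have h1 := hx z hzx hf
    rw [hD, he, natCast_withBot, show min (k : WithBot ℕ∞) D = ((min k D : ℕ) : WithBot ℕ∞) from (Nat.mono_cast.map_min).symm, Nat.cast_le] at h1
    have h2 : e + c ≤ r := by
      have := hz.1
      change prof f F z ≤ _ at this
      rwa [hp, Nat.cast_le] at this
    have h3 : ¬ D ≤ e := fun hh => hz.2 (by
      show psdm f F z ≤ _
      rw [hD, he, natCast_withBot, ← Nat.cast_add, Nat.cast_le]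
      omega)
    rw [hc, Nat.cast_lt]
    omega

/-- Dimensions of associated points through a point. -/
def AssDimAt (Φ : Finset ℕ) : Set X :=
  {x | ∀ z : X, z ⤳ x → f z = f x → pdepth f F z = 0 → ∃ n ∈ Φ, FibreDim.fdim f z = (n : WithBot ℕ∞)}

omit hflat in
theorem depth_zero_data {z : X} (hz : pdepth f F z = 0) :
    z ∈ Sp F ∧ ∃ D c : ℕ, psdm f F z = D ∧ FibreDim.fdim f z = c ∧ prof f F z = (c : WithBot ℕ∞) ∧
      delta f F z = ((D + c : ℕ) : WithBot ℕ∞) := by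
  rcases nat_data f F hF z with ⟨-, -, -, -, h⟩ | ⟨hzS, D, e, c, hD, he, hc, -, hp, hδ⟩
  · rw [h] at hz
    exact absurd hz (by simp)
  · rw [he] at hz
    have : e = 0 := by exact_mod_cast hz
    exact ⟨hzS, D, c, hD, hc, by rw [hp, this, zero_add], hδ⟩

theorem isOpen_assDimAt (Φ : Finset ℕ) : IsOpen (AssDimAt f F Φ) := by
  refine isOpen_iff_forall_mem_open.mpr fun x hx => ?_
  obtain ⟨d, hd⟩ := exists_delta_le f F hF x
  let U : Set X := {y | delta f F y ≤ (d : WithBot ℕ∞)} ∩ ⋂ r ∈ {r | r ≤ d ∧ r ∉ Φ},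
    {y | ∀ z ∈ {z | prof f F z ≤ (r : WithBot ℕ∞)}, z ⤳ y → f z = f y → FibreDim.fdim f z < (r : WithBot ℕ∞)}
  refine ⟨U, fun y hy z hzy hf hz => ?_, (isOpen_delta_le f F hF d).inter
    (((Set.finite_Iic d).subset fun r hr => hr.1).isOpen_biInter fun r _ =>
      isOpen_forall_fdim_lt f (isClosed_prof_le f F hF hflat r) _), hd, ?_⟩
  · obtain ⟨hzS, D, c, -, hc, hp, -⟩ := depth_zero_data f F hF hz
    by_cases hcΦ : c ∈ Φ
    · exact ⟨c, hcΦ, hc⟩
    have h1 := ((prof_le_of_gen f F hF hzy hf hzS).1.trans (prof_le_of_gen f F hF hzy hf hzS).2).trans hy.1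
    rw [hp, Nat.cast_le] at h1
    have h2 := Set.mem_iInter₂.mp hy.2 c ⟨h1, hcΦ⟩ z hp.le hzy hf
    rw [hc] at h2
    exact absurd h2 (lt_irrefl _)
  · refine Set.mem_iInter₂.mpr fun r hr z hz hzx hf => ?_
    rcases nat_data f F hF z with ⟨-, -, h, -⟩ | ⟨-, D, e, c, -, he, hc, -, hp, -⟩
    · have hz' := hz
      change prof f F z ≤ _ at hz'
      rw [h] at hz'
      exact absurd (WithBot.coe_le_coe.mp hz') (by simp)
    change prof f F z ≤ _ at hz
    rw [hp, Nat.cast_le] at hz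
    rw [hc, Nat.cast_lt]
    by_contra hlt
    obtain ⟨n, hn, hn'⟩ := hx z hzx hf (by rw [he, show e = 0 by omega]; rfl)
    rw [hc, Nat.cast_inj] at hn'
    exact hr.2 ((show r = n by omega) ▸ hn)

/-- Points on no embedded associated cycle. -/
def NoEmbAt : Set X :=
  {x | ∀ z : X, z ⤳ x → f z = f x → pdepth f F z = 0 → ∀ z' : X, z' ⤳ z → f z' = f z → pdepth f F z' = 0 → z' = z}

theorem isOpen_noEmbAt : IsOpen (NoEmbAt f F) := by
  refine isOpen_iff_forall_mem_open.mpr fun x hx => ?_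
  obtain ⟨d, hd⟩ := exists_delta_le f F hF x
  let Z : ℕ → Set X := fun r =>
    {z | prof f F z ≤ (r : WithBot ℕ∞)} ∩ {z | delta f F z ≤ (r : WithBot ℕ∞)}ᶜ
  have hZ : ∀ r, IsClosed (Z r) := fun r =>
    (isClosed_prof_le f F hF hflat r).inter (isOpen_delta_le f F hF r).isClosed_compl
  let U : Set X := {y | delta f F y ≤ (d : WithBot ℕ∞)} ∩ ⋂ r ∈ Set.Iic d,
    {y | ∀ z ∈ Z r, z ⤳ y → f z = f y → FibreDim.fdim f z < (r : WithBot ℕ∞)}
  refine ⟨U, fun y hy z hzy hf hz z' hz'z hf' hz' => ?_, (isOpen_delta_le f F hF d).inter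
    ((Set.finite_Iic d).isOpen_biInter fun r _ => isOpen_forall_fdim_lt f (hZ r) _), hd, ?_⟩
  · obtain ⟨hzS, D, c, -, hc, hp, hδ⟩ := depth_zero_data f F hF hz
    by_contra hne
    obtain ⟨hz'S, -⟩ := depth_zero_data f F hF hz'
    have h0 := (fdim_lt_of_ne f F hF hz'z hf' hne).trans_le (fdim_le_delta f F hF hz'z hf' hz'S)
    rw [hc, hδ, Nat.cast_lt] at h0
    have h1 := ((prof_le_of_gen f F hF hzy hf hzS).1.trans (prof_le_of_gen f F hF hzy hf hzS).2).trans hy.1
    rw [hp, Nat.cast_le] at h1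
    have h2 := Set.mem_iInter₂.mp hy.2 c h1 z ⟨hp.le, fun hh => ?_⟩ hzy hf
    · rw [hc] at h2
      exact absurd h2 (lt_irrefl _)
    · change delta f F z ≤ _ at hh
      rw [hδ, Nat.cast_le] at hh
      omega
  · refine Set.mem_iInter₂.mpr fun r _ z hz hzx hf => ?_
    rcases nat_data f F hF z with ⟨-, -, -, h, -⟩ | ⟨hzS, D, e, c, -, he, hc, -, hp, hδ⟩
    · exact absurd (show delta f F z ≤ _ by rw [h]; exact bot_le) hz.2
    have hz1 := hz.1
    have hz2 := hz.2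
    change prof f F z ≤ _ at hz1
    change ¬ delta f F z ≤ _ at hz2
    rw [hp, Nat.cast_le] at hz1
    rw [hδ, Nat.cast_le] at hz2
    rw [hc, Nat.cast_lt]
    by_contra hlt
    obtain ⟨w, hwz, hfw, hwS, hw⟩ := exists_fdim_eq_delta f F hF hzS
    rcases nat_data f F hF w with ⟨h, -⟩ | ⟨-, D', e', c', -, he', hc', he'D, -, hδ'⟩
    · exact h hwS
    have h3 := (prof_le_of_gen f F hF hwz hfw hwS).2
    rw [hδ', ← hw, hc', Nat.cast_le] at h3
    have h4 := hx z hzx hf (by rw [he, show e = 0 by omega]; rfl) w hwz hfw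
      (by rw [he', show e' = 0 by omega]; rfl)
    subst h4
    rw [hc, hδ, Nat.cast_inj] at hw
    omega

end Groth.FlatDescent.FibreDepth
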