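import Groth.Agent.FlatDescent.FibreDepth.StratConstr
import Groth.Agent.FlatDescent.FibreDepth.Main
import Groth.Agent.FlatDescent.FibreDepth.Constr

/-!
# The rectified depth on the fibres is a locally constructible function
-/

universe u

open CategoryTheory CategoryTheory.Limits AlgebraicGeometry Topology LocCoh
open Groth.Agent

namespace Groth.FlatDescent.FibreDepth

/-- Constructible sets pull back along closed embeddings into spectra. -/
theorem isConstructible_preimage_closedEmbedding {T : Type*} [TopologicalSpace T] {R : Type u} [CommRing R]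
    {ι : T → PrimeSpectrum R} (hι : IsClosedEmbedding ι) {s : Set (PrimeSpectrum R)} (hs : IsConstructible s) :
    IsConstructible (ι ⁻¹' s) := by
  refine hs.preimage hι.continuous fun t hto ht V hV hVo => ?_
  obtain ⟨O, hO, rfl⟩ := hι.isEmbedding.toIsInducing.isOpen_iff.mp hVo
  obtain ⟨O', hO'c, hO'o, hle, hle'⟩ := PrespectralSpace.exists_isCompact_and_isOpen_between
    (hV.image hι.continuous) hO (Set.image_preimage_subset _ _)
  have h : ι ⁻¹' t ∩ ι ⁻¹' O = ι ⁻¹' (t ∩ O') := by
    ext z
    exact ⟨fun ⟨h1, h2⟩ => ⟨h1, hle ⟨z, h2, rfl⟩⟩, fun ⟨h1, h2⟩ => ⟨h1, hle' h2⟩⟩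
  rw [h]
  exact hι.isCompact_preimage (ht hO'c hO'o)

variable {X Y : Scheme.{u}} (f : X ⟶ Y) [LocallyOfFinitePresentation f] (F : X.Modules) (hF : CohB1.IsFP F)

include hF

theorem isLocallyConstructible_le_prof (m : ℕ) :
    IsLocallyConstructible {x : X | (m : WithBot ℕ∞) ≤ prof f F x} := by
  intro x
  obtain ⟨C, hxW⟩ := exists_chart f F hF x
  refine ⟨C.W, C.W.2.mem_nhds hxW, C.W.2, ?_⟩
  have hset : Subtype.val ⁻¹' {x : X | (m : WithBot ℕ∞) ≤ prof f F x} = C.ι ⁻¹' profLocus C.A C.n C.M m := by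
    ext w
    obtain ⟨h1, -⟩ := C.invariants (f.asFiber w.1) w (f.fiberι_asFiber w.1)
    simp only [Set.mem_preimage, Set.mem_setOf_eq, profLocus]
    rw [prof, pdepth, h1, C.fdim_eq w]
  have h := isConstructible_preimage_closedEmbedding C.emb (isConstructible_profLocus C.M m)
  exact hset ▸ h

theorem isLocallyConstructible_prof_eq (m : ℕ∞) :
    IsLocallyConstructible {x : X | prof f F x = ((m : ℕ∞) : WithBot ℕ∞)} := by
  induction m using ENat.recTopCoe with
  | top =>
    have hset : {x : X | prof f F x = ((⊤ : ℕ∞) : WithBot ℕ∞)} = (Sp F)ᶜ := by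
      ext x
      rcases nat_data f F hF x with ⟨hx, -, hp, -⟩ | ⟨hx, D, d, c, -, -, -, -, hp, -⟩
      · exact iff_of_true (by rw [Set.mem_setOf_eq, hp]; rfl) hx
      · refine iff_of_false ?_ (fun h => h hx)
        rw [Set.mem_setOf_eq, hp]
        intro h
        exact absurd (WithBot.coe_injective h) (ENat.coe_ne_top _)
    rw [hset]
    intro x
    obtain ⟨C, hxW⟩ := exists_chart f F hF x
    refine ⟨C.W, C.W.2.mem_nhds hxW, C.W.2, ?_⟩
    have hset' : Subtype.val ⁻¹' (Sp F)ᶜ = C.ι ⁻¹' (Module.support (MvPolynomial (Fin C.n) C.A) C.M)ᶜ := by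
      ext w
      exact not_congr (C.mem_supp w).symm
    exact hset' ▸ isConstructible_preimage_closedEmbedding C.emb (isConstructible_compl_support C.M)
  | coe m =>
    have hset : {x : X | prof f F x = (((m : ℕ) : ℕ∞) : WithBot ℕ∞)} =
        {x : X | (m : WithBot ℕ∞) ≤ prof f F x} ∩ {x : X | ((m + 1 : ℕ) : WithBot ℕ∞) ≤ prof f F x}ᶜ := by
      ext x
      rcases nat_data f F hF x with ⟨hx, -, hp, -⟩ | ⟨hx, D, d, c, -, -, -, -, hp, -⟩
      · simp only [Set.mem_setOf_eq, Set.mem_inter_iff, Set.mem_compl_iff, hp, le_top, not_true_eq_false, and_false,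
          iff_false]
        intro h
        exact absurd (WithBot.coe_injective h) (ENat.top_ne_coe _)
      · simp only [Set.mem_setOf_eq, Set.mem_inter_iff, Set.mem_compl_iff, hp, natCast_withBot, Nat.cast_le, Nat.cast_inj]
        omega
    rw [hset]
    exact (isLocallyConstructible_le_prof f F hF m).inter
      (isLocallyConstructible_compl (isLocallyConstructible_le_prof f F hF (m + 1)))

end Groth.FlatDescent.FibreDepth
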