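import Groth.Agent.FlatDescent.FibreDepth.Alg

/-!
# The local module on the fibre as a quotient of a localisation
-/

universe u

open TensorProduct
open Groth.Agent

namespace Groth.FlatDescent.FibreDepth

theorem exists_semilinear {A P O R M Fx N : Type u} [CommRing A] [CommRing P] [Algebra A P] [CommRing O] [CommRing R]
    [AddCommGroup M] [Module P M] [AddCommGroup Fx] [Module O Fx] [AddCommGroup N] [Module R N]
    (Q : PrimeSpectrum P) (ρ : P →+* O) (hunit : ∀ s ∉ Q.asIdeal, IsUnit (ρ s))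
    (hO : ∀ o : O, ∃ (p s : P), s ∉ Q.asIdeal ∧ ρ s * o = ρ p)
    (G : M →+ Fx) (hG : ∀ (p : P) (m : M), G (p • m) = ρ p • G m)
    (hsurj : ∀ z, ∃ (m : M) (s : P), s ∉ Q.asIdeal ∧ ρ s • z = G m)
    (hker : ∀ m, G m = 0 → ∃ s ∉ Q.asIdeal, s • m = 0)
    (I : Ideal O) (hI : I = ((Q.asIdeal.under A).map (algebraMap A P)).map ρ)
    (π : O →+* R) (hπ : Function.Surjective π) (e : (Fx ⧸ (I • ⊤ : Submodule O Fx)) ≃+ N)
    (he : ∀ a z, e (a • z) = π a • e z) :
    ∃ ψ : Localization.AtPrime Q.asIdeal →+* R, Function.Surjective ψ ∧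
      ∃ E : NQ A M Q ≃+ N, ∀ a z, E (a • z) = ψ a • E z := by
  let J := (Q.asIdeal.under A).map (algebraMap A P)
  let L := Localization.AtPrime Q.asIdeal
  let S := Q.asIdeal.primeCompl
  have hu : ∀ s : S, IsUnit ((π.comp ρ) s) := fun s => (hunit s s.2).map π
  let ψ : L →+* R := IsLocalization.lift hu
  have hψ : ∀ p, ψ (algebraMap P L p) = π (ρ p) := fun p => IsLocalization.lift_eq hu p
  refine ⟨ψ, fun r => ?_, ?_⟩
  · obtain ⟨o, rfl⟩ := hπ r
    obtain ⟨p, s, hs, hps⟩ := hO o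
    refine ⟨IsLocalization.mk' L p (⟨s, hs⟩ : S), ?_⟩
    rw [IsLocalization.lift_mk'_spec]
    show π (ρ p) = π (ρ s) * π o
    rw [← map_mul, hps]
  letI : Module P N := Module.compHom N (π.comp ρ)
  letI : Module L N := Module.compHom N ψ
  haveI : IsScalarTower P L N := IsScalarTower.of_algebraMap_smul fun p z => by
    show ψ (algebraMap P L p) • z = π (ρ p) • z
    rw [hψ]
  let G₁ : M →+ N := e.toAddMonoidHom.comp ((Submodule.mkQ (I • ⊤ : Submodule O Fx)).toAddMonoidHom.comp G)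
  have hG₁ : ∀ (p : P) (m : M), G₁ (p • m) = π (ρ p) • G₁ m := fun p m => by
    show e (Submodule.mkQ _ (G (p • m))) = _
    rw [hG, map_smul, he]
    rfl
  have hK : ∀ z ∈ (I • ⊤ : Submodule O Fx), ∃ s ∉ Q.asIdeal, ∃ m ∈ (J • ⊤ : Submodule P M), ρ s • z = G m := by
    let K : AddSubgroup Fx :=
      { carrier := {z | ∃ s ∉ Q.asIdeal, ∃ m ∈ (J • ⊤ : Submodule P M), ρ s • z = G m}
        zero_mem' := ⟨1, fun h => Q.isPrime.ne_top ((Ideal.eq_top_iff_one _).mpr h), 0, zero_mem _, by simp⟩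
        add_mem' := by
          rintro a b ⟨s, hs, m, hm, h1⟩ ⟨t, ht, m', hm', h2⟩
          refine ⟨s * t, fun h => (Q.isPrime.mem_or_mem h).elim hs ht, t • m + s • m',
            add_mem (Submodule.smul_mem _ _ hm) (Submodule.smul_mem _ _ hm'), ?_⟩
          rw [smul_add, map_add, hG, hG, ← h1, ← h2, map_mul, smul_smul, smul_smul, mul_comm (ρ t) (ρ s)]
        neg_mem' := by
          rintro a ⟨s, hs, m, hm, h1⟩
          exact ⟨s, hs, -m, neg_mem hm, by rw [smul_neg, h1, map_neg]⟩ }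
    intro z hz
    suffices h : z ∈ K from h
    refine Submodule.smul_induction_on hz (fun r hr w _ => ?_) fun a b ha hb => add_mem ha hb
    rw [hI] at hr
    revert w
    refine Submodule.span_induction (p := fun r _ => ∀ w, w ∈ (⊤ : Submodule O Fx) → r • w ∈ K) ?_ ?_ ?_ ?_ hr
    · rintro _ ⟨j, hj, rfl⟩ w -
      obtain ⟨m, s, hs, hm⟩ := hsurj w
      refine ⟨s, hs, j • m, Submodule.smul_mem_smul hj Submodule.mem_top, ?_⟩
      rw [hG, ← hm, smul_smul, smul_smul, mul_comm]
    · intro w _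
      rw [zero_smul]
      exact zero_mem _
    · intro a b _ _ ha hb w hw
      rw [add_smul]
      exact add_mem (ha w hw) (hb w hw)
    · intro a b _ hb w _
      rw [smul_assoc, smul_comm]
      exact hb (a • w) Submodule.mem_top
  have hJ : ∀ m ∈ (J • ⊤ : Submodule P M), G₁ m = 0 := by
    intro m hm
    refine Submodule.smul_induction_on (p := fun m => G₁ m = 0) hm (fun j hj w _ => ?_) fun a b ha hb => by
      rw [map_add, ha, hb, add_zero]
    show e (Submodule.mkQ _ (G (j • w))) = 0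
    rw [hG, Submodule.mkQ_apply, (Submodule.Quotient.mk_eq_zero _).mpr (Submodule.smul_mem_smul
      (hI ▸ Ideal.mem_map_of_mem ρ hj : ρ j ∈ I) Submodule.mem_top), map_zero]
  let Gl : M →ₗ[P] N := { G₁ with map_smul' := hG₁ }
  let G₂ : (M ⧸ (J • ⊤ : Submodule P M)) →ₗ[P] N := Submodule.liftQ _ Gl fun m hm => hJ m hm
  haveI : IsLocalizedModule S G₂ := by
    refine ⟨fun s => ?_, fun z => ?_, fun {m₁ m₂} h => ?_⟩
    · rw [Module.End.isUnit_iff]
      exact (hu s).smul_bijective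
    · obtain ⟨w, hw⟩ := e.surjective z
      obtain ⟨w, rfl⟩ := Submodule.Quotient.mk_surjective _ w
      obtain ⟨m, s, hs, hm⟩ := hsurj w
      refine ⟨⟨Submodule.Quotient.mk m, s, hs⟩, ?_⟩
      show π (ρ s) • z = e (Submodule.mkQ _ (G m))
      rw [← hm, map_smul, he, ← hw]
      rfl
    · obtain ⟨m₁, rfl⟩ := Submodule.Quotient.mk_surjective _ m₁
      obtain ⟨m₂, rfl⟩ := Submodule.Quotient.mk_surjective _ m₂
      change e (Submodule.mkQ _ (G m₁)) = e (Submodule.mkQ _ (G m₂)) at h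
      have h1 : G (m₁ - m₂) ∈ (I • ⊤ : Submodule O Fx) := by
        rw [map_sub]
        exact (Submodule.Quotient.eq _).mp (e.injective h)
      obtain ⟨s, hs, m, hm, hsm⟩ := hK _ h1
      rw [← hG] at hsm
      obtain ⟨t, ht, htm⟩ := hker (s • (m₁ - m₂) - m) (by rw [map_sub, hsm, sub_self])
      refine ⟨⟨t * s, fun hh => (Q.isPrime.mem_or_mem hh).elim ht hs⟩, ?_⟩
      simp only [Submonoid.smul_def]
      refine ((Submodule.Quotient.mk_smul _ (t * s) m₁).symm.trans ?_).trans (Submodule.Quotient.mk_smul _ (t * s) m₂)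
      rw [Submodule.Quotient.eq]
      have h2 : (t * s) • m₁ - (t * s) • m₂ = t • m := by
        rw [← smul_sub, mul_smul, ← sub_eq_zero, ← smul_sub, htm]
      rw [h2]
      exact Submodule.smul_mem _ _ hm
  let E := (IsLocalizedModule.iso S G₂).extendScalarsOfIsLocalization S L
  exact ⟨E.toAddEquiv, fun a z => E.map_smul a z⟩

end Groth.FlatDescent.FibreDepth
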