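import Groth.Agent.FlatDescent.FibreDepth.RankConstr
import Groth.Agent.FlatDescent.FibreDepth.Alg
import Groth.Agent.FlatDescent.Strat.Algebra

/-!
# Constructibility of the rectified depth on the fibres of affine space
-/

universe u

open TensorProduct Topology CategoryTheory LocCoh AlgebraicGeometry
open Groth.Agent

namespace Groth.FlatDescent.FibreDepth

attribute [local instance] MvPolynomial.algebraMvPolynomial

section Universal

variable {A P : Type u} [CommRing A] [CommRing P] [Algebra A P]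

theorem fibT_hom_ext {Q : PrimeSpectrum P} {R : Type u} [CommRing R] (g₁ g₂ : FibT A Q →+* R)
    (h : ∀ x : P, g₁ (algebraMap P (FibT A Q) x) = g₂ (algebraMap P (FibT A Q) x)) : g₁ = g₂ := by
  let iL : Localization.AtPrime Q.asIdeal →+* FibT A Q := Algebra.TensorProduct.includeLeftRingHom
  have h1 : g₁.comp iL = g₂.comp iL := IsLocalization.ringHom_ext Q.asIdeal.primeCompl (RingHom.ext fun x => h x)
  refine RingHom.ext fun t => ?_
  obtain ⟨l, rfl⟩ := includeLeft_surjective (A := A) Q t
  exact RingHom.congr_fun h1 l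

theorem exists_fibT_lift {Q : PrimeSpectrum P} {R : Type u} [CommRing R] (g : P →+* R)
    (hu : ∀ s : P, s ∉ Q.asIdeal → IsUnit (g s)) (hk : ∀ a ∈ Q.asIdeal.under A, g (algebraMap A P a) = 0) :
    ∃ φ : FibT A Q →+* R, ∀ x : P, φ (algebraMap P (FibT A Q) x) = g x := by
  letI := g.toAlgebra
  let J := (Q.asIdeal.under A).map (algebraMap A P)
  have hJ : ∀ x ∈ J, Algebra.ofId P R x = 0 := by
    intro x hx
    have hle : J ≤ RingHom.ker g := Ideal.map_le_iff_le_comap.mpr fun a ha => hk a ha
    exact hle hx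
  let a : Localization.AtPrime Q.asIdeal →ₐ[P] R :=
    IsLocalization.liftAlgHom (M := Q.asIdeal.primeCompl) (f := Algebra.ofId P R) fun s => hu s s.2
  let b : (P ⧸ J) →ₐ[P] R := Ideal.Quotient.liftₐ J (Algebra.ofId P R) hJ
  refine ⟨(Algebra.TensorProduct.lift a b fun _ _ => Commute.all _ _).toRingHom, fun x => ?_⟩
  exact (Algebra.TensorProduct.lift a b fun _ _ => Commute.all _ _).commutes x

end Universal

variable {A : Type u} [CommRing A] {n : ℕ}

instance isLocalRing_fibT (Q : PrimeSpectrum (MvPolynomial (Fin n) A)) : IsLocalRing (FibT A Q) := by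
  obtain ⟨h, -, hreg, -⟩ := exists_point_data Q
  haveI := hreg
  infer_instance

theorem mem_iff_not_isUnit_fibT (Q : PrimeSpectrum (MvPolynomial (Fin n) A)) (x : MvPolynomial (Fin n) A) :
    x ∈ Q.asIdeal ↔ ¬ IsUnit (algebraMap (MvPolynomial (Fin n) A) (FibT A Q) x) := by
  constructor
  · intro hx hu
    obtain ⟨_, _⟩ := exists_residueField_algebra' (A := A) Q
    have := hu.map (algebraMap (FibT A Q) Q.asIdeal.ResidueField)
    rw [← IsScalarTower.algebraMap_apply, Ideal.algebraMap_residueField_eq_zero.mpr hx] at this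
    exact not_isUnit_zero this
  · intro hx
    by_contra hxQ
    exact hx ((IsLocalization.map_units (Localization.AtPrime Q.asIdeal) (⟨x, hxQ⟩ : Q.asIdeal.primeCompl)).map
      (Algebra.TensorProduct.includeLeftRingHom : _ →+* FibT A Q))

theorem dep_eq_fibT {M : Type u} [AddCommGroup M] [Module (MvPolynomial (Fin n) A) M]
    (Q : PrimeSpectrum (MvPolynomial (Fin n) A)) :
    dep A M Q = depth (FibT A Q) (FibT A Q ⊗[MvPolynomial (Fin n) A] M) := by
  haveI := isLocalRing_fibT Q
  obtain ⟨e, he⟩ := exists_nq_equiv (A := A) M Q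
  exact depth_transfer (R := FibT A Q) (N := FibT A Q ⊗[MvPolynomial (Fin n) A] M) _ (includeLeft_surjective Q) e he

section Stratum

variable {A' : Type u} [CommRing A'] [Algebra A A'] (I : Ideal A) (a : A)

/-- The universal property of a stratum. -/
def IsStratum (A' : Type u) [CommRing A'] [Algebra A A'] : Prop :=
  (∀ r ∈ I, algebraMap A A' r = 0) ∧ IsUnit (algebraMap A A' a) ∧
    (∀ (R : Type u) [CommRing R] (g : A →+* R), (∀ r ∈ I, g r = 0) → IsUnit (g a) →
      ∃ g' : A' →+* R, g'.comp (algebraMap A A') = g) ∧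
    ∀ x : A', ∃ (r : A) (k : ℕ), x * algebraMap A A' a ^ k = algebraMap A A' r

variable {I a}

theorem exists_fibT_equiv_stratum (hA' : IsStratum I a A') (Q' : PrimeSpectrum (MvPolynomial (Fin n) A'))
    (Q : PrimeSpectrum (MvPolynomial (Fin n) A))
    (hQ : Q = PrimeSpectrum.comap (algebraMap (MvPolynomial (Fin n) A) (MvPolynomial (Fin n) A')) Q') :
    ∃ e : FibT A Q ≃+* FibT A' Q', ∀ x : MvPolynomial (Fin n) A, e (algebraMap _ (FibT A Q) x) =
      algebraMap (MvPolynomial (Fin n) A') (FibT A' Q') (algebraMap _ _ x) := by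
  let P := MvPolynomial (Fin n) A
  let P' := MvPolynomial (Fin n) A'
  subst hQ
  set Q := PrimeSpectrum.comap (algebraMap P P') Q' with hQdef
  haveI := isLocalRing_fibT Q
  haveI := isLocalRing_fibT Q'
  have hmem : ∀ x : P, x ∈ Q.asIdeal ↔ algebraMap P P' x ∈ Q'.asIdeal := fun _ => Iff.rfl
  have hcomm : ∀ r : A, algebraMap P P' (algebraMap A P r) = algebraMap A' P' (algebraMap A A' r) := fun r => by
    rw [← IsScalarTower.algebraMap_apply, ← IsScalarTower.algebraMap_apply]
  obtain ⟨φ, hφ⟩ := exists_fibT_lift (A := A) (Q := Q) ((algebraMap P' (FibT A' Q')).comp (algebraMap P P'))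
    (fun s hs => by
      by_contra h
      exact hs ((hmem s).mpr ((mem_iff_not_isUnit_fibT Q' _).mpr h)))
    (fun r hr => by
      rw [RingHom.comp_apply, hcomm]
      have hm : algebraMap A A' r ∈ Q'.asIdeal.under A' := by
        show algebraMap A' P' (algebraMap A A' r) ∈ Q'.asIdeal
        rw [← hcomm]
        exact hr
      have h0 : Ideal.Quotient.mk ((Q'.asIdeal.under A').map (algebraMap A' P')) (algebraMap A' P' (algebraMap A A' r)) = 0 :=
        Ideal.Quotient.eq_zero_iff_mem.mpr (Ideal.mem_map_of_mem _ hm)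
      rw [← mul_one (algebraMap A' P' (algebraMap A A' r)), ← smul_eq_mul, ← Algebra.algebraMap_eq_smul_one] at h0
      rw [Algebra.TensorProduct.algebraMap_apply, Algebra.algebraMap_eq_smul_one, TensorProduct.smul_tmul]
      show (1 : Localization.AtPrime Q'.asIdeal) ⊗ₜ[P'] _ = 0
      rw [show (algebraMap A' P' (algebraMap A A' r)) • (1 : P' ⧸ (Q'.asIdeal.under A').map (algebraMap A' P')) = 0 from
        (Algebra.algebraMap_eq_smul_one (A := P' ⧸ _) _).symm.trans
          (Ideal.Quotient.eq_zero_iff_mem.mpr (Ideal.mem_map_of_mem _ hm)), tmul_zero])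
  have hφlocal : ∀ t, IsUnit (φ t) → IsUnit t := by
    intro t ht
    obtain ⟨l, rfl⟩ := includeLeft_surjective (A := A) Q t
    obtain ⟨⟨r, s⟩, hrs⟩ := IsLocalization.surj Q.asIdeal.primeCompl l
    have hs : IsUnit (algebraMap P (FibT A Q) s) := by
      by_contra h
      exact s.2 ((mem_iff_not_isUnit_fibT Q _).mpr h)
    have hr : (Algebra.TensorProduct.includeLeftRingHom : _ →+* FibT A Q) l * algebraMap P (FibT A Q) s =
        algebraMap P (FibT A Q) r := by
      have := congrArg (Algebra.TensorProduct.includeLeftRingHom : _ →+* FibT A Q) hrs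
      rw [map_mul] at this
      exact this
    have h1 : IsUnit (φ (algebraMap P (FibT A Q) r)) := by
      rw [← hr, map_mul]
      exact ht.mul (hs.map φ)
    rw [hφ] at h1
    have h2 : IsUnit (algebraMap P (FibT A Q) r) := by
      by_contra h
      exact (mem_iff_not_isUnit_fibT Q' _).mp ((hmem r).mp ((mem_iff_not_isUnit_fibT Q r).mpr h)) h1
    rw [← hr] at h2
    exact isUnit_of_mul_isUnit_left h2
  have hI : ∀ r ∈ I, algebraMap A (FibT A Q) r = 0 := by
    intro r hr
    have hrQ : r ∈ Q.asIdeal.under A := by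
      show algebraMap P P' (algebraMap A P r) ∈ Q'.asIdeal
      rw [hcomm, hA'.1 r hr, map_zero]
      exact zero_mem _
    rw [IsScalarTower.algebraMap_apply A P (FibT A Q), Algebra.TensorProduct.algebraMap_apply,
      Algebra.algebraMap_eq_smul_one, TensorProduct.smul_tmul]
    rw [show (algebraMap A P r) • (1 : P ⧸ (Q.asIdeal.under A).map (algebraMap A P)) = 0 from
      (Algebra.algebraMap_eq_smul_one (A := P ⧸ _) _).symm.trans
        (Ideal.Quotient.eq_zero_iff_mem.mpr (Ideal.mem_map_of_mem _ hrQ)), tmul_zero]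
  have ha : IsUnit (algebraMap A (FibT A Q) a) := by
    by_contra h
    rw [IsScalarTower.algebraMap_apply A P (FibT A Q)] at h
    have h1 := (hmem _).mp ((mem_iff_not_isUnit_fibT Q _).mpr h)
    rw [hcomm] at h1
    exact Q'.isPrime.ne_top (Ideal.eq_top_of_isUnit_mem _ h1 (hA'.2.1.map _))
  obtain ⟨g', hg'⟩ := hA'.2.2.1 (FibT A Q) (algebraMap A (FibT A Q)) hI ha
  let ψ : P' →+* FibT A Q := MvPolynomial.eval₂Hom g' fun i => algebraMap P (FibT A Q) (MvPolynomial.X i)
  have hψ : ψ.comp (algebraMap P P') = algebraMap P (FibT A Q) := by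
    refine MvPolynomial.ringHom_ext (fun r => ?_) fun i => ?_
    · show ψ (MvPolynomial.map (algebraMap A A') (MvPolynomial.C r)) = _
      rw [MvPolynomial.map_C, MvPolynomial.eval₂Hom_C, ← RingHom.comp_apply, hg', ← MvPolynomial.algebraMap_eq,
        ← IsScalarTower.algebraMap_apply]
    · show ψ (MvPolynomial.map (algebraMap A A') (MvPolynomial.X i)) = _
      rw [MvPolynomial.map_X, MvPolynomial.eval₂Hom_X']
  have hφψ : φ.comp ψ = algebraMap P' (FibT A' Q') := by
    refine MvPolynomial.ringHom_ext (fun r => ?_) fun i => ?_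
    · have h1 : ∀ r : A, φ (ψ (MvPolynomial.C (algebraMap A A' r))) =
          algebraMap P' (FibT A' Q') (MvPolynomial.C (algebraMap A A' r)) := fun r => by
        rw [MvPolynomial.eval₂Hom_C, ← RingHom.comp_apply g', hg', IsScalarTower.algebraMap_apply A P (FibT A Q), hφ,
          RingHom.comp_apply, hcomm]
        rfl
      obtain ⟨r', k, hk⟩ := hA'.2.2.2 r
      have e : algebraMap A A' a ^ k = algebraMap A A' (a ^ k) := (map_pow (algebraMap A A') a k).symm
      have h2 : IsUnit (algebraMap P' (FibT A' Q') (MvPolynomial.C (algebraMap A A' a ^ k))) :=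
        ((hA'.2.1.pow k).map (MvPolynomial.C (σ := Fin n))).map _
      refine h2.mul_left_injective ?_
      show φ (ψ (MvPolynomial.C r)) * algebraMap P' (FibT A' Q') (MvPolynomial.C (algebraMap A A' a ^ k)) =
        algebraMap P' (FibT A' Q') (MvPolynomial.C r) * algebraMap P' (FibT A' Q') (MvPolynomial.C (algebraMap A A' a ^ k))
      rw [← map_mul (algebraMap P' (FibT A' Q')), ← map_mul MvPolynomial.C, hk, ← h1, ← hk, map_mul, map_mul, map_mul,
        e, h1]
    · show φ (ψ (MvPolynomial.X i)) = _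
      rw [MvPolynomial.eval₂Hom_X', hφ, RingHom.comp_apply]
      show algebraMap P' _ (MvPolynomial.map (algebraMap A A') (MvPolynomial.X i)) = _
      rw [MvPolynomial.map_X]
  obtain ⟨χ, hχ⟩ := exists_fibT_lift (A := A') (Q := Q') ψ
    (fun s hs => hφlocal _ (by
      rw [← RingHom.comp_apply, hφψ]
      by_contra h
      exact hs ((mem_iff_not_isUnit_fibT Q' s).mpr h)))
    (fun r hr => by
      show ψ (MvPolynomial.C r) = 0
      rw [MvPolynomial.eval₂Hom_C]
      obtain ⟨r', k, hk⟩ := hA'.2.2.2 r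
      have hrQ : r' ∈ Q.asIdeal.under A := by
        show algebraMap P P' (algebraMap A P r') ∈ Q'.asIdeal
        rw [hcomm, ← hk, map_mul]
        exact Q'.asIdeal.mul_mem_right _ hr
      have h0 : algebraMap A (FibT A Q) r' = 0 := by
        rw [IsScalarTower.algebraMap_apply A P (FibT A Q), Algebra.TensorProduct.algebraMap_apply,
          Algebra.algebraMap_eq_smul_one, TensorProduct.smul_tmul]
        rw [show (algebraMap A P r') • (1 : P ⧸ (Q.asIdeal.under A).map (algebraMap A P)) = 0 from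
          (Algebra.algebraMap_eq_smul_one (A := P ⧸ _) _).symm.trans
            (Ideal.Quotient.eq_zero_iff_mem.mpr (Ideal.mem_map_of_mem _ hrQ)), tmul_zero]
      refine ((hA'.2.1.pow k).map g').mul_left_eq_zero.mp ?_
      rw [← map_mul, hk, ← RingHom.comp_apply g', hg', h0])
  refine ⟨RingEquiv.ofRingHom φ χ ?_ ?_, fun x => hφ x⟩
  · refine fibT_hom_ext _ _ fun x => ?_
    rw [RingHom.comp_apply, hχ, ← RingHom.comp_apply, hφψ, RingHom.id_apply]
  · refine fibT_hom_ext _ _ fun x => ?_
    rw [RingHom.comp_apply, hφ, RingHom.comp_apply, hχ, ← RingHom.comp_apply, hψ, RingHom.id_apply]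

theorem isStratum_away (I : Ideal A) (a : A) : IsStratum I a (Localization.Away (Ideal.Quotient.mk I a)) := by
  refine ⟨fun r hr => ?_, ?_, fun R _ g hI ha => ?_, fun x => ?_⟩
  · rw [IsScalarTower.algebraMap_apply A (A ⧸ I), Ideal.Quotient.algebraMap_eq,
      Ideal.Quotient.eq_zero_iff_mem.mpr hr, map_zero]
  · rw [IsScalarTower.algebraMap_apply A (A ⧸ I)]
    exact IsLocalization.Away.algebraMap_isUnit (Ideal.Quotient.mk I a)
  · refine ⟨IsLocalization.Away.lift (g := Ideal.Quotient.lift I g hI) (Ideal.Quotient.mk I a) ha, ?_⟩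
    refine RingHom.ext fun r => ?_
    rw [RingHom.comp_apply, IsScalarTower.algebraMap_apply A (A ⧸ I), IsLocalization.Away.lift_eq]
    rfl
  · obtain ⟨⟨y, ⟨_, k, rfl⟩⟩, hy⟩ := IsLocalization.surj (Submonoid.powers (Ideal.Quotient.mk I a)) x
    obtain ⟨r, rfl⟩ := Ideal.Quotient.mk_surjective y
    refine ⟨r, k, ?_⟩
    rw [IsScalarTower.algebraMap_apply A (A ⧸ I), IsScalarTower.algebraMap_apply A (A ⧸ I) _ r, ← map_pow]
    exact hy

theorem exists_point_stratum (hA' : IsStratum I a A') (Q : PrimeSpectrum (MvPolynomial (Fin n) A))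
    (hI : I ≤ Q.asIdeal.under A) (ha : a ∉ Q.asIdeal.under A) :
    ∃ Q' : PrimeSpectrum (MvPolynomial (Fin n) A'),
      Q = PrimeSpectrum.comap (algebraMap (MvPolynomial (Fin n) A) (MvPolynomial (Fin n) A')) Q' := by
  let P := MvPolynomial (Fin n) A
  let K := Q.asIdeal.ResidueField
  let g : A →+* K := (algebraMap P K).comp (algebraMap A P)
  obtain ⟨g', hg'⟩ := hA'.2.2.1 K g (fun r hr => Ideal.algebraMap_residueField_eq_zero.mpr (hI hr))
    (isUnit_iff_ne_zero.mpr fun h => ha ((Ideal.algebraMap_residueField_eq_zero (I := Q.asIdeal)).mp h))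
  let ψ : MvPolynomial (Fin n) A' →+* K := MvPolynomial.eval₂Hom g' fun i => algebraMap P K (MvPolynomial.X i)
  have hψ : ψ.comp (algebraMap P (MvPolynomial (Fin n) A')) = algebraMap P K := by
    refine MvPolynomial.ringHom_ext (fun r => ?_) fun i => ?_
    · show ψ (MvPolynomial.map (algebraMap A A') (MvPolynomial.C r)) = _
      rw [MvPolynomial.map_C, MvPolynomial.eval₂Hom_C, ← RingHom.comp_apply, hg']
      rfl
    · show ψ (MvPolynomial.map (algebraMap A A') (MvPolynomial.X i)) = _
      rw [MvPolynomial.map_X, MvPolynomial.eval₂Hom_X']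
  refine ⟨⟨RingHom.ker ψ, RingHom.ker_isPrime ψ⟩, PrimeSpectrum.ext ?_⟩
  show Q.asIdeal = (RingHom.ker ψ).comap (algebraMap P _)
  rw [RingHom.comap_ker, hψ, Ideal.ker_algebraMap_residueField]

/-- Rectified depth is not changed on a stratum. -/
theorem le_prof_stratum_iff (hA' : IsStratum I a A') {M : Type u} [AddCommGroup M]
    [Module (MvPolynomial (Fin n) A) M] [Module.Finite (MvPolynomial (Fin n) A) M]
    (Q' : PrimeSpectrum (MvPolynomial (Fin n) A')) (Q : PrimeSpectrum (MvPolynomial (Fin n) A))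
    (hQ : Q = PrimeSpectrum.comap (algebraMap (MvPolynomial (Fin n) A) (MvPolynomial (Fin n) A')) Q') :
    dep A' (MvPolynomial (Fin n) A' ⊗[MvPolynomial (Fin n) A] M) Q' = dep A M Q ∧
      FibreDim.fdim (affMap A' n) Q' = FibreDim.fdim (affMap A n) Q := by
  let P := MvPolynomial (Fin n) A
  let P' := MvPolynomial (Fin n) A'
  obtain ⟨e, he⟩ := exists_fibT_equiv_stratum hA' Q' Q hQ
  refine ⟨?_, ?_⟩
  · rw [dep_eq_fibT Q', dep_eq_fibT Q]
    let eL : FibT A Q ≃ₗ[P] FibT A' Q' :=
      { e.toAddEquiv with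
        map_smul' := fun x t => by
          show e (x • t) = x • e t
          rw [← algebraMap_smul (FibT A Q) x t, ← algebraMap_smul (FibT A' Q') x (e t), smul_eq_mul, smul_eq_mul,
            map_mul, he, ← IsScalarTower.algebraMap_apply] }
    let E₁ : FibT A Q ⊗[P] M ≃ₗ[P] FibT A' Q' ⊗[P] M := TensorProduct.congr eL (LinearEquiv.refl P M)
    let E₂ := TensorProduct.AlgebraTensorModule.cancelBaseChange P P' (FibT A' Q') (FibT A' Q') M
    refine (depth_transfer e.toRingHom e.surjective (E₁.toAddEquiv.trans E₂.symm.toAddEquiv) fun t z => ?_).symm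
    show E₂.symm (E₁ (t • z)) = e t • E₂.symm (E₁ z)
    rw [← E₂.symm.map_smul]
    congr 1
    induction z using TensorProduct.induction_on with
    | zero => simp
    | add x y hx hy => rw [smul_add, map_add, map_add, smul_add, hx, hy]
    | tmul s x =>
      rw [TensorProduct.smul_tmul', TensorProduct.congr_tmul, TensorProduct.congr_tmul, TensorProduct.smul_tmul']
      exact congrArg (· ⊗ₜ[P] x) (map_mul e t s)
  · obtain ⟨h, -, -, hd, hf⟩ := exists_point_data Q
    obtain ⟨h', -, -, hd', hf'⟩ := exists_point_data Q'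
    rw [ringKrullDim_eq_of_ringEquiv e, hd', Nat.cast_inj] at hd
    rw [hf, hf', hd]

/-- The locus of a lower bound of the rectified depth. -/
def profLocus (A : Type u) [CommRing A] (n : ℕ) (M : Type u) [AddCommGroup M] [Module (MvPolynomial (Fin n) A) M]
    (m : ℕ) : Set (PrimeSpectrum (MvPolynomial (Fin n) A)) :=
  {Q | (m : WithBot ℕ∞) ≤ ((dep A M Q : ℕ∞) : WithBot ℕ∞) + FibreDim.fdim (affMap A n) Q}

theorem isConstructible_profLocus_piece (I : Ideal A) (hI : I.FG) (a : A) (M : Type u) [AddCommGroup M]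
    [Module (MvPolynomial (Fin n) A) M] [Module A M] [IsScalarTower A (MvPolynomial (Fin n) A) M]
    [Module.FinitePresentation (MvPolynomial (Fin n) A) M] (m : ℕ)
    (hflat : Module.Flat (Localization.Away (Ideal.Quotient.mk I a))
      (Localization.Away (Ideal.Quotient.mk I a) ⊗[A] M)) :
    IsConstructible (profLocus A n M m ∩ {Q | I ≤ Q.asIdeal.under A ∧ a ∉ Q.asIdeal.under A}) := by
  let A' := Localization.Away (Ideal.Quotient.mk I a)
  let P := MvPolynomial (Fin n) A
  let P' := MvPolynomial (Fin n) A'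
  have hA' := isStratum_away (A := A) I a
  haveI : Algebra.FinitePresentation A (A ⧸ I) := Algebra.FinitePresentation.quotient hI
  haveI : Algebra.FinitePresentation (A ⧸ I) A' :=
    IsLocalization.Away.finitePresentation (Ideal.Quotient.mk I a)
  haveI : Algebra.FinitePresentation A A' := Algebra.FinitePresentation.trans A (A ⧸ I) A'
  haveI : Algebra.FinitePresentation P P' :=
    Algebra.FinitePresentation.equiv (Algebra.IsPushout.equiv A P A' P')
  haveI : Module.Flat A' (P' ⊗[P] M) :=
    Module.Flat.of_linearEquiv (Algebra.IsPushout.cancelBaseChange A A' P P' M)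
  have hc : IsConstructible (profLocus A' n (P' ⊗[P] M) m) := by
    have h : profLocus A' n (P' ⊗[P] M) m = {Q' | Pd A' (n + 1 - m) (P' ⊗[P] M) Q'} := by
      ext Q'
      exact le_prof_iff (A := A') (n := n) (P' ⊗[P] M) Q' m
    rw [h]
    exact isConstructible_pd _ _
  have key := PrimeSpectrum.isConstructible_comap_image
    (f := algebraMap P P') (RingHom.finitePresentation_algebraMap.mpr inferInstance) hc
  convert key using 1
  ext Q
  constructor
  · rintro ⟨hQ, hQI, hQa⟩
    obtain ⟨Q', hQ'⟩ := exists_point_stratum hA' Q hQI hQa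
    obtain ⟨h1, h2⟩ := le_prof_stratum_iff hA' (M := M) Q' Q hQ'
    refine ⟨Q', ?_, hQ'.symm⟩
    show (m : WithBot ℕ∞) ≤ _
    rw [h1, h2]
    exact hQ
  · rintro ⟨Q', hQ', rfl⟩
    obtain ⟨h1, h2⟩ := le_prof_stratum_iff hA' (M := M) Q' _ rfl
    have hcomm : ∀ r : A, algebraMap P P' (algebraMap A P r) = algebraMap A' P' (algebraMap A A' r) := fun r => by
      rw [← IsScalarTower.algebraMap_apply, ← IsScalarTower.algebraMap_apply]
    refine ⟨?_, fun r hr => ?_, fun h => ?_⟩
    · show (m : WithBot ℕ∞) ≤ _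
      rw [← h1, ← h2]
      exact hQ'
    · show algebraMap P P' (algebraMap A P r) ∈ Q'.asIdeal
      rw [hcomm, hA'.1 r hr, map_zero]
      exact zero_mem _
    · have h' : algebraMap P P' (algebraMap A P a) ∈ Q'.asIdeal := h
      rw [hcomm] at h'
      exact Q'.isPrime.ne_top (Ideal.eq_top_of_isUnit_mem _ h' (hA'.2.1.map _))

/-- **Constructibility of the rectified depth on the fibres of affine space.** -/
theorem isConstructible_profLocus (M : Type u) [AddCommGroup M] [Module (MvPolynomial (Fin n) A) M] [Module A M]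
    [IsScalarTower A (MvPolynomial (Fin n) A) M] [Module.FinitePresentation (MvPolynomial (Fin n) A) M] (m : ℕ) :
    IsConstructible (profLocus A n M m) := by
  let P := MvPolynomial (Fin n) A
  obtain ⟨J₀, hJ₀fg, hJ₀, hchain⟩ := Strat.exists_chain (A := A) (fun _ : Unit => P) (fun _ : Unit => M)
  suffices h : IsConstructible (profLocus A n M m ∩ {Q | J₀ ≤ Q.asIdeal.under A}) by
    convert h using 1
    refine (Set.inter_eq_left.mpr fun Q _ r hr => ?_).symm
    exact Ideal.IsPrime.radical (inferInstance : (Q.asIdeal.under A).IsPrime) ▸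
      (Ideal.radical_mono bot_le (hJ₀ hr))
  clear hJ₀
  induction hchain using Relation.ReflTransGen.head_induction_on with
  | refl =>
    convert IsConstructible.empty (X := PrimeSpectrum P) using 1
    refine Set.eq_empty_of_forall_notMem fun Q hQ => ?_
    exact (inferInstance : (Q.asIdeal.under A).IsPrime).ne_top (top_le_iff.mp hQ.2)
  | @head I J hstep _ ih =>
    obtain ⟨hIJ, hJfg, hflat⟩ := hstep
    obtain ⟨s, hs⟩ := hJfg
    have hpiece : IsConstructible (⋃ a ∈ (s : Set A),
        (profLocus A n M m ∩ {Q | I ≤ Q.asIdeal.under A ∧ a ∉ Q.asIdeal.under A})) := by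
      refine IsConstructible.biUnion s.finite_toSet fun a ha => isConstructible_profLocus_piece I hJ₀fg a M m ?_
      refine hflat _ (Ideal.map_eq_bot_iff_le_ker _ |>.mpr fun r hr => ?_) ?_ ()
      · exact (isStratum_away I a).1 r hr
      · exact Ideal.eq_top_of_isUnit_mem _
          (Ideal.mem_map_of_mem _ (hs ▸ Submodule.subset_span ha : a ∈ J)) (isStratum_away I a).2.1
    convert (ih ⟨s, hs⟩).union hpiece using 1
    ext Q
    simp only [Set.mem_union, Set.mem_inter_iff, Set.mem_iUnion, Set.mem_setOf_eq, exists_prop]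
    constructor
    · intro ⟨h1, h2⟩
      by_cases hJ : J ≤ Q.asIdeal.under A
      · exact Or.inl ⟨h1, hJ⟩
      · rw [← hs, Ideal.span_le, Set.not_subset] at hJ
        obtain ⟨a, ha, ha'⟩ := hJ
        exact Or.inr ⟨a, ha, h1, h2, ha'⟩
    · rintro (⟨h1, h2⟩ | ⟨a, -, h1, h2, -⟩)
      exacts [⟨h1, hIJ.trans h2⟩, ⟨h1, h2⟩]

end Stratum

end Groth.FlatDescent.FibreDepth
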