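import Groth.Agent.FlatDescent.FibreDepth.LevelConstr
import Groth.Agent.FlatDescent.FibreDepth.Ring
import Groth.Agent.QCohLib.Basic

/-!
# Constructibility of torsion and torsion-free fibres
-/

universe u

open CategoryTheory CategoryTheory.Limits AlgebraicGeometry Topology TopologicalSpace
open Groth.Agent

namespace Groth.FlatDescent.FibreDepth

section TorsionAlgebra

variable {R : Type u} [CommRing R] {N : Type u} [AddCommGroup N] [Module R N]

theorem torsion_eq_bot_of_isField (hR : IsField R) : Submodule.torsion R N = ⊥ := by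
  rw [eq_bot_iff]
  rintro m ⟨⟨a, ha⟩, ham⟩
  letI := hR.nontrivial
  obtain ⟨b, hb⟩ := hR.mul_inv_cancel (nonZeroDivisors.ne_zero ha)
  rw [Submodule.mem_bot, ← one_smul R m, ← hb, mul_comm, mul_smul]
  rw [show a • m = 0 from ham, smul_zero]

theorem supportDim_eq_of_torsion_ne_top [IsDomain R] [Module.Finite R N] (h : Submodule.torsion R N ≠ ⊤) :
    Module.supportDim R N = ringKrullDim R := by
  have h0 : Module.annihilator R N = ⊥ := by
    rw [eq_bot_iff]
    intro a ha
    by_contra hne
    exact h (eq_top_iff.mpr fun m _ => ⟨⟨a, mem_nonZeroDivisors_of_ne_zero hne⟩, Module.mem_annihilator.mp ha m⟩)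
  rw [Module.supportDim_eq_ringKrullDim_quotient_annihilator, h0]
  exact ringKrullDim_eq_of_ringEquiv (RingEquiv.quotientBot R)

theorem isField_of_torsion_eq_bot [IsDomain R] [IsLocalRing R] [IsNoetherianRing R]
    (h : Submodule.torsion R N = ⊥) (hass : IsLocalRing.maximalIdeal R ∈ associatedPrimes R N) : IsField R := by
  rw [IsLocalRing.isField_iff_maximalIdeal_eq]
  by_contra hne
  obtain ⟨a, ha, ha0⟩ := Submodule.exists_mem_ne_zero_of_ne_bot hne
  obtain ⟨hp, n, hn⟩ := hass
  rw [hn] at ha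
  obtain ⟨k, hk⟩ := ha
  rw [Submodule.mem_colon_singleton, Submodule.mem_bot] at hk
  have h0 : n = 0 := (Submodule.mem_bot R).mp (h ▸ ⟨⟨a ^ k, mem_nonZeroDivisors_of_ne_zero (pow_ne_zero k ha0)⟩, hk⟩)
  apply hp.ne_top
  rw [hn, Ideal.radical_eq_top, Ideal.eq_top_iff_one, Submodule.mem_colon_singleton, Submodule.mem_bot, h0, smul_zero]

end TorsionAlgebra

/-- A specialisation map out of an integral local ring is injective. -/
theorem stalkSpecializes_injective_of_isDomain {Z : Scheme.{u}} {x' x : Z} (h : x' ⤳ x)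
    [IsDomain (Z.presheaf.stalk x)] : Function.Injective (Z.presheaf.stalkSpecializes h) := by
  obtain ⟨U, hU, hx, -⟩ := Groth.FlatDescent.CM.exists_affine_le (⊤ : Z.Opens) (z := x) trivial
  letI := (Z.presheaf.germ U x hx).hom.toAlgebra
  letI := (Z.presheaf.germ U x' (h.mem_open U.2 hx)).hom.toAlgebra
  haveI := hU.isLocalization_stalk ⟨x, hx⟩
  haveI := hU.isLocalization_stalk ⟨x', h.mem_open U.2 hx⟩
  have hc : ∀ a : Γ(Z, U), Z.presheaf.stalkSpecializes h (algebraMap Γ(Z, U) (Z.presheaf.stalk x) a) =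
      algebraMap Γ(Z, U) (Z.presheaf.stalk x') a := fun a =>
    TopCat.Presheaf.germ_stalkSpecializes_apply _ hx h a
  refine (injective_iff_map_eq_zero (Z.presheaf.stalkSpecializes h).hom).mpr fun s hs => ?_
  obtain ⟨a, b, rfl⟩ := IsLocalization.exists_mk'_eq (hU.primeIdealOf ⟨x, hx⟩).asIdeal.primeCompl s
  have h0 : algebraMap Γ(Z, U) (Z.presheaf.stalk x') a = 0 := by
    have := congrArg (Z.presheaf.stalkSpecializes h).hom (IsLocalization.mk'_spec (Z.presheaf.stalk x) a b)
    rw [map_mul, hs, zero_mul] at this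
    exact ((hc a).symm.trans this.symm)
  obtain ⟨⟨c, hc'⟩, hca⟩ := (IsLocalization.map_eq_zero_iff
    (hU.primeIdealOf ⟨x', h.mem_open U.2 hx⟩).asIdeal.primeCompl (Z.presheaf.stalk x') a).mp h0
  have hca' := congrArg (algebraMap Γ(Z, U) (Z.presheaf.stalk x)) hca
  rw [map_mul, map_zero, mul_eq_zero] at hca'
  rcases hca' with hc0 | ha0
  · have h1 := (hc c).symm
    rw [hc0, map_zero] at h1
    exact absurd h1 (IsLocalization.map_units (Z.presheaf.stalk x')
      (⟨c, hc'⟩ : (hU.primeIdealOf ⟨x', h.mem_open U.2 hx⟩).asIdeal.primeCompl)).ne_zero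
  · rw [IsLocalization.mk'_eq_zero_iff]
    obtain ⟨⟨e, he⟩, hea⟩ := (IsLocalization.map_eq_zero_iff
      (hU.primeIdealOf ⟨x, hx⟩).asIdeal.primeCompl (Z.presheaf.stalk x) a).mp ha0
    exact ⟨⟨e, he⟩, hea⟩

/-- On an integral local scheme every torsion element survives at an associated point without being a field. -/
theorem exists_ass_not_isField {Z : Scheme.{u}} (G : Z.Modules) [G.IsQuasicoherent] {x : Z}
    [IsDomain (Z.presheaf.stalk x)] (h : Submodule.torsion (Z.presheaf.stalk x) (G.presheaf.stalk x) ≠ ⊥) :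
    ∃ x' : Z, x' ⤳ x ∧ x' ∈ AssSch.Ass G ∧ ¬ IsField (Z.presheaf.stalk x') := by
  obtain ⟨m, hm, hm0⟩ := Submodule.exists_mem_ne_zero_of_ne_bot h
  obtain ⟨⟨r, hr⟩, hrm⟩ := hm
  obtain ⟨W, hxW, a, rfl⟩ := G.presheaf.exists_germ_eq m
  obtain ⟨W', hxW', ρ, rfl⟩ := Z.presheaf.exists_germ_eq r
  have hxV : x ∈ W ⊓ W' := ⟨hxW, hxW'⟩
  let a' : Γ(G, W ⊓ W') := G.presheaf.map (homOfLE inf_le_left).op a
  let ρ' : Γ(Z, W ⊓ W') := Z.presheaf.map (homOfLE inf_le_right).op ρ
  have ha' : G.presheaf.germ (W ⊓ W') x hxV a' = G.presheaf.germ W x hxW a := TopCat.Presheaf.germ_res_apply _ _ _ _ _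
  have hρ' : Z.presheaf.germ (W ⊓ W') x hxV ρ' = Z.presheaf.germ W' x hxW' ρ := TopCat.Presheaf.germ_res_apply _ _ _ _ _
  obtain ⟨x', hsp, hass, hne⟩ := AssSchLib.exists_ass_generization hxV a' (ha'.trans_ne hm0)
  refine ⟨x', hsp, hass, fun hK => ?_⟩
  have h1 : G.presheaf.germ (W ⊓ W') x hxV (ρ' • a') = 0 := by
    rw [QCohLib.germ_smul, ha', hρ']
    exact hrm
  have h2 : G.presheaf.germ (W ⊓ W') x' (hsp.mem_open (W ⊓ W').2 hxV) (ρ' • a') = 0 := by
    rw [← TopCat.Presheaf.germ_stalkSpecializes_apply G.presheaf hxV hsp, h1, map_zero]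
  rw [QCohLib.germ_smul] at h2
  have h3 : Z.presheaf.germ (W ⊓ W') x' (hsp.mem_open (W ⊓ W').2 hxV) ρ' ≠ 0 := by
    rw [← TopCat.Presheaf.germ_stalkSpecializes_apply Z.presheaf hxV hsp ρ', hρ']
    exact fun e => nonZeroDivisors.ne_zero hr (stalkSpecializes_injective_of_isDomain hsp (e.trans (map_zero _).symm))
  obtain ⟨b, hb⟩ := hK.mul_inv_cancel h3
  exact hne (by rw [← one_smul (Z.presheaf.stalk x') (G.presheaf.germ _ x' _ a'), ← hb, mul_comm, mul_smul, h2, smul_zero])

variable {X Y : Scheme.{u}} (f : X ⟶ Y) [LocallyOfFinitePresentation f] (F : X.Modules) (hF : CohB1.IsFP F)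

include hF

theorem supportDim_fibN_eq {y : Y} (v : f.fiber y) :
    Module.supportDim ((f.fiber y).presheaf.stalk v) (fibN f F v) = psdm f F (f.fiberι y v) := by
  refine fiber_cases f v (motive := fun y v =>
    Module.supportDim ((f.fiber y).presheaf.stalk v) (fibN f F v) = psdm f F (f.fiberι y v)) ?_
  rw [f.fiberι_asFiber]
  rfl

omit F hF in
theorem ringKrullDim_fibre_eq {y : Y} (v : f.fiber y) :
    ringKrullDim ((f.fiber y).presheaf.stalk v) = psdm f (Coh.structureModule X) (f.fiberι y v) := by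
  refine fiber_cases f v (motive := fun y v =>
    ringKrullDim ((f.fiber y).presheaf.stalk v) = psdm f (Coh.structureModule X) (f.fiberι y v)) ?_
  rw [f.fiberι_asFiber]
  exact (ring_invariants f _).2.1

omit F hF in
/-- A point whose fibre stalk has dimension zero, in terms of the dimensions. -/
theorem isField_iff_delta_le {y : Y} (v : f.fiber y) [IsDomain ((f.fiber y).presheaf.stalk v)] {c : ℕ}
    (hc : FibreDim.fdim f (f.fiberι y v) = c) :
    IsField ((f.fiber y).presheaf.stalk v) ↔ delta f (Coh.structureModule X) (f.fiberι y v) ≤ (c : WithBot ℕ∞) := by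
  rcases nat_data f _ (isFP_structureModule X) (f.fiberι y v) with
    ⟨h, -⟩ | ⟨-, D, d, c', hD, -, hc', -, -, hδ⟩
  · exact absurd (mem_Sp_structureModule _) h
  rw [hc', Nat.cast_inj] at hc
  rw [hδ, Nat.cast_le]
  have hdim := ringKrullDim_fibre_eq f v
  rw [hD] at hdim
  constructor
  · intro hK
    have h0 : ringKrullDim ((f.fiber y).presheaf.stalk v) = 0 := ringKrullDim_eq_zero_of_isField hK
    rw [hdim, ← Nat.cast_zero, Nat.cast_inj] at h0
    omega
  · intro hle
    haveI : Ring.KrullDimLE 0 ((f.fiber y).presheaf.stalk v) := by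
      rw [Ring.krullDimLE_iff, hdim, Nat.cast_le]
      omega
    exact Ring.KrullDimLE.isField_of_isDomain

variable (hint : ∀ (y : Y) (v : ↥(f.fiber y)), IsDomain ((f.fiber y).presheaf.stalk v))

include hint

/-- The set of points over which the module is torsion on the fibre. -/
theorem isLocallyConstructible_torsion [QuasiCompact f] :
    IsLocallyConstructible {y : Y | ∀ v : ↥(f.fiber y),
      Submodule.torsion ((f.fiber y).presheaf.stalk v) (fibN f F v) = ⊤} := by
  have hO := isFP_structureModule X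
  convert isLocallyConstructible_exists_bounded
    (B := fun r => imgDim f (Sp F ∩ {x | delta f (Coh.structureModule X) x ≤ (r : WithBot ℕ∞)}) r)
    (fun r => isLocallyConstructible_imgDim f ((isLocallyConstructible_Sp f F hF).inter
      (isLocallyConstructible_delta_le f _ hO r)) r) (fun y => ?_) using 1
  · ext y
    simp only [Set.mem_setOf_eq, Set.mem_compl_iff, Set.mem_iUnion, not_exists]
    constructor
    · intro h r hr
      obtain ⟨z, ⟨⟨hzS, hδ⟩, hcr⟩, hzy⟩ := hr
      obtain ⟨v, rfl⟩ : z ∈ Set.range (f.fiberι y) := (f.range_fiberι y).ge hzy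
      obtain ⟨c, hc⟩ := exists_fd f (f.fiberι y v)
      change (r : WithBot ℕ∞) ≤ _ at hcr
      change delta f _ _ ≤ _ at hδ
      rw [hc] at hcr
      haveI := hint y v
      haveI : Nontrivial (fibN f F v) := (nontrivial_fibN_iff f F hF v).mpr hzS
      have h2 := h v
      rw [torsion_eq_bot_of_isField ((isField_iff_delta_le f v hc).mpr (hδ.trans hcr))] at h2
      exact bot_ne_top h2
    · intro h v
      by_contra hne
      haveI := hint y v
      haveI := finite_fibN f F hF v
      have hdim : psdm f F (f.fiberι y v) = psdm f (Coh.structureModule X) (f.fiberι y v) := by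
        rw [← supportDim_fibN_eq f F hF v, supportDim_eq_of_torsion_ne_top hne, ringKrullDim_fibre_eq f v]
      have hS : f.fiberι y v ∈ Sp F := by
        rcases nat_data f F hF (f.fiberι y v) with ⟨-, h', -⟩ | ⟨h', -⟩
        · rcases nat_data f _ hO (f.fiberι y v) with ⟨h'', -⟩ | ⟨-, D, d, c, hD, -⟩
          · exact absurd (mem_Sp_structureModule _) h''
          · rw [h', hD] at hdim
            exact absurd hdim WithBot.bot_ne_coe
        · exact h'
      obtain ⟨z, hzx, hfz, hzS, hz⟩ := exists_fdim_eq_delta f F hF hS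
      obtain ⟨c, hc⟩ := exists_fd f z
      refine h c ⟨z, ⟨⟨hzS, ?_⟩, hc.ge⟩, hfz.trans (apply_fiberι f v)⟩
      calc delta f (Coh.structureModule X) z
          ≤ delta f (Coh.structureModule X) (f.fiberι y v) :=
            (prof_le_of_gen f _ hO hzx hfz (mem_Sp_structureModule z)).2
        _ = delta f F (f.fiberι y v) := by rw [delta, delta, hdim]
        _ = c := hz.symm.trans hc
  · obtain ⟨V, N, hy, hV⟩ := exists_base_bound f F hF y
    exact ⟨V, N, hy, fun y' hy' r hr => le_bound_of_mem_imgDim hV hy' hr⟩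

/-- The set of points over which the module is torsion-free on the fibre. -/
theorem isLocallyConstructible_torsionFree [QuasiCompact f] :
    IsLocallyConstructible {y : Y | ∀ v : ↥(f.fiber y),
      Submodule.torsion ((f.fiber y).presheaf.stalk v) (fibN f F v) = ⊥} := by
  have hO := isFP_structureModule X
  convert isLocallyConstructible_exists_bounded
    (B := fun r => imgDim f ({x | prof f F x ≤ (r : WithBot ℕ∞)} ∩
      {x | delta f (Coh.structureModule X) x ≤ (r : WithBot ℕ∞)}ᶜ) r)
    (fun r => isLocallyConstructible_imgDim f ((isLocallyConstructible_prof_le f F hF r).inter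
      (isLocallyConstructible_compl (isLocallyConstructible_delta_le f _ hO r))) r) (fun y => ?_) using 1
  · ext y
    simp only [Set.mem_setOf_eq, Set.mem_compl_iff, Set.mem_iUnion, not_exists]
    constructor
    · intro h r hr
      obtain ⟨z, ⟨⟨hp, hδ⟩, hcr⟩, hzy⟩ := hr
      obtain ⟨v, rfl⟩ : z ∈ Set.range (f.fiberι y) := (f.range_fiberι y).ge hzy
      change prof f F _ ≤ _ at hp
      change (r : WithBot ℕ∞) ≤ _ at hcr
      change ¬ delta f _ _ ≤ _ at hδ
      haveI := hint y v
      haveI := isNoetherianRing_fibre_stalk f v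
      rcases nat_data f F hF (f.fiberι y v) with ⟨-, -, hp', -⟩ | ⟨-, D, d, c, -, hd, hc, -, hp', -⟩
      · rw [hp'] at hp
        exact absurd (WithBot.coe_le_coe.mp hp) (by simp)
      rw [hp', Nat.cast_le] at hp
      rw [hc, Nat.cast_le] at hcr
      have hv : v ∈ AssSch.Ass ((Scheme.Modules.pullback (f.fiberι y)).obj F) :=
        (mem_ass_iff f F hF v).mpr (by rw [hd, show d = 0 by omega]; rfl)
      refine hδ ?_
      rw [show r = c by omega]
      exact (isField_iff_delta_le f v hc).mp (isField_of_torsion_eq_bot (h v) hv)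
    · intro h v
      by_contra hne
      haveI := hint y v
      haveI : F.IsQuasicoherent := inferInstance
      haveI : ((Scheme.Modules.pullback (f.fiberι y)).obj F).IsQuasicoherent := QCohLib.isQuasicoherent_pullback (f.fiberι y) F
      obtain ⟨w, hwv, hw, hwK⟩ := exists_ass_not_isField _ hne
      haveI := hint y w
      obtain ⟨-, D, c, -, hc, hp, -⟩ := depth_zero_data f F hF ((mem_ass_iff f F hF w).mp hw)
      exact h c ⟨_, ⟨⟨hp.le, fun hle => hwK ((isField_iff_delta_le f w hc).mpr hle)⟩, hc.ge⟩, apply_fiberι f w⟩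
  · obtain ⟨V, N, hy, hV⟩ := exists_base_bound f F hF y
    exact ⟨V, N, hy, fun y' hy' r hr => le_bound_of_mem_imgDim hV hy' hr⟩

end Groth.FlatDescent.FibreDepth
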