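import Groth.Agent.FlatSerre.Module
import Groth.Agent.DepthLib.Localization
import Groth.Prelude.Def_EGA4b

/-!
# Invariants of modules along semilinear isomorphisms over surjections of local rings
-/

universe u

open IsLocalRing LocCoh Groth.Agent.DepthLib

namespace Groth.FlatDescent.FibreDepth

variable {L R : Type u} [CommRing L] [CommRing R] [IsLocalRing L] [IsLocalRing R] (φ : L →+* R)
  (hφ : Function.Surjective φ) {M N : Type u} [AddCommGroup M] [Module L M] [AddCommGroup N] [Module R N]
  (e : M ≃+ N) (he : ∀ a m, e (a • m) = φ a • e m)

include hφ he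

theorem depth_transfer : depth L M = depth R N := by
  letI := φ.toAlgebra
  letI : Module L N := Module.compHom N φ
  haveI : IsScalarTower L R N := IsScalarTower.of_algebraMap_smul fun _ _ => rfl
  exact (depth_congr ({ e with map_smul' := he } : M ≃ₗ[L] N)).trans (depth_eq_of_surjective hφ).symm

omit [IsLocalRing L] [IsLocalRing R] in
theorem supportDim_transfer [Module.Finite L M] : Module.supportDim L M = Module.supportDim R N := by
  letI := φ.toAlgebra
  letI : Module L N := Module.compHom N φ
  haveI : IsScalarTower L R N := IsScalarTower.of_algebraMap_smul fun _ _ => rfl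
  let E : M ≃ₗ[L] N := { e with map_smul' := he }
  haveI : Module.Finite L N := Module.Finite.equiv E
  haveI : Module.Finite R N := Module.Finite.of_restrictScalars_finite L R N
  exact (Module.supportDim_eq_of_equiv E).trans (Groth.Agent.FlatSerre.supportDim_eq_of_surjective N hφ).symm

/-- Invariants of localisations along a semilinear isomorphism. -/
theorem localization_transfer [Module.Finite L M] (q' : Ideal R) [q'.IsPrime] :
    depth (Localization.AtPrime (q'.comap φ)) (LocalizedModule (q'.comap φ).primeCompl M) =
      depth (Localization.AtPrime q') (LocalizedModule q'.primeCompl N) ∧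
    Module.supportDim (Localization.AtPrime (q'.comap φ)) (LocalizedModule (q'.comap φ).primeCompl M) =
      Module.supportDim (Localization.AtPrime q') (LocalizedModule q'.primeCompl N) := by
  letI := φ.toAlgebra
  letI : Module L N := Module.compHom N φ
  haveI : IsScalarTower L R N := IsScalarTower.of_algebraMap_smul fun _ _ => rfl
  let E : M ≃ₗ[L] N := { e with map_smul' := he }
  haveI : Module.Finite L N := Module.Finite.equiv E
  haveI : Module.Finite R N := Module.Finite.of_restrictScalars_finite L R N
  let q := q'.comap φ
  let ψ : Localization.AtPrime q →+* Localization.AtPrime q' := Localization.localRingHom q q' φ rfl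
  have hψ : Function.Surjective ψ := by
    intro z
    obtain ⟨a, s, rfl⟩ := IsLocalization.exists_mk'_eq q'.primeCompl z
    obtain ⟨a, rfl⟩ := hφ a
    obtain ⟨s', hs'⟩ := hφ (s : R)
    have hsq : s' ∈ q.primeCompl := fun h => s.2 (hs' ▸ h)
    refine ⟨IsLocalization.mk' _ a ⟨s', hsq⟩, ?_⟩
    rw [Localization.localRingHom_mk']
    congr 1
    exact Subtype.ext hs'
  let N' := LocalizedModule q'.primeCompl N
  letI : Module (Localization.AtPrime q) N' := Module.compHom N' ψ
  haveI : IsScalarTower L R N' := IsScalarTower.of_algebraMap_smul fun a n => by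
    induction n using LocalizedModule.induction_on with
    | _ m t =>
      rw [LocalizedModule.smul'_mk, LocalizedModule.smul'_mk, algebraMap_smul]
  haveI : IsScalarTower L (Localization.AtPrime q) N' := IsScalarTower.of_algebraMap_smul fun a n => by
    show ψ (algebraMap L _ a) • n = a • n
    rw [Localization.localRingHom_to_map, algebraMap_smul]
    exact algebraMap_smul R a n
  let G : M →ₗ[L] N' :=
    { toFun := fun m => LocalizedModule.mkLinearMap q'.primeCompl N (e m)
      map_add' := fun x y => by rw [map_add, map_add]
      map_smul' := fun a m => by rw [he, map_smul]; exact algebraMap_smul R a _ }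
  haveI : IsLocalizedModule q.primeCompl G := by
    refine ⟨fun a => ?_, fun n => ?_, fun {m₁ m₂} h => ?_⟩
    · have hu : IsUnit (algebraMap L (Localization.AtPrime q) a) := IsLocalization.map_units _ a
      rw [Module.End.isUnit_iff]
      have := hu.smul_bijective (β := N')
      convert this using 1
      funext n
      exact (algebraMap_smul (Localization.AtPrime q) (a : L) n).symm
    · obtain ⟨⟨x, s⟩, hx⟩ := IsLocalizedModule.surj q'.primeCompl (LocalizedModule.mkLinearMap q'.primeCompl N) n
      obtain ⟨s', hs'⟩ := hφ (s : R)
      obtain ⟨m, rfl⟩ := e.surjective x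
      refine ⟨⟨m, ⟨s', fun h => s.2 (hs' ▸ h)⟩⟩, ?_⟩
      show s' • n = LocalizedModule.mkLinearMap q'.primeCompl N (e m)
      rw [← algebraMap_smul R s' n]
      exact (congrArg (· • n) hs').trans hx
    · obtain ⟨c, hc⟩ := IsLocalizedModule.exists_of_eq (S := q'.primeCompl)
        (f := LocalizedModule.mkLinearMap q'.primeCompl N) h
      obtain ⟨c', hc'⟩ := hφ (c : R)
      refine ⟨⟨c', fun h => c.2 (hc' ▸ h)⟩, e.injective ?_⟩
      show e (c' • m₁) = e (c' • m₂)
      rw [he, he, hc']
      exact hc
  let I := (IsLocalizedModule.iso q.primeCompl G).extendScalarsOfIsLocalization q.primeCompl (Localization.AtPrime q)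
  haveI : Module.Finite (Localization.AtPrime q) (LocalizedModule q.primeCompl M) := inferInstance
  exact ⟨depth_transfer ψ hψ I.toAddEquiv fun a m => I.map_smul a m,
    supportDim_transfer ψ hψ I.toAddEquiv fun a m => I.map_smul a m⟩

theorem hasSk_transfer [Module.Finite L M] (k : ℕ) : HasSk k L M ↔ HasSk k R N := by
  letI := φ.toAlgebra
  letI : Module L N := Module.compHom N φ
  haveI : IsScalarTower L R N := IsScalarTower.of_algebraMap_smul fun _ _ => rfl
  let E : M ≃ₗ[L] N := { e with map_smul' := he }
  haveI : Module.Finite L N := Module.Finite.equiv E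
  haveI : Module.Finite R N := Module.Finite.of_restrictScalars_finite L R N
  have key : ∀ (q' : Ideal R) [q'.IsPrime], _ := fun q' _ => localization_transfer φ hφ e he q'
  refine ⟨fun h q' _ => ?_, fun h q _ => ?_⟩
  · rw [← (key q').1, ← (key q').2]
    exact h (q'.comap φ)
  · by_cases hq : RingHom.ker φ ≤ q
    · haveI := Ideal.map_isPrime_of_surjective hφ hq
      have hc : (q.map φ).comap φ = q := (Ideal.comap_map_of_surjective φ hφ q).trans
        (sup_eq_left.mpr ((RingHom.ker_eq_comap_bot φ).symm.le.trans hq))
      have := h (q.map φ)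
      rw [← (key (q.map φ)).1, ← (key (q.map φ)).2] at this
      convert this <;> exact hc.symm
    · obtain ⟨r, hr, hrq⟩ := Set.not_subset.mp hq
      haveI : Subsingleton (LocalizedModule q.primeCompl M) := by
        rw [LocalizedModule.subsingleton_iff]
        intro m
        refine ⟨r, hrq, e.injective ?_⟩
        rw [he, show φ r = 0 from hr, zero_smul, map_zero]
      rw [Module.supportDim_eq_bot_of_subsingleton]
      simp

omit [IsLocalRing L] [IsLocalRing R] in
theorem isEquidimModule_transfer [Module.Finite L M] :
    EGA4.IsEquidimModule L M ↔ EGA4.IsEquidimModule R N := by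
  have hann : Module.annihilator L M = (Module.annihilator R N).comap φ := by
    ext a
    rw [Ideal.mem_comap, Module.mem_annihilator, Module.mem_annihilator]
    refine ⟨fun h n => ?_, fun h m => e.injective (by rw [he, h, map_zero])⟩
    obtain ⟨m, rfl⟩ := e.surjective n
    rw [← he, h, map_zero]
  unfold EGA4.IsEquidimModule
  rw [hann, Ideal.comap_minimalPrimes_eq_of_surjective hφ, Set.forall_mem_image,
    supportDim_transfer φ hφ e he]
  refine forall₂_congr fun q' _ => ?_
  rw [ringKrullDim_eq_of_ringEquiv ((Ideal.quotEquivOfEq (by rw [← RingHom.comap_ker, Ideal.mk_ker])).trans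
    (RingHom.quotientKerEquivOfSurjective (f := (Ideal.Quotient.mk q').comp φ)
      (Ideal.Quotient.mk_surjective.comp hφ)))]

theorem isAssociatedPrime_transfer (h : IsAssociatedPrime (maximalIdeal R) N) [IsNoetherianRing L]
    [Module.Finite L M] : depth L M = 0 := by
  rw [depth_transfer φ hφ e he]
  letI := φ.toAlgebra
  letI : Module L N := Module.compHom N φ
  haveI : IsScalarTower L R N := IsScalarTower.of_algebraMap_smul fun _ _ => rfl
  let E : M ≃ₗ[L] N := { e with map_smul' := he }
  haveI : Module.Finite L N := Module.Finite.equiv E
  haveI : Module.Finite R N := Module.Finite.of_restrictScalars_finite L R N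
  haveI : IsNoetherianRing R := isNoetherianRing_of_surjective L R φ hφ
  exact depth_eq_zero_iff.mpr h

end Groth.FlatDescent.FibreDepth
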